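import Mathlib

/-!
Automorphisms of generalized quaternion 2-groups: the elements whose square is the involution (row 3310).
-/

set_option autoImplicit false

namespace Cfsg.Lib.RankOneInter.Quat

open QuaternionGroup

/-- The quaternion group of order eight. -/
theorem eight_sq : ∀ y : QuaternionGroup 2, y * y = 1 ∨ y * y = a 2 := by decide

theorem invol_eq {n : ℕ} [NeZero n] {y : QuaternionGroup n} (h2 : y * y = 1) (h1 : y ≠ 1) : y = a (n : ZMod (2 * n)) := by
  cases y with
  | a k =>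
    rw [a_mul_a, one_def] at h2
    have hk := a.inj h2
    have hk0 : k ≠ 0 := fun e => h1 (by rw [e, one_def])
    refine congrArg a (ZMod.val_injective _ ?_)
    rw [ZMod.val_natCast, Nat.mod_eq_of_lt (by have := NeZero.pos n; omega)]
    rw [← ZMod.natCast_zmod_val k, ← Nat.cast_add, ZMod.natCast_eq_zero_iff] at hk
    obtain ⟨c, hc⟩ := hk
    have hlt := k.val_lt
    have hpos : 0 < k.val := Nat.pos_of_ne_zero fun e => hk0 ((ZMod.val_eq_zero k).1 e)
    rcases c with _ | _ | c
    · omega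
    · omega
    · have : 2 * (2 * n) ≤ 2 * n * (c + 1 + 1) := by nlinarith
      omega
  | xa k =>
    rw [xa_mul_xa, one_def] at h2
    have hk := a.inj h2
    rw [add_sub_cancel_right, ZMod.natCast_eq_zero_iff] at hk
    have := Nat.le_of_dvd (NeZero.pos n) hk
    have := NeZero.pos n
    omega

variable {h : ℕ}

/-- With `m = 2 * h`, the elements squaring to the involution are `a h`, its inverse, and the elements outside
the cyclic subgroup. -/
theorem sq_cases (hh : 0 < h) {y : QuaternionGroup (2 * h)} (hy : y * y = a ((2 * h : ℕ) : ZMod (2 * (2 * h)))) :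
    y = a (h : ZMod (2 * (2 * h))) ∨ y = a (h : ZMod (2 * (2 * h))) * a ((2 * h : ℕ) : ZMod (2 * (2 * h))) ∨
      ∃ j, y = xa j := by
  haveI : NeZero (2 * h) := ⟨by omega⟩
  cases y with
  | a k =>
    rw [a_mul_a] at hy
    have hk := a.inj hy
    rw [← ZMod.natCast_zmod_val k, ← Nat.cast_add, ZMod.natCast_eq_natCast_iff', Nat.mod_eq_of_lt (by omega : 2 * h < 2 * (2 * h))] at hk
    have hlt := k.val_lt
    have hk' : k.val = h ∨ k.val = h + 2 * h := by
      rcases Nat.lt_or_ge (k.val + k.val) (2 * (2 * h)) with hl | hl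
      · rw [Nat.mod_eq_of_lt hl] at hk; omega
      · rw [Nat.mod_eq_sub_mod hl, Nat.mod_eq_of_lt (by omega)] at hk; omega
    rcases hk' with e | e
    · exact Or.inl (congrArg a ((ZMod.natCast_zmod_val k).symm.trans (congrArg Nat.cast e)))
    · refine Or.inr (Or.inl ?_)
      rw [a_mul_a, ← Nat.cast_add]
      exact congrArg a ((ZMod.natCast_zmod_val k).symm.trans (congrArg Nat.cast e))
  | xa k => exact Or.inr (Or.inr ⟨k, rfl⟩)

theorem four_h : (h : ZMod (2 * (2 * h))) + h + (h + h) = 0 := by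
  rw [← Nat.cast_add, ← Nat.cast_add, show h + h + (h + h) = 2 * (2 * h) by ring, ZMod.natCast_self]

/-- The elements squaring to the involution commute with `a h` up to the involution. -/
theorem comm_i (y : QuaternionGroup (2 * h)) : y * a (h : ZMod (2 * (2 * h))) = a (h : ZMod (2 * (2 * h))) * y ∨
    y * a (h : ZMod (2 * (2 * h))) = a (h : ZMod (2 * (2 * h))) * y * a ((2 * h : ℕ) : ZMod (2 * (2 * h))) := by
  cases y with
  | a k => exact Or.inl (by rw [a_mul_a, a_mul_a, add_comm])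
  | xa k =>
    refine Or.inr ?_
    rw [xa_mul_a, a_mul_xa, xa_mul_a]
    refine congrArg xa ?_
    push_cast
    ring

/-- An injective endomorphism fixes `a h` up to the involution, for `h` even. -/
theorem map_i (hh : 0 < h) (h2 : 2 ∣ h) (φ : QuaternionGroup (2 * h) →* QuaternionGroup (2 * h))
    (hφ : Function.Injective φ) :
    φ (a (h : ZMod (2 * (2 * h)))) = a (h : ZMod (2 * (2 * h))) ∨
      φ (a (h : ZMod (2 * (2 * h)))) = a (h : ZMod (2 * (2 * h))) * a ((2 * h : ℕ) : ZMod (2 * (2 * h))) := by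
  haveI : NeZero (2 * h) := ⟨by omega⟩
  obtain ⟨c, hc⟩ := h2
  have hne : ∀ r : ℕ, 0 < r → r < 2 * (2 * h) → (a (r : ZMod (2 * (2 * h))) : QuaternionGroup (2 * h)) ≠ 1 := by
    intro r hr hr' e
    rw [one_def] at e
    have := Nat.le_of_dvd hr ((ZMod.natCast_eq_zero_iff _ _).1 (a.inj e))
    omega
  have hzz : (a (h : ZMod (2 * (2 * h))) : QuaternionGroup (2 * h)) * a (h : ZMod (2 * (2 * h))) =
      a ((2 * h : ℕ) : ZMod (2 * (2 * h))) := by rw [a_mul_a, ← Nat.cast_add, two_mul]
  have hz : φ (a ((2 * h : ℕ) : ZMod (2 * (2 * h)))) = a ((2 * h : ℕ) : ZMod (2 * (2 * h))) := by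
    refine invol_eq ?_ fun e => hne (2 * h) (by omega) (by omega) (hφ (e.trans (map_one φ).symm))
    rw [← map_mul, a_mul_a, show ((2 * h : ℕ) : ZMod (2 * (2 * h))) + ((2 * h : ℕ) : ZMod (2 * (2 * h))) = 0 by
      rw [← Nat.cast_add, ← two_mul, ZMod.natCast_self], ← one_def, map_one]
  have hsq : φ (a (h : ZMod (2 * (2 * h)))) * φ (a (h : ZMod (2 * (2 * h)))) = a ((2 * h : ℕ) : ZMod (2 * (2 * h))) := by
    rw [← map_mul, hzz, hz]
  rcases sq_cases hh hsq with e | e | ⟨j, hj⟩
  · exact Or.inl e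
  · exact Or.inr e
  · exfalso
    have hi : (a (h : ZMod (2 * (2 * h))) : QuaternionGroup (2 * h)) = a (c : ZMod (2 * (2 * h))) * a (c : ZMod (2 * (2 * h))) := by
      rw [a_mul_a, ← Nat.cast_add]; congr 2; omega
    rw [hi, map_mul] at hj
    rcases e : φ (a (c : ZMod (2 * (2 * h)))) with q | q <;> rw [e] at hj
    · rw [a_mul_a] at hj; cases hj
    · rw [xa_mul_xa] at hj; cases hj

/-- An involutory automorphism centralising `a h` fixes some element outside the cyclic subgroup up to the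
involution, for `h` even. -/
theorem fix_axis {n : ℕ} (hn : h = 2 ^ (n + 1)) (φ : QuaternionGroup (2 * h) →* QuaternionGroup (2 * h))
    (hφ : ∀ x, φ (φ x) = x) (hi : φ (a (h : ZMod (2 * (2 * h)))) = a (h : ZMod (2 * (2 * h)))) :
    ∃ j, φ (xa j) = xa j ∨ φ (xa j) = xa j * a ((2 * h : ℕ) : ZMod (2 * (2 * h))) := by
  have hh : 0 < h := hn ▸ Nat.two_pow_pos _
  haveI : NeZero (2 * h) := ⟨by omega⟩
  have hinj : Function.Injective φ := Function.LeftInverse.injective hφ
  have hmove : ∀ j : ZMod (2 * (2 * h)), a (h : ZMod (2 * (2 * h))) * xa j ≠ xa j * a (h : ZMod (2 * (2 * h))) := by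
    intro j e
    rw [a_mul_xa, xa_mul_a] at e
    have e2 : ((h + h : ℕ) : ZMod (2 * (2 * h))) = 0 := by
      push_cast
      linear_combination - xa.inj e
    have := Nat.le_of_dvd (by omega) ((ZMod.natCast_eq_zero_iff _ _).1 e2)
    omega
  obtain ⟨u, hu⟩ : ∃ u, φ (a 1) = a u := by
    rcases e : φ (a 1) with q | q
    · exact ⟨q, rfl⟩
    · refine absurd ?_ (hmove q)
      conv_lhs => rw [← hi, ← e, ← map_mul, a_mul_a, add_comm, ← a_mul_a, map_mul, hi, e]
  have ha : ∀ r : ℕ, φ (a (r : ZMod (2 * (2 * h)))) = a ((r : ZMod (2 * (2 * h))) * u) := by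
    intro r
    induction r with
    | zero => rw [Nat.cast_zero, zero_mul, ← one_def, map_one]
    | succ r ih => rw [Nat.cast_succ, ← a_mul_a, map_mul, ih, hu, a_mul_a, add_one_mul]
  obtain ⟨v, hv⟩ : ∃ v, φ (xa 0) = xa v := by
    rcases e : φ (xa 0) with q | q
    · refine absurd (hinj ?_) (hmove 0)
      rw [map_mul, map_mul, hi, e, a_mul_a, a_mul_a, add_comm]
    · exact ⟨q, rfl⟩
  have h1 : (h : ZMod (2 * (2 * h))) * u = h := a.inj ((ha h).symm.trans hi)
  have h2' : v + v * u = 0 := by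
    have := hφ (xa 0)
    rw [hv, show (xa v : QuaternionGroup (2 * h)) = xa 0 * a v by rw [xa_mul_a, zero_add], map_mul, hv,
      ← ZMod.natCast_zmod_val v, ha, ZMod.natCast_zmod_val, xa_mul_a] at this
    exact xa.inj this
  -- `u` is one modulo four
  have hu4 : ∃ k, u.val = 4 * k + 1 := by
    rw [← ZMod.natCast_zmod_val u, ← Nat.cast_mul] at h1
    have := (ZMod.natCast_eq_natCast_iff' _ _ _).1 h1
    revert this
    generalize u.val = uv
    intro this
    rw [show 2 * (2 * h) = h * 4 by ring, Nat.mul_mod_mul_left, Nat.mod_eq_of_lt (by omega : h < h * 4)] at this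
    exact ⟨uv / 4, by have := Nat.eq_of_mul_eq_mul_left hh (this.trans (mul_one h).symm); omega⟩
  obtain ⟨k, hk⟩ := hu4
  have hdvd : 2 * (2 * h) ∣ 2 * (v.val * (2 * k + 1)) := by
    rw [← ZMod.natCast_eq_zero_iff]
    have hu' : u = ((4 * k + 1 : ℕ) : ZMod (2 * (2 * h))) := by rw [← hk, ZMod.natCast_zmod_val]
    rw [hu'] at h2'
    push_cast at h2' ⊢
    rw [ZMod.natCast_zmod_val]
    linear_combination h2'
  refine ⟨0, ?_⟩
  have hd : 2 * h ∣ v.val * (2 * k + 1) := Nat.dvd_of_mul_dvd_mul_left two_pos hdvd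
  rw [hv]
  have hcop : Nat.Coprime (2 * k + 1) (2 * h) → v.val = 0 ∨ v.val = 2 * h := fun hco => by
    obtain ⟨d, hd'⟩ := hco.symm.dvd_of_dvd_mul_right hd
    have hlt := v.val_lt
    rcases d with _ | _ | d
    · left; omega
    · right; omega
    · have : 2 * (2 * h) ≤ 2 * h * (d + 1 + 1) := by nlinarith
      omega
  have hco : Nat.Coprime (2 * k + 1) (2 * h) := by
    rw [hn, ← pow_succ']
    exact Nat.Coprime.pow_right _ (Nat.coprime_two_right.2 ⟨k, rfl⟩)
  rcases hcop hco with e | e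
  · exact Or.inl (by rw [(ZMod.val_eq_zero v).1 e])
  · refine Or.inr ?_
    rw [xa_mul_a, zero_add]
    exact congrArg xa ((ZMod.natCast_zmod_val v).symm.trans (congrArg Nat.cast e))

end Cfsg.Lib.RankOneInter.Quat
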