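import Cfsg.Agent.RankOneInter.One
import Cfsg.Agent.RankOneInter.Quat
import Cfsg.Agent.S0107

/-!
A single component with quaternion Sylow 2-subgroups and 2-core of order two: then the Sylow 2-subgroups of the
whole group are quaternion (row 3310).
-/

set_option autoImplicit false
set_option linter.unusedSectionVars false
set_option linter.style.haveILetI false

namespace Cfsg.Lib.RankOneInter

open Subgroup Cfsg.Lib.CyclicInter
open scoped Pointwise

universe u

/-- A simple nonabelian group is generated by its elements of odd order. -/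
theorem pResidual_top {X : Type u} [Group X] [Finite X] [IsSimpleGroup X] (hna : ¬ IsMulCommutative X) :
    Cfsg.pResidual 2 X = ⊤ := by
  haveI : Fact (Nat.Prime 2) := ⟨Nat.prime_two⟩
  have hN : (Cfsg.pResidual 2 X).Normal := by
    refine ⟨fun x hx g => ?_⟩
    induction hx using closure_induction with
    | mem a ha =>
      refine subset_closure ?_
      show Nat.Coprime (orderOf (g * a * g⁻¹)) 2
      rwa [← MulAut.conj_apply, MulEquiv.orderOf_eq]
    | one => simp
    | mul a b _ _ h1 h2 => rw [← conj_mul]; exact mul_mem h1 h2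
    | inv a _ h1 => rw [← conj_inv]; exact inv_mem h1
  rcases IsSimpleGroup.eq_bot_or_eq_top_of_normal _ hN with h | h
  swap
  · exact h
  exfalso
  have hp : IsPGroup 2 X := by
    intro x
    obtain ⟨k, m, hm', hk⟩ := Nat.exists_eq_pow_mul_and_not_dvd (orderOf_pos x).ne' 2 (by norm_num)
    refine ⟨k, ?_⟩
    have : x ^ 2 ^ k ∈ Cfsg.pResidual 2 X := subset_closure (by
      show Nat.Coprime (orderOf (x ^ 2 ^ k)) 2
      rw [orderOf_pow_of_dvd (by positivity) (hk ▸ dvd_mul_right _ _), hk,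
        Nat.mul_div_cancel_left _ (Nat.two_pow_pos k)]
      exact ((Nat.prime_two.coprime_iff_not_dvd).2 hm').symm)
    rwa [h, mem_bot] at this
  haveI := hp.isNilpotent
  exact hna ⟨⟨fun a b => (IsSimpleGroup.comm_iff_isSolvable.2 inferInstance) a b⟩⟩

/-- Two facts on the quaternion group of order eight. -/
theorem quat_eight : ∀ x y : QuaternionGroup 2, x * x = QuaternionGroup.a 2 → y * y = QuaternionGroup.a 2 →
    y = x ∨ y = x * QuaternionGroup.a 2 ∨
      (x * y * (x * y) = QuaternionGroup.a 2 ∧ y * x = x * y * QuaternionGroup.a 2 ∧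
        ∀ w : QuaternionGroup 2, w ∈ [1, x, y, x * y] ∨ w * QuaternionGroup.a 2 ∈ [1, x, y, x * y]) := by decide

variable {G : Type u} [Group G] [Finite G] {K : Subgroup G}

/-- The setting: the quaternion Sylow subgroup `S ⊓ K` and the 2-core `{1, z}`. -/
structure Small (S : Sylow 2 G) (K : Subgroup G) (z : G) : Prop where
  one : One K
  h4 : ¬ FourIn ((S : Subgroup G) ⊓ K)
  z_sq : z * z = 1
  z_ne : z ≠ 1
  z_mem : z ∈ K
  z_core : z ∈ Cfsg.pCore 2 G
  core : ∀ q ∈ Cfsg.pCore 2 G, q = 1 ∨ q = z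
  centre : ∀ x : G, x ∈ K → (∀ k ∈ K, k * x = x * k) → x = 1 ∨ x = z

namespace Small

variable {S : Sylow 2 G} {z : G} (s : Small S K z)
include s

local notation "π" => QuotientGroup.mk' (Cfsg.pCore 2 G)

theorem z_comm (g : G) : g * z = z * g := by
  rcases s.core _ ((inferInstance : (Cfsg.pCore 2 G).Normal).conj_mem z s.z_core g) with e | e
  · exact absurd (conj_eq_one_iff.1 e) s.z_ne
  · exact mul_inv_eq_iff_eq_mul.1 e

theorem π_eq {x y : G} : π x = π y ↔ x = y ∨ x = y * z := by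
  constructor
  · intro e
    rcases s.core _ (QuotientGroup.eq.1 e.symm : y⁻¹ * x ∈ Cfsg.pCore 2 G) with h | h
    · exact Or.inl (inv_mul_eq_one.1 h).symm
    · exact Or.inr (inv_mul_eq_iff_eq_mul.1 h)
  · rintro (rfl | rfl)
    · rfl
    · rw [map_mul, show π z = 1 from (QuotientGroup.eq_one_iff z).2 s.z_core, mul_one]

theorem π_z : π z = 1 := (QuotientGroup.eq_one_iff z).2 s.z_core

theorem z_sylow : z ∈ (S : Subgroup G) := Hyp.pCore_le S s.z_core

theorem z_inter : z ∈ (S : Subgroup G) ⊓ K := ⟨s.z_sylow, s.z_mem⟩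

theorem invol {x : G} (hxS : x ∈ (S : Subgroup G)) (hxK : x ∈ K) (hx : x * x = 1) : x = 1 ∨ x = z :=
  eq_of_not_fourIn s.h4 s.z_inter s.z_sq s.z_ne ⟨hxS, hxK⟩ hx (s.z_comm x)

theorem root {x : G} (hxS : x ∈ (S : Subgroup G)) (hxK : x ∈ K) (hx : π x * π x = 1) (hx1 : π x ≠ 1) :
    x * x = z := by
  rw [← map_mul, ← map_one π, s.π_eq, one_mul] at hx
  refine hx.resolve_left fun e => hx1 ?_
  rcases s.invol hxS hxK e with rfl | rfl
  · exact map_one _
  · exact s.π_z

theorem normalises {x g : G} (hxS : x ∈ (S : Subgroup G)) (hxK : x ∉ K) (hx : x * x = 1)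
    (hg : π (g * x * g⁻¹) = π x) : g ∈ normalizer ((S : Subgroup G) : Set G) := by
  refine s.one.hyp.ri.mem_normalizer hxS s.z_sylow hx s.z_sq (fun e => hxK (e ▸ one_mem K)) s.z_ne
    (fun e => hxK (e ▸ s.z_mem)) (s.z_comm x) ?_ ?_
  · rcases s.π_eq.1 hg with e | e <;> rw [e]
    · exact hxS
    · exact mul_mem hxS s.z_sylow
  · rw [s.z_comm, mul_inv_cancel_right]; exact s.z_sylow

omit s in
theorem mem_of_normalizer {g : G} (hg : g ∈ normalizer ((S : Subgroup G) : Set G)) {j : ℕ} (hj : g ^ 2 ^ j = 1) :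
    g ∈ (S : Subgroup G) := by
  haveI : Fact (Nat.Prime 2) := ⟨Nat.prime_two⟩
  have hp : IsPGroup 2 ↥(zpowers g) := by
    rintro ⟨_, r, rfl⟩
    exact ⟨j, Subtype.ext (by
      show (g ^ r) ^ 2 ^ j = 1
      rw [← zpow_natCast, ← zpow_mul, mul_comm, zpow_mul, zpow_natCast, hj, one_zpow])⟩
  have hle : zpowers g ≤ normalizer ((S : Subgroup G) : Set G) := zpowers_le.2 hg
  have h := S.3 (IsPGroup.to_sup_of_normal_right' hp S.2 hle) le_sup_right
  exact h.le (mem_sup_left (mem_zpowers g))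

/-- An involution outside the component cannot fix an element conjugate to a central one of the Sylow
subgroup, unless the latter is central as well. -/
theorem no_axis {i b a t : G} (hb : b ∈ (S : Subgroup G)) (ha : a ∈ (S : Subgroup G))
    (hab : π (a * b * a⁻¹) ≠ π b) (hi : ∀ x ∈ (S : Subgroup G), π (x * i * x⁻¹) = π i)
    (hk : ∃ k : G, π (k * i * k⁻¹) = π b) (htS : t ∈ (S : Subgroup G)) (htK : t ∉ K) (ht : t * t = 1)
    (htb : π (t * b * t⁻¹) = π b) : False := by
  classical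
  haveI : Fact (Nat.Prime 2) := ⟨Nat.prime_two⟩
  obtain ⟨k, hk⟩ := hk
  set D : Subgroup G := (centralizer ({π b} : Set (G ⧸ Cfsg.pCore 2 G))).comap π with hD
  have hmem : ∀ g : G, g ∈ D ↔ π (g * b * g⁻¹) = π b := fun g => by
    rw [hD, mem_comap, mem_centralizer_singleton_iff, map_mul, map_mul, map_inv, mul_inv_eq_iff_eq_mul]
  have hle : ((k • S : Sylow 2 G) : Subgroup G) ≤ D := fun x hx => by
    rw [hmem]
    have h := hi _ ((mem_smul_iff S k x).1 hx)
    rw [map_mul, map_mul, map_inv] at h hk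
    rw [map_mul, map_mul, map_inv, ← hk]
    rw [map_mul, map_mul, map_inv] at h
    calc π x * (π k * π i * (π k)⁻¹) * (π x)⁻¹
        = π k * ((π k)⁻¹ * π x * π k * π i * ((π k)⁻¹ * π x * π k)⁻¹) * (π k)⁻¹ := by group
      _ = π k * π i * (π k)⁻¹ := by rw [h]
  have htp : IsPGroup 2 ↥(zpowers (⟨t, (hmem t).2 htb⟩ : D)) := by
    rintro ⟨_, r, rfl⟩
    exact ⟨1, Subtype.ext (by
      show ((⟨t, (hmem t).2 htb⟩ : D) ^ r) ^ 2 ^ 1 = 1
      rw [← zpow_natCast, ← zpow_mul, mul_comm, zpow_mul, zpow_natCast, pow_one, pow_two,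
        show (⟨t, (hmem t).2 htb⟩ : D) * ⟨t, (hmem t).2 htb⟩ = 1 from Subtype.ext ht, one_zpow])⟩
  obtain ⟨R, hR⟩ := htp.exists_le_sylow
  obtain ⟨d, hd⟩ := MulAction.exists_smul_eq D ((k • S : Sylow 2 G).subtype hle) R
  have hmemR : (⟨t, (hmem t).2 htb⟩ : D) ∈ (d • ((k • S : Sylow 2 G).subtype hle) : Sylow 2 D) := by
    rw [hd]; exact hR (mem_zpowers _)
  have ht' : t ∈ ((((d : G) * k) • S : Sylow 2 G) : Subgroup G) := by
    have h1 : (⟨t, (hmem t).2 htb⟩ : D) ∈ MulAut.conj d • (((k • S : Sylow 2 G).subtype hle : Sylow 2 D) : Subgroup D) :=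
      hmemR
    rw [mem_pointwise_smul_iff_inv_smul_mem, ← map_inv, Sylow.coe_subtype, mem_subgroupOf] at h1
    have h2 : (d : G)⁻¹ * t * d ∈ ((k • S : Sylow 2 G) : Subgroup G) := by simpa using h1
    refine (mem_smul_iff S ((d : G) * k) t).2 ?_
    have := (mem_smul_iff S k _).1 h2
    rwa [mul_inv_rev, show k⁻¹ * (d : G)⁻¹ * t * ((d : G) * k) = k⁻¹ * ((d : G)⁻¹ * t * d) * k by group]
  have hS : S = ((d : G) * k) • S := s.one.hyp.ri _ _ ⟨t, z, ⟨htS, ht'⟩, ⟨s.z_sylow, Hyp.pCore_le _ s.z_core⟩, ht,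
    s.z_sq, fun e => htK (e ▸ one_mem K), s.z_ne, fun e => htK (e ▸ s.z_mem), s.z_comm t⟩
  refine hab ((hmem a).1 ?_)
  have h3 : a ∈ ((((d : G) * k) • S : Sylow 2 G) : Subgroup G) := hS ▸ ha
  have h4 := (mem_smul_iff S _ a).1 h3
  have h5 : (d : G)⁻¹ * a * d ∈ D := hle ((mem_smul_iff S k _).2 (by
    rwa [mul_inv_rev, show k⁻¹ * (d : G)⁻¹ * a * ((d : G) * k) = k⁻¹ * ((d : G)⁻¹ * a * d) * k by group] at h4))
  have := D.mul_mem (D.mul_mem d.2 h5) (D.inv_mem d.2)
  rwa [show (d : G) * ((d : G)⁻¹ * a * d) * (d : G)⁻¹ = a by group] at this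

omit s in
theorem conj_inter (hK : K.Normal) {x y : G} (hx : x ∈ (S : Subgroup G)) (hy : y ∈ (S : Subgroup G) ⊓ K) :
    x * y * x⁻¹ ∈ (S : Subgroup G) ⊓ K :=
  ⟨(S : Subgroup G).mul_mem ((S : Subgroup G).mul_mem hx hy.1) ((S : Subgroup G).inv_mem hx),
    hK.conj_mem y hy.2 x⟩

/-- The element of order four attached to an outer involution. -/
theorem axis {t : G} (htS : t ∈ (S : Subgroup G)) (htK : t ∉ K) (ht : t * t = 1) :
    ∃ i ∈ (S : Subgroup G) ⊓ K, i * i = z ∧ t * i * t⁻¹ = i * z ∧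
      ∀ y ∈ (S : Subgroup G) ⊓ K, y * y = z →
        (π (t * y * t⁻¹) = π y → π y = π i) ∧ π y * π i = π i * π y := by
  classical
  haveI : Fact (Nat.Prime 2) := ⟨Nat.prime_two⟩
  haveI := bar_simple s.one.comp
  have hKn := s.one.normal
  obtain ⟨P, hP⟩ := exists_sylow s.one.comp S
  rcases cyclic_or_quaternion (S.2.to_le inf_le_left) s.h4 with hc | ⟨n, ⟨e⟩⟩
  · exact absurd hc (inter_noncyclic s.one.comp S)
  have eP : ↥(P : Subgroup ↥K) ≃* QuaternionGroup (2 ^ (n + 1)) :=
    (((P : Subgroup ↥K).equivMapOfInjective _ K.subtype_injective).trans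
      (MulEquiv.subgroupCongr (map_sylow S hP))).trans e
  rw [pow_succ'] at e
  have htinv : t⁻¹ = t := inv_eq_of_mul_eq_one_right ht
  -- transfer to the quaternion group
  set f : QuaternionGroup (2 * 2 ^ n) → G := fun w => ((e.symm w : ↥((S : Subgroup G) ⊓ K)) : G) with hf
  have hfm : ∀ v w, f (v * w) = f v * f w := fun v w => by simp [hf]
  have hf1 : f 1 = 1 := by simp [hf]
  have hfi : ∀ {v w}, f v = f w → v = w := fun h => e.symm.injective (Subtype.ext h)
  have hfs : ∀ y ∈ (S : Subgroup G) ⊓ K, ∃ w, f w = y := fun y hy => ⟨e ⟨y, hy⟩, by simp [hf]⟩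
  have hfmem : ∀ w, f w ∈ (S : Subgroup G) ⊓ K := fun w => (e.symm w).2
  haveI : NeZero (2 * 2 ^ n) := ⟨by positivity⟩
  set zq : QuaternionGroup (2 * 2 ^ n) :=
    QuaternionGroup.a ((2 * 2 ^ n : ℕ) : ZMod (2 * (2 * 2 ^ n))) with hzq
  have hfz : f zq = z := by
    obtain ⟨w, hw⟩ := hfs z s.z_inter
    rw [← hw, Quat.invol_eq (y := w) (hfi (by rw [hfm, hw, hf1, s.z_sq])) fun e1 => s.z_ne (by rw [← hw, e1, hf1])]
  have hconj : ∀ {x : G}, x ∈ (S : Subgroup G) →
      ∃ φ : QuaternionGroup (2 * 2 ^ n) →* QuaternionGroup (2 * 2 ^ n), ∀ w, f (φ w) = x * f w * x⁻¹ := by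
    intro x hx
    refine ⟨MonoidHom.mk' (fun w => e ⟨x * f w * x⁻¹, conj_inter hKn hx (hfmem w)⟩) fun v w => ?_, fun w => ?_⟩
    · rw [← map_mul]
      exact congrArg e (Subtype.ext (by
        show x * f (v * w) * x⁻¹ = x * f v * x⁻¹ * (x * f w * x⁻¹)
        rw [hfm]; group))
    · simp [hf]
  obtain ⟨φ, hφ⟩ := hconj htS
  have hφφ : ∀ w, φ (φ w) = w := fun w => hfi (by
    rw [hφ, hφ, htinv, show t * (t * f w * t) * t = t * t * f w * (t * t) by group, ht, one_mul, mul_one])
  have hπf : ∀ {v w}, π (f v) = π (f w) ↔ v = w ∨ v = w * zq := by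
    intro v w
    rw [s.π_eq, ← hfz, ← hfm]
    exact or_congr ⟨hfi, congrArg f⟩ ⟨hfi, congrArg f⟩
  rcases n with _ | n
  · -- the group of order eight
    have hz2 : zq = QuaternionGroup.a 2 := rfl
    have hU : ∀ x ∈ (P : Subgroup ↥K).map (QuotientGroup.mk' (center ↥K)), x * x = 1 := by
      rintro _ ⟨x, hx, rfl⟩
      rw [hP] at hx
      obtain ⟨w, hw⟩ := hfs x ⟨hx, x.2⟩
      rw [← map_mul]
      refine (QuotientGroup.eq_one_iff _).2 (mem_center_iff.2 fun u => Subtype.ext ?_)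
      show (u : G) * ((x : G) * x) = (x : G) * x * u
      rw [← hw, ← hfm]
      rcases Quat.eight_sq w with e1 | e1 <;> rw [e1]
      · rw [hf1, mul_one, one_mul]
      · rw [← hz2, hfz]; exact s.z_comm u
    have hnot : ¬ ∀ w, π (f (φ w)) = π (f w) := by
      intro hall
      obtain ⟨k, hk, hkc⟩ := inner_of_fixed s.one.hyp s.one.comp S (P := P) hU htS
        (by rw [normalizer_eq_top (H := K)]; exact mem_top t) fun x hx hxP => by
          rw [hP] at hxP
          obtain ⟨w, hw⟩ := hfs x ⟨hxP, x.2⟩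
          refine QuotientGroup.eq.2 (mem_center_iff.2 fun u => Subtype.ext ?_)
          show (u : G) * ((t * (x : G) * t⁻¹)⁻¹ * x) = (t * (x : G) * t⁻¹)⁻¹ * x * u
          rw [← hw, ← hφ]
          rcases hπf.1 (hall w) with e1 | e1 <;> rw [e1]
          · rw [inv_mul_cancel, mul_one, one_mul]
          · rw [hfm, hfz, mul_inv_rev, inv_mul_cancel_right, inv_eq_of_mul_eq_one_right s.z_sq]
            exact s.z_comm u
      refine htK ?_
      have hQ := s.one.core_self hkc (mem_centralizer_iff.2 fun q hq => by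
        rcases s.core q hq with rfl | rfl
        · rw [one_mul, mul_one]
        · exact (s.z_comm _).symm)
      have : k * (k⁻¹ * t) ∈ K := by
        refine mul_mem hk ?_
        rcases s.core _ hQ with e1 | e1 <;> rw [e1]
        exacts [one_mem _, s.z_mem]
      rwa [mul_inv_cancel_left] at this
    -- some axis moves
    have hfix : ∀ x y, x * x = zq → y * y = zq → π (f (φ x)) = π (f x) → π (f (φ y)) = π (f y) →
        π (f y) = π (f x) := by
      intro x y hx hy hxf hyf
      rcases quat_eight x y hx hy with e1 | e1 | ⟨-, -, hall⟩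
      · rw [e1]
      · exact hπf.2 (Or.inr e1)
      refine absurd (fun w => ?_) hnot
      have key : ∀ v ∈ [1, x, y, x * y], π (f (φ v)) = π (f v) := by
        intro v hv
        simp only [List.mem_cons, List.not_mem_nil, or_false] at hv
        rcases hv with rfl | rfl | rfl | rfl
        · rw [map_one]
        · exact hxf
        · exact hyf
        · rw [map_mul, hfm, hfm, map_mul, map_mul, hxf, hyf]
      rcases hall w with hw | hw
      · exact key w hw
      · have h1 := key _ hw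
        have hzf : π (f (φ zq)) = 1 := by rw [hφ, hfz, s.z_comm, mul_inv_cancel_right, s.π_z]
        rwa [← hz2, map_mul, hfm, hfm, map_mul, map_mul, hfz, s.π_z, hzf, mul_one, mul_one] at h1
    obtain ⟨c, hc, hcm⟩ : ∃ c, c * c = zq ∧ π (f (φ c)) ≠ π (f c) := by
      have hd : (QuaternionGroup.a 1 : QuaternionGroup 2) * QuaternionGroup.a 1 = zq ∧
          (QuaternionGroup.xa 0 : QuaternionGroup 2) * QuaternionGroup.xa 0 = zq ∧
          (QuaternionGroup.xa 0 : QuaternionGroup 2) ≠ QuaternionGroup.a 1 ∧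
          (QuaternionGroup.xa 0 : QuaternionGroup 2) ≠ QuaternionGroup.a 1 * zq := by
        rw [hz2]; decide
      by_contra hne
      push Not at hne
      rcases hπf.1 (hfix _ _ hd.1 hd.2.1 (hne _ hd.1) (hne _ hd.2.1)) with e1 | e1
      exacts [hd.2.2.1 e1, hd.2.2.2 e1]
    have hφc : φ c * φ c = zq := by
      refine hfi ?_
      rw [hfm, hφ, show t * f c * t⁻¹ * (t * f c * t⁻¹) = t * (f c * f c) * t⁻¹ by group, ← hfm, hc, hfz, s.z_comm,
        mul_inv_cancel_right]
    rcases quat_eight c (φ c) hc hφc with e1 | e1 | ⟨hsq, hcomm, -⟩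
    · exact absurd (congrArg (fun v => π (f v)) e1) hcm
    · exact absurd (hπf.2 (Or.inr e1)) hcm
    refine ⟨f (c * φ c), hfmem _, by rw [← hfm, hsq]; exact hfz, ?_, fun y hy hy2 => ?_⟩
    · rw [← hφ, map_mul, hφφ, hcomm, ← hz2, hfm, hfz]
    · obtain ⟨w, rfl⟩ := hfs y hy
      have hw : w * w = zq := hfi (by rw [hfm, hy2, hfz])
      constructor
      · intro hy'
        rw [← hφ] at hy'
        refine hfix _ _ hsq hw (hπf.2 (Or.inr ?_)) hy'
        rw [map_mul, hφφ]; exact hcomm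
      · rw [← map_mul, ← map_mul, ← hfm, ← hfm]
        rcases quat_eight (c * φ c) w hsq hw with e1 | e1 | ⟨-, h2, -⟩
        · rw [e1]
        · refine hπf.2 (Or.inl ?_)
          rw [e1, ← hsq]
          simp only [mul_assoc]
        · exact hπf.2 (Or.inr h2)
  -- larger quaternion groups: the cyclic subgroup of order four is characteristic
  have hh : 0 < 2 ^ (n + 1) := by positivity
  have h2 : 2 ∣ 2 ^ (n + 1) := dvd_pow_self 2 n.succ_ne_zero
  set iq : QuaternionGroup (2 * 2 ^ (n + 1)) :=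
    QuaternionGroup.a ((2 ^ (n + 1) : ℕ) : ZMod (2 * (2 * 2 ^ (n + 1)))) with hiq
  have hiq2 : iq * iq = zq := by rw [hiq, hzq, QuaternionGroup.a_mul_a, ← Nat.cast_add, two_mul]
  have hi_all : ∀ x ∈ (S : Subgroup G), π (x * f iq * x⁻¹) = π (f iq) := by
    intro x hx
    obtain ⟨ψ, hψ⟩ := hconj hx
    rw [← hψ]
    exact hπf.2 (Quat.map_i hh h2 ψ fun v w hvw => hfi (by
      have := congrArg f hvw
      rw [hψ, hψ] at this
      exact mul_left_cancel (mul_right_cancel this)))
  have hxa : ∀ j, QuaternionGroup.xa j * QuaternionGroup.xa j = zq := fun j => by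
    rw [hzq, QuaternionGroup.xa_mul_xa, add_sub_cancel_right]
  -- one class of involutions in the simple quotient
  have hclass : ∀ j, ∃ k : G, π (k * f iq * k⁻¹) = π (f (QuaternionGroup.xa j)) := by
    intro j
    obtain ⟨-, -, ⟨d⟩⟩ := Cfsg.Lib.GWD.quaternion_quot P (n + 1) eP (noOdd_component s.one.hyp s.one.comp)
    have hord : ∀ w (hwK : f w ∈ K), w * w = zq →
        orderOf (QuotientGroup.mk' (center ↥K) ⟨f w, hwK⟩) = 2 := by
      intro w hwK hw
      refine orderOf_eq_prime ?_ fun e1 => ?_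
      · rw [pow_two, ← map_mul]
        refine (QuotientGroup.eq_one_iff _).2 (mem_center_iff.2 fun u => Subtype.ext ?_)
        show (u : G) * (f w * f w) = f w * f w * u
        rw [← hfm, hw, hfz]
        exact s.z_comm u
      · have hc := mem_center_iff.1 ((QuotientGroup.eq_one_iff _).1 e1)
        have hw2 : f w * f w = z := by rw [← hfm, hw, hfz]
        rcases s.centre (f w) hwK (fun k hk => congrArg Subtype.val (hc ⟨k, hk⟩)) with e2 | e2 <;> rw [e2] at hw2
        · exact s.z_ne (by rw [← hw2, one_mul])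
        · exact s.z_ne (by rw [← hw2, s.z_sq])
    obtain ⟨g, hg⟩ := Cfsg.Agent.S0107.result
      (P.mapSurjective (QuotientGroup.mk'_surjective (center ↥K))) (n + 1 + 1) (by omega) ⟨d⟩
      (pResidual_top (bar_nonab s.one.comp)) _ _ (hord iq (hfmem iq).2 hiq2)
      (hord (QuaternionGroup.xa j) (hfmem _).2 (hxa j))
    obtain ⟨k, rfl⟩ := QuotientGroup.mk'_surjective (center ↥K) g
    rw [← map_inv, ← map_mul, ← map_mul] at hg
    refine ⟨k, ?_⟩
    have hc := mem_center_iff.1 (QuotientGroup.eq.1 hg.symm)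
    rcases s.centre ((f (QuaternionGroup.xa j))⁻¹ * ((k : G) * f iq * (k : G)⁻¹))
      (mul_mem (inv_mem (hfmem _).2) (mul_mem (mul_mem k.2 (hfmem iq).2) (inv_mem k.2)))
      (fun u hu => congrArg Subtype.val (hc ⟨u, hu⟩)) with e2 | e2
    · exact congrArg π (inv_mul_eq_one.1 e2).symm
    · exact s.π_eq.2 (Or.inr (inv_mul_eq_iff_eq_mul.1 e2))
  have hno : ∀ j, π (t * f (QuaternionGroup.xa j) * t⁻¹) ≠ π (f (QuaternionGroup.xa j)) := by
    intro j hj
    refine s.no_axis (hfmem _).1 (hfmem (QuaternionGroup.a 1)).1 (fun e1 => ?_) hi_all (hclass j) htS htK ht hj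
    rw [map_mul, map_mul, map_inv, mul_inv_eq_iff_eq_mul, ← map_mul, ← map_mul, ← hfm, ← hfm] at e1
    have hcast : ∀ r : ℕ, 0 < r → r < 2 * (2 * 2 ^ (n + 1)) → (r : ZMod (2 * (2 * 2 ^ (n + 1)))) ≠ 0 :=
      fun r hr hr' h0 => by
        have := Nat.le_of_dvd hr ((ZMod.natCast_eq_zero_iff _ _).1 h0)
        omega
    have h4 : 2 ≤ 2 ^ (n + 1) := Nat.le_self_pow n.succ_ne_zero 2
    rcases hπf.1 e1 with e2 | e2
    · rw [QuaternionGroup.a_mul_xa, QuaternionGroup.xa_mul_a] at e2
      refine hcast 2 two_pos (by omega) ?_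
      push_cast
      linear_combination - QuaternionGroup.xa.inj e2
    · rw [hzq, QuaternionGroup.a_mul_xa, QuaternionGroup.xa_mul_a, QuaternionGroup.xa_mul_a] at e2
      refine hcast (2 + 2 * 2 ^ (n + 1)) (by omega) (by omega) ?_
      have := QuaternionGroup.xa.inj e2
      push_cast at this ⊢
      linear_combination - this
  refine ⟨f iq, hfmem _, by rw [← hfm, hiq2, hfz], ?_, fun y hy hy2 => ?_⟩
  · rw [← hφ, ← hfz, ← hfm]
    refine congrArg f ((Quat.map_i hh h2 φ (Function.LeftInverse.injective hφφ)).resolve_left fun e1 => ?_)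
    obtain ⟨j, hj⟩ := Quat.fix_axis rfl φ hφφ e1
    exact hno j (by rw [← hφ]; exact hπf.2 hj)
  · obtain ⟨w, rfl⟩ := hfs y hy
    have hw : w * w = zq := hfi (by rw [hfm, hy2, hfz])
    refine ⟨fun hy' => ?_, ?_⟩
    · rcases Quat.sq_cases hh hw with e1 | e1 | ⟨j, rfl⟩
      · exact hπf.2 (Or.inl e1)
      · exact hπf.2 (Or.inr e1)
      · exact absurd hy' (hno j)
    · rw [← map_mul, ← map_mul, ← hfm, ← hfm]
      exact hπf.2 (Quat.comm_i w)

/-- Every element of order four of the component commutes with the axis modulo the 2-core. -/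
theorem comm_axis {t i k : G} (htS : t ∈ (S : Subgroup G)) (htK : t ∉ K) (ht : t * t = 1)
    (hti : t * i * t⁻¹ = i * z) (hii : i * i = z)
    (hy : ∀ y ∈ (S : Subgroup G) ⊓ K, y * y = z →
      (π (t * y * t⁻¹) = π y → π y = π i) ∧ π y * π i = π i * π y)
    (hk : k ∈ K) (hk2 : k * k = z) : π k * π i = π i * π k := by
  classical
  have hKn := s.one.normal
  have hk4 : k ^ 2 ^ 2 = 1 := by
    rw [show (2 : ℕ) ^ 2 = 2 + 2 from rfl, pow_add, pow_two, hk2, s.z_sq]
  set T := π t with hT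
  set Y := π k with hY
  have hTT : T * T = 1 := by rw [hT, ← map_mul, ht, map_one]
  have hYY : Y * Y = 1 := by rw [hY, ← map_mul, hk2, s.π_z]
  have hTi : T⁻¹ = T := inv_eq_of_mul_eq_one_right hTT
  have hYi : Y⁻¹ = Y := inv_eq_of_mul_eq_one_right hYY
  set r := T * Y with hr
  have hrY : r * Y = T := by rw [hr, mul_assoc, hYY, mul_one]
  have hrinv : r⁻¹ = Y * T := by rw [hr, mul_inv_rev, hTi, hYi]
  have hinv : ∀ j : ℕ, T * r ^ j * T⁻¹ = (r ^ j)⁻¹ := fun j => by
    rw [← conj_pow, ← inv_pow]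
    congr 1
    rw [hrinv, hTi, hr, ← mul_assoc, hTT, one_mul]
  have hinvY : ∀ j : ℕ, Y * r ^ j * Y⁻¹ = (r ^ j)⁻¹ := fun j => by
    rw [← conj_pow, ← inv_pow]
    congr 1
    rw [hrinv, hYi, hr, mul_assoc, mul_assoc, hYY, mul_one]
  rcases Nat.even_or_odd (orderOf r) with ⟨M, hM⟩ | ⟨l, hl⟩
  swap
  · -- conjugate involutions
    exfalso
    haveI : (K.map π).Normal := Normal.map hKn _ (QuotientGroup.mk'_surjective _)
    have hTK : T ∈ K.map π := by
      have h1 : r ^ (l + 1) * Y * (r ^ (l + 1))⁻¹ = T := by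
        have h2 : r ^ (l + 1) * r ^ (l + 1) = r := by
          rw [← pow_add, show l + 1 + (l + 1) = orderOf r + 1 by omega, pow_succ, pow_orderOf_eq_one, one_mul]
        rw [← hinvY, hYi, show r ^ (l + 1) * Y * (Y * r ^ (l + 1) * Y) = r ^ (l + 1) * (Y * Y) * r ^ (l + 1) * Y by group,
          hYY, mul_one, h2, hrY]
      rw [← h1]
      exact Normal.conj_mem inferInstance _ (mem_map_of_mem _ hk) _
    obtain ⟨k', hk', e⟩ := hTK
    refine htK ?_
    rcases s.π_eq.1 e.symm with e1 | e1 <;> rw [e1]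
    exacts [hk', mul_mem hk' s.z_mem]
  have hM0 : 0 < M := by have := orderOf_pos r; omega
  set x := (t * k) ^ M with hx
  have hπx : π x = r ^ M := by rw [hx, map_pow, map_mul]
  have hcc : r ^ M * r ^ M = 1 := by rw [← pow_add, ← hM, pow_orderOf_eq_one]
  have hc1 : r ^ M ≠ 1 := pow_ne_one_of_lt_orderOf hM0.ne' (by omega)
  have hcinv : (r ^ M)⁻¹ = r ^ M := inv_eq_of_mul_eq_one_right hcc
  have hcT : π (t * x * t⁻¹) = π x := by rw [map_mul, map_mul, map_inv, hπx, hinv, hcinv]
  have hcY : π (k * x * k⁻¹) = π x := by rw [map_mul, map_mul, map_inv, hπx, hinvY, hcinv]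
  have hx4 : x ^ 2 ^ 2 = 1 := by
    have h1 : π (x * x) = π 1 := by rw [map_mul, hπx, hcc, map_one]
    rw [show (2 : ℕ) ^ 2 = 2 + 2 from rfl, pow_add, pow_two]
    rcases s.π_eq.1 h1 with e | e <;> rw [e]
    · rw [one_mul]
    · rw [one_mul, s.z_sq]
  have hxt : π (x * t * x⁻¹) = π t := by
    rw [map_mul, map_mul, map_inv, mul_inv_eq_iff_eq_mul, ← map_mul, ← map_mul]
    rw [map_mul, map_mul, map_inv, mul_inv_eq_iff_eq_mul, ← map_mul, ← map_mul] at hcT
    exact hcT.symm
  have hxS := mem_of_normalizer (s.normalises htS htK ht hxt) hx4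
  have hmodK : QuotientGroup.mk' K x = QuotientGroup.mk' K t ^ M := by
    rw [hx, map_pow, map_mul, show QuotientGroup.mk' K k = 1 from (QuotientGroup.eq_one_iff k).2 hk, mul_one]
  have hxK : ∀ {y : G}, QuotientGroup.mk' K x = QuotientGroup.mk' K y → y⁻¹ * x ∈ K := fun e => QuotientGroup.eq.1 e.symm
  rcases Nat.even_or_odd' M with ⟨c, rfl | rfl⟩
  · -- an inner central element
    have hxK1 : x ∈ K := by
      have := hxK (y := 1) (by rw [hmodK, pow_mul, ← map_pow, pow_two, ht, map_one, one_pow])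
      rwa [inv_one, one_mul] at this
    have hx2 := s.root hxS hxK1 (by rw [hπx, hcc]) (by rw [hπx]; exact hc1)
    have e := (hy x ⟨hxS, hxK1⟩ hx2).1 hcT
    rw [← e, hπx]
    calc Y * r ^ (2 * c) = Y * r ^ (2 * c) * Y⁻¹ * Y := by rw [inv_mul_cancel_right]
      _ = r ^ (2 * c) * Y := by rw [hinvY, hcinv]
  · -- an outer central element
    have hp : t * x ∈ K := by
      have := hxK (y := t) (by rw [hmodK, pow_succ, pow_mul, ← map_pow, pow_two, ht, map_one, one_pow, one_mul])
      rwa [inv_eq_of_mul_eq_one_right ht] at this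
    have hpS : t * x ∈ (S : Subgroup G) := (S : Subgroup G).mul_mem htS hxS
    have hcom : T * π x = π x * T := by
      rw [hπx]
      calc T * r ^ (2 * c + 1) = T * r ^ (2 * c + 1) * T⁻¹ * T := by rw [inv_mul_cancel_right]
        _ = r ^ (2 * c + 1) * T := by rw [hinv, hcinv]
    have hx2 : x * x = 1 := by
      have hx' : x = t * (t * x) := by rw [← mul_assoc, ht, one_mul]
      have hp2 : π (t * x) * π (t * x) = 1 := by
        rw [map_mul, show T * π x * (T * π x) = T * (π x * T) * π x by group, ← hcom, ← mul_assoc, hTT, one_mul,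
          hπx, hcc]
      by_cases hp1 : π (t * x) = 1
      · rw [← map_one π] at hp1
        rcases s.π_eq.1 hp1 with e | e <;> rw [hx', e]
        · rw [mul_one, ht]
        · rw [one_mul, show t * z * (t * z) = t * (z * t) * z by group, ← s.z_comm, ← mul_assoc, ht, one_mul, s.z_sq]
      · have hpz := s.root hpS hp hp2 hp1
        have hfix : π (t * (t * x) * t⁻¹) = π (t * x) := by
          rw [map_mul, map_mul, map_inv]
          show T * π (t * x) * T⁻¹ = π (t * x)
          rw [map_mul, show T * (T * π x) * T⁻¹ = T * T * (π x * T⁻¹) by group, hTT, one_mul, hTi, ← hcom]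
        have e := (hy _ ⟨hpS, hp⟩ hpz).1 hfix
        have hneg : t * (t * x) * t⁻¹ = t * x * z := by
          rcases s.π_eq.1 e with e1 | e1 <;> rw [e1]
          · exact hti
          · rw [show t * (i * z) * t⁻¹ = t * i * (z * t⁻¹) by group, ← s.z_comm, ← mul_assoc, hti]
        rw [hx', show t * (t * x) * (t * (t * x)) = t * (t * x) * t * (t * x) by group,
          show t * (t * x) * t = t * (t * x) * t⁻¹ by rw [inv_eq_of_mul_eq_one_right ht], hneg, mul_assoc (t * x),
          ← s.z_comm, ← mul_assoc, hpz, s.z_sq]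
    have hxK2 : x ∉ K := fun hxK => htK (by
      have := mul_mem hp (inv_mem hxK); rwa [mul_inv_cancel_right] at this)
    have hkS := mem_of_normalizer (s.normalises hxS hxK2 hx2 hcY) hk4
    exact (hy k ⟨hkS, hk⟩ hk2).2

/-- No outer involution. -/
theorem absurd_invol {t : G} (htS : t ∈ (S : Subgroup G)) (htK : t ∉ K) (ht : t * t = 1) : False := by
  haveI := bar_simple s.one.comp
  obtain ⟨i, hi, hii, hti, hy⟩ := s.axis htS htK ht
  set C : Subgroup ↥K := (centralizer ({π i} : Set (G ⧸ Cfsg.pCore 2 G))).comap ((π).comp K.subtype) with hC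
  have hmem : ∀ k : ↥K, k ∈ C ↔ π k * π i = π i * π k := fun k => by
    rw [hC, mem_comap, mem_centralizer_singleton_iff]; rfl
  have hN : normalClosure {(⟨i, hi.2⟩ : ↥K)} ≤ C := by
    refine (closure_le C).2 fun k hk => ?_
    obtain ⟨a, ha, hca⟩ := Group.mem_conjugatesOfSet_iff.1 hk
    rw [Set.mem_singleton_iff.1 ha] at hca
    obtain ⟨c, rfl⟩ := isConj_iff.1 hca
    refine (hmem _).2 (s.comm_axis htS htK ht hti hii hy (SetLike.coe_mem _) ?_)
    show (c : G) * i * (c : G)⁻¹ * ((c : G) * i * (c : G)⁻¹) = z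
    rw [show (c : G) * i * (c : G)⁻¹ * ((c : G) * i * (c : G)⁻¹) = c * (i * i) * (c : G)⁻¹ by group, hii, s.z_comm,
      mul_inv_cancel_right]
  have hcen : center ↥K ≤ C := fun c hc => (hmem c).2 (by
    rw [← map_mul, ← map_mul]
    exact congrArg π (congrArg Subtype.val (mem_center_iff.1 hc ⟨i, hi.2⟩)).symm)
  have hne : (⟨i, hi.2⟩ : ↥K) ∉ center ↥K := fun hm => by
    rcases s.centre i hi.2 (fun k hk => congrArg Subtype.val (mem_center_iff.1 hm ⟨k, hk⟩)) with e | e <;>
      rw [e] at hii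
    · exact s.z_ne (by rw [← hii, one_mul])
    · exact s.z_ne (by rw [← hii, s.z_sq])
  have htop : C = ⊤ := by
    set μ := QuotientGroup.mk' (center ↥K)
    have hμ : Function.Surjective μ := QuotientGroup.mk'_surjective _
    haveI : ((normalClosure {(⟨i, hi.2⟩ : ↥K)}).map μ).Normal := Normal.map normalClosure_normal μ hμ
    rcases IsSimpleGroup.eq_bot_or_eq_top_of_normal ((normalClosure {(⟨i, hi.2⟩ : ↥K)}).map μ) inferInstance with e | e
    · refine absurd ((QuotientGroup.eq_one_iff _).1 (mem_bot.1 (e.le ?_))) hne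
      exact mem_map_of_mem μ (subset_normalClosure rfl)
    · refine eq_top_iff.2 fun k _ => ?_
      obtain ⟨w, hw, hwk⟩ := e.ge (mem_top (μ k))
      have := mul_mem (hN hw) (hcen (QuotientGroup.eq.1 hwk))
      rwa [mul_inv_cancel_left] at this
  refine hne ((QuotientGroup.eq_one_iff _).1 (mem_bot.1 ?_))
  have hZ : center (↥K ⧸ center ↥K) = ⊥ :=
    (IsSimpleGroup.eq_bot_or_eq_top_of_normal _ inferInstance).resolve_right fun e => bar_nonab s.one.comp
      ⟨⟨fun a b => mem_center_iff.1 (e.ge (mem_top b)) a⟩⟩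
  rw [← hZ, mem_center_iff]
  intro q
  obtain ⟨k, rfl⟩ := QuotientGroup.mk'_surjective (center ↥K) q
  show QuotientGroup.mk' (center ↥K) k * QuotientGroup.mk' (center ↥K) ⟨i, hi.2⟩ =
    QuotientGroup.mk' (center ↥K) ⟨i, hi.2⟩ * QuotientGroup.mk' (center ↥K) k
  rw [← map_mul, ← map_mul]
  have h1 := (hmem k).1 (htop ▸ mem_top k)
  rw [← map_mul, ← map_mul, s.π_eq] at h1
  refine QuotientGroup.eq.2 (mem_center_iff.2 fun u => Subtype.ext ?_)
  show (u : G) * (((k : G) * i)⁻¹ * (i * k)) = ((k : G) * i)⁻¹ * (i * k) * u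
  rcases h1 with e | e <;> rw [e]
  · rw [inv_mul_cancel, mul_one, one_mul]
  · rw [mul_inv_rev, inv_mul_cancel_right, inv_eq_of_mul_eq_one_right s.z_sq]
    exact s.z_comm u

end Small

/-- With quaternion Sylow subgroups of the component and 2-core of exponent two, the whole group has quaternion
Sylow 2-subgroups, which is excluded. -/
theorem One.outer_false (o : One K) (S : Sylow 2 G) (h4 : ¬ FourIn ((S : Subgroup G) ⊓ K))
    (hQ : ∀ q ∈ Cfsg.pCore 2 G, q * q = 1)
    (hnQ : ∀ T : Sylow 2 G, ∀ n : ℕ, IsEmpty (↥(T : Subgroup G) ≃* QuaternionGroup (2 ^ (n + 1)))) : False := by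
  obtain ⟨z, hz2, hz1, hzK, hzQ, hzc, hcen⟩ := exists_central_invol o.hyp o.comp S h4
  have s : Small S K z := ⟨o, h4, hz2, hz1, hzK, hzQ, fun q hq =>
    eq_of_not_fourIn o.hyp.core_not_four hzQ hz2 hz1 hq (hQ q hq) (commute_core o.comp hq hzK).symm, hcen⟩
  have hS4 : FourIn (S : Subgroup G) := by
    by_contra hn
    rcases cyclic_or_quaternion (S.2.to_le le_rfl) hn with hc | ⟨n, ⟨e⟩⟩
    · haveI := hc
      exact inter_noncyclic o.comp S (isCyclic_of_injective (inclusion (inf_le_left : (S : Subgroup G) ⊓ K ≤ S))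
        (inclusion_injective _))
    · exact (hnQ S n).false e
  obtain ⟨u, v, hu, hv, hu2, hv2, hu1, hv1, hne, -⟩ := hS4
  by_cases huK : u ∈ K
  · refine s.absurd_invol hv (fun hvK => ?_) hv2
    rcases s.invol hu huK hu2 with e | e
    · exact hu1 e
    rcases s.invol hv hvK hv2 with e' | e'
    · exact hv1 e'
    · exact hne (e.trans e'.symm)
  · exact s.absurd_invol hu huK hu2

end Cfsg.Lib.RankOneInter
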