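import Cfsg.Agent.BenderSE.Induction
import Cfsg.Agent.CyclicInter.Main
import Cfsg.Agent.Components.GenFitting
import Cfsg.Prelude.Def_CaseTheorems
import Mathlib.GroupTheory.SpecificGroups.Quaternion

/-!
Groups in which two Sylow 2-subgroups never share a four-group (row 3310): first properties.
-/

set_option autoImplicit false
set_option linter.unusedSectionVars false
set_option linter.style.haveILetI false

namespace Cfsg.Lib.RankOneInter

open Subgroup Cfsg.Lib.CyclicInter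
open scoped Pointwise

universe u

variable {G : Type u} [Group G] [Finite G]

/-- `H` contains two commuting distinct involutions. -/
def FourIn (H : Subgroup G) : Prop :=
  ∃ u v : G, u ∈ H ∧ v ∈ H ∧ u * u = 1 ∧ v * v = 1 ∧ u ≠ 1 ∧ v ≠ 1 ∧ u ≠ v ∧ u * v = v * u

theorem FourIn.mono {H K : Subgroup G} (h : FourIn H) (hle : H ≤ K) : FourIn K := by
  obtain ⟨u, v, hu, hv, h'⟩ := h
  exact ⟨u, v, hle hu, hle hv, h'⟩

theorem FourIn.map {G' : Type*} [Group G'] {H : Subgroup G} (h : FourIn H) (f : G →* G')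
    (hf : ∀ x ∈ H, f x = 1 → x = 1) : FourIn (H.map f) := by
  obtain ⟨u, v, hu, hv, hu2, hv2, hu1, hv1, hne, hc⟩ := h
  refine ⟨f u, f v, mem_map_of_mem f hu, mem_map_of_mem f hv, by rw [← map_mul, hu2, map_one],
    by rw [← map_mul, hv2, map_one], fun e => hu1 (hf u hu e), fun e => hv1 (hf v hv e), fun e => hne ?_,
    by rw [← map_mul, ← map_mul, hc]⟩
  refine mul_inv_eq_one.1 (hf _ (mul_mem hu (inv_mem hv)) ?_)
  rw [map_mul, map_inv, e, mul_inv_cancel]

/-- Two Sylow 2-subgroups sharing two commuting involutions are equal. -/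
def RI (G : Type u) [Group G] : Prop :=
  ∀ S T : Sylow 2 G, FourIn ((S : Subgroup G) ⊓ (T : Subgroup G)) → S = T

theorem not_fourIn_of_prank {H : Subgroup G} (h : Cfsg.PRankLE 2 1 ↥H) : ¬ FourIn H := by
  rintro ⟨u, v, hu, hv, hu2, hv2, hu1, hv1, hne, hc⟩
  set a : ↥H := ⟨u, hu⟩ with ha
  set b : ↥H := ⟨v, hv⟩ with hb
  have hab : a * b = b * a := Subtype.ext hc
  set A : Subgroup ↥H := closure {a, b} with hA
  haveI : IsMulCommutative A := isMulCommutative_closure (by
    rintro x (rfl | rfl) y (rfl | rfl)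
    exacts [rfl, hab, hab.symm, rfl])
  have h2 := h A inferInstance fun x hx => by
    refine closure_induction (p := fun x _ => x ^ 2 = 1) ?_ (one_pow _) ?_ ?_ hx
    · rintro x (rfl | rfl)
      · exact Subtype.ext (by rw [SubmonoidClass.coe_pow, pow_two]; exact hu2)
      · exact Subtype.ext (by rw [SubmonoidClass.coe_pow, pow_two]; exact hv2)
    · intro x y hx hy hx2 hy2
      have hcm : Commute x y := congrArg Subtype.val (mul_comm' (⟨x, hx⟩ : A) ⟨y, hy⟩)
      rw [hcm.mul_pow, hx2, hy2, one_mul]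
    · intro x _ hx2
      rw [inv_pow, hx2, inv_one]
  have h3 : 3 ≤ Nat.card A := by
    let f : Fin 3 → A := ![1, ⟨a, subset_closure (Or.inl rfl)⟩, ⟨b, subset_closure (Or.inr rfl)⟩]
    have hf : Function.Injective f := by
      intro i j e
      have e' : ((f i : ↥H) : G) = ((f j : ↥H) : G) := by rw [e]
      fin_cases i <;> fin_cases j <;>
        simp [f, ha, hb] at e' <;>
        first | rfl | exact absurd e' hu1 | exact absurd e'.symm hu1 | exact absurd e' hv1 | exact absurd e'.symm hv1 | exact absurd e' hne | exact absurd e'.symm hne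
    simpa using Nat.card_le_card_of_injective f hf
  exact absurd (h3.trans h2) (by norm_num)

theorem ri_of_hyp (hI : ∀ S T : Sylow 2 G, S ≠ T → Cfsg.PRankLE 2 1 ↥((S : Subgroup G) ⊓ (T : Subgroup G))) :
    RI G := fun S T h => by
  by_contra hne
  exact not_fourIn_of_prank (hI S T hne) h

theorem coprime_eq_one {x : G} {k m : ℕ} (hx : x ^ 2 ^ k = 1) (hd : orderOf x ∣ m) (hm : Odd m) : x = 1 :=
  orderOf_eq_one_iff.1 (Nat.eq_one_of_dvd_coprimes ((Nat.coprime_two_left.2 hm).pow_left k)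
    (orderOf_dvd_of_pow_eq_one hx) hd)

/-- A 2-element of a subgroup of odd order is trivial. -/
theorem eq_one_of_odd {H O : Subgroup G} (hH : IsPGroup 2 ↥H) (hO : Odd (Nat.card O)) {x : G} (hxH : x ∈ H)
    (hxO : x ∈ O) : x = 1 := by
  obtain ⟨k, hk⟩ := hH ⟨x, hxH⟩
  exact coprime_eq_one (k := k) (congrArg Subtype.val hk) (Subgroup.orderOf_dvd_natCard O hxO) hO

/-- The quotient by a normal subgroup of odd order inherits the hypothesis. -/
theorem RI.quotient (hG : RI G) (O : Subgroup G) [O.Normal] (hodd : Odd (Nat.card O)) : RI (G ⧸ O) := by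
  haveI : Fact (Nat.Prime 2) := ⟨Nat.prime_two⟩
  intro S T h
  obtain ⟨S₀, rfl⟩ := Sylow.mapSurjective_surjective (QuotientGroup.mk'_surjective O) 2 S
  obtain ⟨T₀, rfl⟩ := Sylow.mapSurjective_surjective (QuotientGroup.mk'_surjective O) 2 T
  set f := QuotientGroup.mk' O with hf
  obtain ⟨u, v, hu, hv, hu2, hv2, hu1, hv1, hne, hc⟩ := h
  simp only [Sylow.coe_mapSurjective, mem_inf, mem_map] at hu hv
  obtain ⟨⟨a, haS, hau⟩, hTu⟩ := hu
  obtain ⟨⟨b, hbS, hbv⟩, hTv⟩ := hv
  have hker : ∀ {x : G}, x ∈ (S₀ : Subgroup G) → f x = 1 → x = 1 := fun {x} hx e =>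
    eq_one_of_odd S₀.2 hodd hx ((QuotientGroup.eq_one_iff x).1 e)
  have ha2 : a * a = 1 := hker (mul_mem haS haS) (by rw [map_mul, hau, hu2])
  have hb2 : b * b = 1 := hker (mul_mem hbS hbS) (by rw [map_mul, hbv, hv2])
  have hab : a * b = b * a := mul_inv_eq_one.1 (hker (mul_mem (mul_mem haS hbS) (inv_mem (mul_mem hbS haS)))
    (by rw [map_mul, map_inv, map_mul, map_mul, hau, hbv, hc, mul_inv_cancel]))
  -- the four group lies in a conjugate of `T₀` by an element of `O`
  set M := ((T₀ : Subgroup G).map f).comap f with hM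
  have haM : a ∈ M := by rw [hM, mem_comap, hau]; exact mem_map.2 hTu
  have hbM : b ∈ M := by rw [hM, mem_comap, hbv]; exact mem_map.2 hTv
  set U : Subgroup G := closure {a, b} with hU
  have hUM : U ≤ M := (closure_le _).2 (by rintro x (rfl | rfl) <;> assumption)
  have hUS : U ≤ (S₀ : Subgroup G) := (closure_le _).2 (by rintro x (rfl | rfl) <;> assumption)
  have hTM : (T₀ : Subgroup G) ≤ M := fun x hx => mem_comap.2 (mem_map_of_mem f hx)
  obtain ⟨R, hR⟩ := (S₀.2.to_le hUS).comap_subtype (K := M) |>.exists_le_sylow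
  obtain ⟨m, hm⟩ := MulAction.exists_smul_eq M (T₀.subtype hTM) R
  have hmT : U ≤ (((m : G) • T₀ : Sylow 2 G) : Subgroup G) := fun x hx => by
    have hxR : (⟨x, hUM hx⟩ : M) ∈ (R : Subgroup M) := hR (show (x : G) ∈ U from hx)
    rw [← hm, Sylow.coe_subgroup_smul] at hxR
    obtain ⟨y, hy, e⟩ := hxR
    rw [Sylow.coe_subgroup_smul]
    exact ⟨y, hy, congrArg Subtype.val e⟩
  have heq : S₀ = (m : G) • T₀ := by
    refine hG _ _ ⟨a, b, ⟨haS, hmT (subset_closure (Or.inl rfl))⟩, ⟨hbS, hmT (subset_closure (Or.inr rfl))⟩,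
      ha2, hb2, fun e => hu1 (by rw [← hau, e, map_one]), fun e => hv1 (by rw [← hbv, e, map_one]),
      fun e => hne (by rw [← hau, e, hbv]), hab⟩
  obtain ⟨t, ht, hmt⟩ := mem_map.1 (mem_comap.1 m.2)
  apply Sylow.ext
  rw [Sylow.coe_mapSurjective, Sylow.coe_mapSurjective, heq, Sylow.coe_subgroup_smul]
  have key : ((MulAut.conj (m : G)) • (T₀ : Subgroup G)).map f =
      ((T₀ : Subgroup G).map f).map (MulAut.conj (f m)).toMonoidHom := by
    show ((T₀ : Subgroup G).map (MulAut.conj (m : G)).toMonoidHom).map f = _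
    rw [map_map, map_map]
    congr 1
  rw [key, ← hmt]
  refine le_antisymm ?_ fun y hy => ?_
  · rintro _ ⟨y, hy, rfl⟩
    exact mul_mem (mul_mem (mem_map_of_mem f ht) hy) (inv_mem (mem_map_of_mem f ht))
  · refine ⟨(f t)⁻¹ * y * f t, mul_mem (mul_mem (inv_mem (mem_map_of_mem f ht)) hy) (mem_map_of_mem f ht), ?_⟩
    show f t * ((f t)⁻¹ * y * f t) * (f t)⁻¹ = y
    group

/-- The normaliser of a subgroup with a four-group lies in the normaliser of its Sylow subgroup. -/
theorem RI.normalizer_le (hG : RI G) {H : Subgroup G} (h4 : FourIn H) {S : Sylow 2 G} (hS : H ≤ S) :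
    normalizer (H : Set G) ≤ normalizer ((S : Subgroup G) : Set G) := by
  intro g hg
  refine Sylow.smul_eq_iff_mem_normalizer.1 (hG _ _ (h4.mono (le_inf (fun x hx => ?_) hS)))
  exact (mem_smul_iff S g x).2 (hS ((mem_normalizer_iff''.1 hg x).1 hx))

/-- An element fixing a four-group of `S` normalises `S`. -/
theorem RI.mem_normalizer (hG : RI G) {S : Sylow 2 G} {u v g : G} (hu : u ∈ (S : Subgroup G))
    (hv : v ∈ (S : Subgroup G)) (hu2 : u * u = 1) (hv2 : v * v = 1) (hu1 : u ≠ 1) (hv1 : v ≠ 1) (hne : u ≠ v)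
    (hc : u * v = v * u) (hgu : g * u * g⁻¹ ∈ (S : Subgroup G)) (hgv : g * v * g⁻¹ ∈ (S : Subgroup G)) :
    g ∈ normalizer ((S : Subgroup G) : Set G) := by
  refine Sylow.smul_eq_iff_mem_normalizer.1 (hG _ _ ⟨g * u * g⁻¹, g * v * g⁻¹, ⟨conj_mem_smul S g u hu, hgu⟩,
    ⟨conj_mem_smul S g v hv, hgv⟩, ?_, ?_, fun e => hu1 (conj_eq_one_iff.1 e), fun e => hv1 (conj_eq_one_iff.1 e),
    fun e => hne (mul_left_cancel (mul_right_cancel e)), ?_⟩)
  · rw [show g * u * g⁻¹ * (g * u * g⁻¹) = g * (u * u) * g⁻¹ by group, hu2, mul_one, mul_inv_cancel]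
  · rw [show g * v * g⁻¹ * (g * v * g⁻¹) = g * (v * v) * g⁻¹ by group, hv2, mul_one, mul_inv_cancel]
  · rw [show g * u * g⁻¹ * (g * v * g⁻¹) = g * (u * v) * g⁻¹ by group, hc]; group

/-- An element of a normal subgroup normalising `S` commutes with `S` modulo its intersection with it. -/
theorem comm_mem {N : Subgroup G} (hN : N.Normal) {S : Sylow 2 G} {n s : G} (hn : n ∈ N)
    (hnS : n ∈ normalizer ((S : Subgroup G) : Set G)) (hs : s ∈ (S : Subgroup G)) :
    s * n * s⁻¹ * n⁻¹ ∈ (S : Subgroup G) ⊓ N := by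
  refine mem_inf.2 ⟨?_, mul_mem (hN.conj_mem n hn s) (inv_mem hn)⟩
  rw [show s * n * s⁻¹ * n⁻¹ = s * (n * s⁻¹ * n⁻¹) by group]
  exact (S : Subgroup G).mul_mem hs ((mem_normalizer_iff.1 hnS s⁻¹).1 ((S : Subgroup G).inv_mem hs))

/-- A 2-subgroup without commuting involutions is cyclic or quaternion. -/
theorem cyclic_or_quaternion {H : Subgroup G} (hH : IsPGroup 2 ↥H) (h : ¬ FourIn H) :
    IsCyclic ↥H ∨ ∃ n : ℕ, Nonempty (↥H ≃* QuaternionGroup (2 ^ (n + 1))) := by
  haveI : Fact (Nat.Prime 2) := ⟨Nat.prime_two⟩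
  have hcomm : ¬ Cfsg.Lib.BenderSE.HasCommutingInvolutions ↥H := by
    rintro ⟨p, q, hp, hq, hne, hc⟩
    refine h ⟨p, q, p.2, q.2, ?_, ?_, ?_, ?_, fun e => hne (Subtype.ext e), congrArg Subtype.val hc⟩
    · exact congrArg Subtype.val (show p * p = 1 by rw [← pow_two, ← hp, pow_orderOf_eq_one])
    · exact congrArg Subtype.val (show q * q = 1 by rw [← pow_two, ← hq, pow_orderOf_eq_one])
    · intro e; rw [show p = 1 from Subtype.ext e, orderOf_one] at hp; omega
    · intro e; rw [show q = 1 from Subtype.ext e, orderOf_one] at hq; omega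
  obtain ⟨P⟩ : Nonempty (Sylow 2 ↥H) := inferInstance
  have htop : (P : Subgroup ↥H) = ⊤ := (P.3 (hH.to_subgroup ⊤) le_top).symm
  let e : ↥(P : Subgroup ↥H) ≃* ↥H := (MulEquiv.subgroupCongr htop).trans topEquiv
  rcases Cfsg.Lib.BenderSE.isCyclic_or_quaternion_of_rankOne hcomm P with hc | ⟨m, hm, ⟨eP⟩⟩
  · exact Or.inl (isCyclic_of_surjective e.toMonoidHom e.surjective)
  · obtain ⟨n, rfl⟩ : ∃ n, m = n + 1 := ⟨m - 1, by omega⟩
    exact Or.inr ⟨n, ⟨e.symm.trans eP⟩⟩

/-- Every involution equals `z`, for a central involution `z` of a group without four-groups. -/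
theorem eq_of_not_fourIn {H : Subgroup G} (h : ¬ FourIn H) {z x : G} (hz : z ∈ H) (hz2 : z * z = 1) (hz1 : z ≠ 1)
    (hx : x ∈ H) (hx2 : x * x = 1) (hc : x * z = z * x) : x = 1 ∨ x = z := by
  by_contra hno
  push Not at hno
  exact h ⟨x, z, hx, hz, hx2, hz2, hno.1, hz1, hno.2, hc⟩

/-- In a noncyclic 2-group without four-groups two elements of order four fail to commute. -/
theorem exists_pair_four {H : Subgroup G} (hH : IsPGroup 2 ↥H) (h : ¬ FourIn H) (hnc : ¬ IsCyclic ↥H) :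
    ∃ x ∈ H, ∃ y ∈ H, x * x = y * y ∧ x * x ≠ 1 ∧ x * x * (x * x) = 1 ∧ x * y ≠ y * x := by
  rcases cyclic_or_quaternion hH h with hc | ⟨n, ⟨e⟩⟩
  · exact absurd hc hnc
  set m := 2 ^ n with hm
  have hN : 2 ^ (n + 1) = 2 * m := by rw [hm, pow_succ, mul_comm]
  have hm0 : 0 < m := Nat.two_pow_pos n
  set i : QuaternionGroup (2 ^ (n + 1)) := QuaternionGroup.a (m : ZMod (2 * 2 ^ (n + 1))) with hi
  set b : QuaternionGroup (2 ^ (n + 1)) := QuaternionGroup.xa 0 with hb
  have hne : ∀ k : ℕ, 0 < k → k < 4 * m → ((k : ℕ) : ZMod (2 * 2 ^ (n + 1))) ≠ 0 := fun k hk hk' e => by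
    have := Nat.le_of_dvd hk ((ZMod.natCast_eq_zero_iff _ _).1 e)
    omega
  have h4 : ((4 * m : ℕ) : ZMod (2 * 2 ^ (n + 1))) = 0 := by
    rw [ZMod.natCast_eq_zero_iff, hN]; exact ⟨1, by ring⟩
  have hii : i * i = QuaternionGroup.a ((2 * m : ℕ) : ZMod (2 * 2 ^ (n + 1))) := by
    rw [hi, QuaternionGroup.a_mul_a]; congr 1; push_cast; ring
  have hbb : b * b = i * i := by
    rw [hii, hb, QuaternionGroup.xa_mul_xa]; congr 1; rw [hN]; push_cast; ring
  have hii1 : i * i ≠ 1 := by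
    rw [hii, ← QuaternionGroup.a_zero]
    exact fun e => hne (2 * m) (by omega) (by omega) (QuaternionGroup.a.inj e)
  have hiiii : i * i * (i * i) = 1 := by
    rw [hii, QuaternionGroup.a_mul_a, ← QuaternionGroup.a_zero]; congr 1
    rw [← Nat.cast_add, show 2 * m + 2 * m = 4 * m by ring, h4]
  have hib : i * b ≠ b * i := by
    rw [hi, hb, QuaternionGroup.a_mul_xa, QuaternionGroup.xa_mul_a]
    intro e
    have e' := QuaternionGroup.xa.inj e
    refine hne (2 * m) (by omega) (by omega) ?_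
    rw [zero_sub, zero_add, neg_eq_iff_add_eq_zero] at e'
    rw [← e']; push_cast; ring
  refine ⟨e.symm i, (e.symm i).2, e.symm b, (e.symm b).2, ?_, ?_, ?_, ?_⟩
  · rw [← Subgroup.coe_mul, ← Subgroup.coe_mul, ← map_mul, ← map_mul, hbb]
  · rw [← Subgroup.coe_mul, ← map_mul]
    exact fun e' => hii1 (e.symm.injective (by rw [map_one]; exact Subtype.ext e'))
  · rw [← Subgroup.coe_mul, ← Subgroup.coe_mul, ← map_mul, ← map_mul, hiiii, map_one, coe_one]
  · rw [← Subgroup.coe_mul, ← Subgroup.coe_mul, ← map_mul, ← map_mul]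
    exact fun e' => hib (e.symm.injective (Subtype.ext e'))

/-- A commuting pair of elements of order four with the same square gives a four-group. -/
theorem fourIn_of_commute {H : Subgroup G} {a b : G} (ha : a ∈ H) (hb : b ∈ H) (hab : a * b = b * a)
    (hsq : a * a = b * b) (hz1 : a * a ≠ 1) (hz2 : a * a * (a * a) = 1) (hne : b ≠ a) (hne' : b ≠ a * (a * a)) :
    FourIn H := by
  refine ⟨a * b, a * a, mul_mem ha hb, mul_mem ha ha, ?_, hz2, fun e => hne' ?_, hz1,
    fun e => hne (mul_left_cancel e), ?_⟩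
  · rw [show a * b * (a * b) = a * (b * a) * b by group, ← hab, show a * (a * b) * b = a * a * (b * b) by group,
      ← hsq, hz2]
  · rw [eq_inv_of_mul_eq_one_right e]
    exact (eq_inv_of_mul_eq_one_right (by rw [← mul_assoc, hz2])).symm
  · rw [show a * b * (a * a) = a * (b * a) * a by group, ← hab, show a * (a * b) * a = a * a * (b * a) by group,
      ← hab]

/-- An element commuting with a noncommuting pair of order four is an involution, or there is a four-group. -/
theorem sq_eq_one_of_commute {H : Subgroup G} (hH : IsPGroup 2 ↥H) (h : ¬ FourIn H) {x y v : G}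
    (hx : x ∈ H) (hy : y ∈ H) (hv : v ∈ H) (hsq : x * x ≠ 1) (hz2 : x * x * (x * x) = 1)
    (hxy : x * y ≠ y * x) (hvx : v * x = x * v) (hvy : v * y = y * v) : v * v = 1 := by
  by_contra hv2
  haveI : Fact (Nat.Prime 2) := ⟨Nat.prime_two⟩
  obtain ⟨k, hk⟩ := hH ⟨v, hv⟩
  replace hk : v ^ 2 ^ k = 1 := congrArg Subtype.val hk
  obtain ⟨l, hl1, hl2⟩ : ∃ l : ℕ, v ^ 2 ^ l * v ^ 2 ^ l ≠ 1 ∧
      v ^ 2 ^ l * v ^ 2 ^ l * (v ^ 2 ^ l * v ^ 2 ^ l) = 1 := by
    classical
    have hex : ∃ j, v ^ 2 ^ j = 1 := ⟨k, hk⟩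
    have h2 : 2 ≤ Nat.find hex := by
      by_contra hlt
      have h0 := Nat.find_spec hex
      rcases (show Nat.find hex = 0 ∨ Nat.find hex = 1 by omega) with e | e <;> rw [e] at h0
      · rw [pow_zero, pow_one] at h0; exact hv2 (by rw [h0, one_mul])
      · rw [pow_one, pow_two] at h0; exact hv2 h0
    obtain ⟨l, hl⟩ : ∃ l, Nat.find hex = l + 2 := ⟨_, (Nat.sub_add_cancel h2).symm⟩
    refine ⟨l, ?_, ?_⟩
    · rw [← pow_add, ← two_mul, ← pow_succ']
      exact Nat.find_min hex (by omega)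
    · rw [← pow_add, ← two_mul, ← pow_succ', ← pow_add, ← two_mul, ← pow_succ', ← hl]
      exact Nat.find_spec hex
  set w := v ^ 2 ^ l
  have hwx : w * x = x * w := (Commute.pow_left (show Commute v x from hvx) _).eq
  have hwy : w * y = y * w := (Commute.pow_left (show Commute v y from hvy) _).eq
  have hwH : w ∈ H := pow_mem hv _
  rcases eq_of_not_fourIn h (mul_mem hx hx) hz2 hsq (mul_mem hwH hwH) hl2
    (by
      have h1 : Commute w x := hwx
      exact ((h1.mul_right h1).mul_left (h1.mul_right h1)).eq) with e | e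
  · exact hl1 e
  · refine h (fourIn_of_commute hx hwH hwx.symm e.symm hsq hz2 (fun e' => hxy ?_) (fun e' => hxy ?_))
    · rw [← e', hwy]
    · have h1 : Commute (x * (x * x)) y := e' ▸ hwy
      have h2 : Commute (x * x) y := by
        have : Commute (w * w) y := (show Commute w y from hwy).mul_left hwy
        rwa [e] at this
      have h3 := h1.mul_left h2
      rw [show x * (x * x) * (x * x) = x * (x * x * (x * x)) by group, hz2, mul_one] at h3
      exact h3.eq

/-- A noncyclic group without four-groups, commuted by an element of order four with the same square, yields one. -/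
theorem fourIn_sup {A B : Subgroup G} (hAB : ∀ a ∈ A, ∀ b ∈ B, a * b = b * a) (hB : IsPGroup 2 ↥B)
    (hB4 : ¬ FourIn B) (hBnc : ¬ IsCyclic ↥B) {a : G} (ha : a ∈ A) {z : G} (hzA : z ∈ A) (hzB : z ∈ B)
    (hz2 : z * z = 1) (hz1 : z ≠ 1) (haz : a * a = z) : FourIn (A ⊔ B) := by
  obtain ⟨x, hx, y, hy, hxy2, hx1, hx2, hxy⟩ := exists_pair_four hB hB4 hBnc
  rcases eq_of_not_fourIn hB4 hzB hz2 hz1 (mul_mem hx hx) hx2 (hAB z hzA _ (mul_mem hx hx)).symm with e | e
  · exact absurd e hx1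
  refine fourIn_of_commute (mem_sup_left ha) (mem_sup_right hx) (hAB a ha x hx) (haz.trans e.symm)
    (by rw [haz]; exact hz1) (by rw [haz]; exact hz2) (fun e' => hxy ?_) (fun e' => hxy ?_)
  · rw [e', hAB a ha y hy]
  · rw [e', hAB _ (mul_mem ha (mul_mem ha ha)) y hy]

end Cfsg.Lib.RankOneInter
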