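import Cfsg.Agent.Walter.CI.Embedded
import Cfsg.Agent.Walter.Consumers.Intersections
import Cfsg.Agent.Walter.Main
import Cfsg.Agent.Walter.TypeJR
import Cfsg.Agent.Walter.CI.Lift
import Cfsg.Agent.PSLBinary.Main
import Cfsg.Agent.SylowRankOne.Main
import Cfsg.Agent.Goldschmidt.Consequences.Setting
import Cfsg.Agent.RankOneInter.Basic
import Cfsg.Agent.S0252
import Cfsg.Agent.S0280
import Cfsg.Agent.S1225

/-!
Simple groups with trivially intersecting Sylow 2-subgroups (row 3310), and the classes of involutions of the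
simple groups in Goldschmidt's theorem.
-/

set_option autoImplicit false
set_option linter.unusedSectionVars false
set_option linter.style.haveILetI false

namespace Cfsg.Lib.RankOneInter

open Subgroup Cfsg.Lib.Walter.CI Cfsg.Lib.CyclicInter
open scoped Pointwise

universe u

variable {X : Type u} [Group X] [Finite X]

/-- Distinct Sylow 2-subgroups meet trivially. -/
def TI2 (X : Type u) [Group X] : Prop :=
  ∀ S T : Sylow 2 X, S ≠ T → (S : Subgroup X) ⊓ (T : Subgroup X) = ⊥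

theorem even_card_sylow [IsSimpleGroup X] (hna : ¬ IsMulCommutative X) (P : Sylow 2 X) :
    2 ∣ Nat.card ↥(P : Subgroup X) := by
  haveI : Fact (Nat.Prime 2) := ⟨Nat.prime_two⟩
  refine P.dvd_card_of_dvd_card (by_contra fun h => hna ?_)
  haveI := Cfsg.Agent.PF.isSolvable_of_odd X (Nat.not_even_iff_odd.1 fun he => h he.two_dvd)
  exact ⟨⟨fun a b => IsSimpleGroup.comm_iff_isSolvable.2 inferInstance a b⟩⟩

theorem embedded_of_ti [IsSimpleGroup X] (hna : ¬ IsMulCommutative X) (hX : TI2 X) :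
    ∃ H : Subgroup X, Cfsg.IsStronglyEmbedded H := by
  haveI : Fact (Nat.Prime 2) := ⟨Nat.prime_two⟩
  obtain ⟨P⟩ : Nonempty (Sylow 2 X) := inferInstance
  have hev := even_card_sylow hna P
  refine ⟨normalizer ((P : Subgroup X) : Set X), Cfsg.Lib.SylowRankOne.normalizer_sylow_ne_top hna P, ?_, fun g hg => ?_⟩
  · exact even_iff_two_dvd.2 (hev.trans (card_dvd_of_le le_normalizer))
  · rw [← Nat.not_even_iff_odd, even_iff_two_dvd]
    intro h2
    obtain ⟨⟨i, hi⟩, hio⟩ := exists_prime_orderOf_dvd_card' 2 h2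
    rw [orderOf_mk] at hio
    obtain ⟨hi1, hi2⟩ := mem_inf.1 hi
    have hp : IsPGroup 2 ↥(zpowers i) := IsPGroup.of_card (n := 1) (by rw [Nat.card_zpowers, hio, pow_one])
    have hiP : i ∈ (P : Subgroup X) :=
      (P.3 (hp.to_sup_of_normal_right' P.isPGroup' (zpowers_le.2 hi1)) le_sup_right).le (mem_sup_left (mem_zpowers i))
    rw [Cfsg.Lib.StrongEmb.mem_conj_iff] at hi2
    have hp' : IsPGroup 2 ↥(zpowers (g⁻¹ * i * g)) := IsPGroup.of_card (n := 1) (by
      rw [Nat.card_zpowers, pow_one, ← hio]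
      have := Cfsg.Lib.Isolated.orderOf_conj' g⁻¹ i
      rwa [inv_inv] at this)
    have hiP' : g⁻¹ * i * g ∈ (P : Subgroup X) :=
      (P.3 (hp'.to_sup_of_normal_right' P.isPGroup' (zpowers_le.2 hi2)) le_sup_right).le (mem_sup_left (mem_zpowers _))
    have hmem : i ∈ (P : Subgroup X) ⊓ ((g • P : Sylow 2 X) : Subgroup X) :=
      ⟨hiP, (mem_smul_iff P g i).2 hiP'⟩
    rw [hX P (g • P) fun e => hg (Sylow.smul_eq_iff_mem_normalizer.1 e.symm), mem_bot] at hmem
    rw [hmem, orderOf_one] at hio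
    omega

theorem ti_of_embedded [IsSimpleGroup X] (hna : ¬ IsMulCommutative X)
    (hH : ∃ H : Subgroup X, Cfsg.IsStronglyEmbedded H) : TI2 X := by
  haveI : Fact (Nat.Prime 2) := ⟨Nat.prime_two⟩
  intro S T hST
  obtain ⟨H, hP⟩ := exists_pair hna hH S
  obtain ⟨g, rfl⟩ := MulAction.exists_smul_eq X S T
  have hg : g ∉ H := fun h => hST (Sylow.smul_eq_iff_mem_normalizer.2 (hP.norm.ge h)).symm
  refine (eq_bot_iff_forall _).2 fun x hx => ?_
  obtain ⟨hxS, hxT⟩ := mem_inf.1 hx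
  obtain ⟨k, hk⟩ := S.2 ⟨x, hxS⟩
  refine coprime_eq_one (k := k) (congrArg Subtype.val hk) (Subgroup.orderOf_dvd_natCard _ ?_) (hP.se.2.2 g hg)
  refine mem_inf.2 ⟨hP.norm.le (le_normalizer hxS), ?_⟩
  rw [Cfsg.Lib.StrongEmb.mem_conj_iff]
  exact hP.norm.le (le_normalizer ((mem_smul_iff S g x).1 hxT))

/-- Two distinct involutions in the centre of the Sylow subgroup. -/
theorem exists_central_pair [IsSimpleGroup X] (hna : ¬ IsMulCommutative X) (hX : TI2 X) (P : Sylow 2 X) :
    ∃ u v : X, u ∈ (P : Subgroup X) ∧ v ∈ (P : Subgroup X) ∧ orderOf u = 2 ∧ orderOf v = 2 ∧ u ≠ v ∧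
      (∀ x ∈ (P : Subgroup X), u * x = x * u) ∧ ∀ x ∈ (P : Subgroup X), v * x = x * v := by
  haveI : Fact (Nat.Prime 2) := ⟨Nat.prime_two⟩
  obtain ⟨H, hP⟩ := exists_pair hna (embedded_of_ti hna hX) P
  obtain ⟨⟨i, hi⟩, hio⟩ := exists_prime_orderOf_dvd_card' (G := ↥(P : Subgroup X)) 2 (even_card_sylow hna P)
  rw [orderOf_mk] at hio
  have hiH : i ∈ H := hP.norm.le (le_normalizer hi)
  obtain ⟨h, hh, hne⟩ := hP.moves i hi hio
  have ho : orderOf (h * i * h⁻¹) = 2 := (Cfsg.Lib.Isolated.orderOf_conj' h i).trans hio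
  obtain ⟨hvP, hv⟩ := hP.qinvol _ ho (mul_mem (mul_mem hh hiH) (inv_mem hh))
  exact ⟨i, h * i * h⁻¹, hi, hvP, hio, ho, hne.symm, (hP.qinvol i hio hiH).2, hv⟩

/-- Trivial intersections transfer along isomorphisms. -/
theorem ti2_congr {X Y : Type*} [Group X] [Finite X] [Group Y] [Finite Y] (e : X ≃* Y) (h : TI2 Y) : TI2 X := by
  haveI : Fact (Nat.Prime 2) := ⟨Nat.prime_two⟩
  intro S T hST
  have hs : Function.Surjective e.toMonoidHom := e.surjective
  refine map_injective (f := e.toMonoidHom) e.injective ?_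
  rw [map_inf _ _ _ e.injective, Subgroup.map_bot]
  exact h (S.mapSurjective hs) (T.mapSurjective hs) fun eq => hST (Sylow.ext (map_injective (f := e.toMonoidHom)
    e.injective (congrArg (fun U : Sylow 2 Y => (U : Subgroup Y)) eq)))

/-- All involutions are conjugate. -/
def OneClass (X : Type u) [Group X] : Prop := ∀ a b : X, orderOf a = 2 → orderOf b = 2 → IsConj a b

theorem oneClass_of_embedded [IsSimpleGroup X] (hH : ∃ H : Subgroup X, Cfsg.IsStronglyEmbedded H) : OneClass X := by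
  haveI : Fact (Nat.Prime 2) := ⟨Nat.prime_two⟩
  obtain ⟨H, hH⟩ := hH
  obtain ⟨t, ht, hto⟩ := Cfsg.Lib.BenderSuzuki.exists_invol_out H hH
  obtain ⟨s, hs⟩ := exists_prime_orderOf_dvd_card' (G := H) 2 (even_iff_two_dvd.1 hH.2.1)
  rw [← Subgroup.orderOf_coe] at hs
  exact (Cfsg.Agent.S1225.result H hH t hto ht s s hs s.2 hs s.2).2

theorem oneClass_congr {Y : Type*} [Group Y] (e : X ≃* Y)
    (h : ∀ a b : Y, orderOf a = 2 → orderOf b = 2 → IsConj a b) : OneClass X := fun a b ha hb => by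
  have := e.symm.toMonoidHom.map_isConj
    (h (e a) (e b) ((MulEquiv.orderOf_eq e a).trans ha) ((MulEquiv.orderOf_eq e b).trans hb))
  simpa using this

theorem oneClass_of_sylow (P : Sylow 2 X) (x : X)
    (h : ∀ y ∈ (P : Subgroup X), orderOf y = 2 → IsConj x y) : OneClass X := by
  haveI : Fact (Nat.Prime 2) := ⟨Nat.prime_two⟩
  have key : ∀ a : X, orderOf a = 2 → IsConj x a := fun a ha => by
    obtain ⟨S, hS⟩ := (IsPGroup.of_card (G := ↥(zpowers a)) (p := 2) (n := 1)
      (by rw [Nat.card_zpowers, ha, pow_one])).exists_le_sylow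
    obtain ⟨g, hg⟩ := MulAction.exists_smul_eq X P S
    have haP := (mem_smul_iff P g a).1 (hg ▸ hS (mem_zpowers a))
    refine (h _ haP ?_).trans (isConj_iff.2 ⟨g, by group⟩)
    have := Cfsg.Lib.Isolated.orderOf_conj' g⁻¹ a
    rwa [inv_inv, ha] at this
  exact fun a b ha hb => (key a ha).symm.trans (key b hb)

theorem oneClass_of_four [IsSimpleGroup X] (hna : ¬ IsMulCommutative X) (P : Sylow 2 X)
    [IsKleinFour ↥(P : Subgroup X)] : OneClass X := by
  haveI : Fact (Nat.Prime 2) := ⟨Nat.prime_two⟩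
  have hsq : ∀ x ∈ (P : Subgroup X), x * x = 1 := fun x hx =>
    congrArg Subtype.val (IsKleinFour.mul_self (⟨x, hx⟩ : ↥(P : Subgroup X)))
  have hmove : ∀ x ∈ (P : Subgroup X), orderOf x = 2 →
      ∃ n ∈ normalizer ((P : Subgroup X) : Set X), n * x * n⁻¹ ≠ x := by
    intro x hx hxo
    by_contra hno
    push Not at hno
    rcases irreducible hna P hsq (zpowers x) (zpowers_le.2 hx) fun n hn a ha => by
      obtain ⟨k, rfl⟩ := mem_zpowers_iff.1 ha
      rw [← conj_zpow, hno n hn]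
      exact zpow_mem (mem_zpowers x) k with h | h
    · rw [zpowers_eq_bot] at h
      rw [h, orderOf_one] at hxo
      omega
    · have h4 := IsKleinFour.card_four (G := ↥(P : Subgroup X))
      rw [← h, Nat.card_zpowers, hxo] at h4
      omega
  obtain ⟨⟨x, hx⟩, hxo⟩ := exists_prime_orderOf_dvd_card' (G := ↥(P : Subgroup X)) 2
    (by rw [IsKleinFour.card_four]; norm_num)
  rw [orderOf_mk] at hxo
  have ho : ∀ (n y : X), orderOf y = 2 → orderOf (n * y * n⁻¹) = 2 :=
    fun n y h => (Cfsg.Lib.Isolated.orderOf_conj' n y).trans h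
  refine oneClass_of_sylow P x fun y hy hyo => ?_
  obtain ⟨n, hn, hne⟩ := hmove x hx hxo
  set w := n * x * n⁻¹ with hw
  have hwP : w ∈ (P : Subgroup X) := (mem_normalizer_iff.1 hn x).1 hx
  have hxw : IsConj x w := isConj_iff.2 ⟨n, rfl⟩
  by_cases hyx : y = x
  · rw [hyx]
  by_cases hyw : y = w
  · exact hyw ▸ hxw
  -- the third involution is moved to one of the other two
  obtain ⟨n', hn', hne'⟩ := hmove y hy hyo
  have hy'P : n' * y * n'⁻¹ ∈ (P : Subgroup X) := (mem_normalizer_iff.1 hn' y).1 hy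
  have hne1 : ∀ {a : X}, orderOf a = 2 → a ≠ 1 := fun {a} h e => by rw [e, orderOf_one] at h; omega
  have hcases : ∀ a ∈ (P : Subgroup X), a = 1 ∨ a = x ∨ a = w ∨ a = y := by
    intro a ha
    by_contra hno
    push Not at hno
    have h5 : 5 ≤ Nat.card ↥(P : Subgroup X) := by
      let f : Fin 5 → ↥(P : Subgroup X) := ![1, ⟨x, hx⟩, ⟨w, hwP⟩, ⟨y, hy⟩, ⟨a, ha⟩]
      have hf : Function.Injective f := by
        intro i j e
        have hwo := ho n x hxo
        rw [← hw] at hwo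
        have e' : (f i : X) = (f j : X) := by rw [e]
        fin_cases i <;> fin_cases j <;> simp [f] at e' <;>
          first | rfl | exact absurd e' (hne1 hxo) | exact absurd e'.symm (hne1 hxo) | exact absurd e' (hne1 hyo) | exact absurd e'.symm (hne1 hyo) | exact absurd e' (hne1 hwo) | exact absurd e'.symm (hne1 hwo) | exact absurd e' hne | exact absurd e'.symm hne | exact absurd e' hyx | exact absurd e'.symm hyx | exact absurd e' hyw | exact absurd e'.symm hyw | exact absurd e' hno.1 | exact absurd e'.symm hno.1 | exact absurd e' hno.2.1 | exact absurd e'.symm hno.2.1 | exact absurd e' hno.2.2.1 | exact absurd e'.symm hno.2.2.1 | exact absurd e' hno.2.2.2 | exact absurd e'.symm hno.2.2.2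
      simpa using Nat.card_le_card_of_injective f hf
    rw [IsKleinFour.card_four] at h5
    omega
  rcases hcases _ hy'P with e | e | e | e
  · exact absurd e (hne1 (ho n' y hyo))
  · exact (isConj_iff.2 ⟨n', e⟩).symm
  · exact hxw.trans (isConj_iff.2 ⟨n', e⟩).symm
  · exact absurd e hne'

theorem oneClass_of_abelian [IsSimpleGroup X] (hna : ¬ IsMulCommutative X) (hab : Cfsg.Lib.Walter.AbTwo X) :
    OneClass X := by
  haveI : Fact (Nat.Prime 2) := ⟨Nat.prime_two⟩
  rcases Cfsg.Lib.Walter.walterProp X hna hab with ⟨F, _, _, ⟨n, -, hF⟩, ⟨e⟩⟩ | ⟨F, _, _, h8, -, ⟨e⟩⟩ | hJ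
  · haveI : CharP F 2 := Cfsg.Lib.PSLBinary.charTwo (Cfsg.Lib.PSLBinary.two_zero hF)
    refine oneClass_congr e fun a b ha hb => ?_
    have key : ∀ s, orderOf s = 2 → IsConj _ s := fun s hs =>
      Cfsg.Lib.PSLBinary.conj_to_up (F := F) (fun h => by rw [h, orderOf_one] at hs; omega)
        (by have := pow_orderOf_eq_one s; rwa [hs, pow_two] at this)
    exact (key a ha).symm.trans (key b hb)
  · obtain ⟨P⟩ : Nonempty (Sylow 2 X) := inferInstance
    have hs : Function.Surjective e.toMonoidHom := e.surjective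
    haveI : IsKleinFour ↥((P : Subgroup X).map e.toMonoidHom) := Cfsg.Agent.S0276.result rfl h8 (P.mapSurjective hs)
    let eP : ↥(P : Subgroup X) ≃* ↥((P : Subgroup X).map e.toMonoidHom) :=
      (P : Subgroup X).equivMapOfInjective e.toMonoidHom e.injective
    haveI : IsKleinFour ↥(P : Subgroup X) :=
      ⟨(Nat.card_congr eP.toEquiv).trans IsKleinFour.card_four,
        (Monoid.exponent_eq_of_mulEquiv eP).trans IsKleinFour.exponent_two⟩
    exact oneClass_of_four hna P
  · obtain ⟨F, _, _, -, -, h⟩ := Cfsg.Lib.Walter.jr_hyp hna hab hJ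
    obtain ⟨P⟩ : Nonempty (Sylow 2 X) := inferInstance
    obtain ⟨⟨x, hx⟩, hxo⟩ := exists_prime_orderOf_dvd_card' (G := ↥(P : Subgroup X)) 2 (even_card_sylow hna P)
    rw [orderOf_mk] at hxo
    obtain ⟨E, E₀, T, a, b, m, -, -, hT⟩ := h x hxo
    refine oneClass_of_sylow T x fun y hy hyo => ?_
    obtain ⟨g, -, hg⟩ := hT y hy fun e => by rw [e, orderOf_one] at hyo; omega
    exact isConj_iff.2 ⟨g, hg⟩

/-- One class of involutions, from Goldschmidt's theorem. -/
theorem oneClass_of_gold (gold : Cfsg.Lib.Goldschmidt.GoldProp.{u}) [IsSimpleGroup X] (hna : ¬ IsMulCommutative X)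
    (S : Sylow 2 X) (A : Subgroup X) (hA : A ≠ ⊥) (hc : IsMulCommutative A)
    (hsc : Cfsg.IsStronglyClosed A (S : Subgroup X)) : OneClass X := by
  haveI : Fact (Nat.Prime 2) := ⟨Nat.prime_two⟩
  rcases gold X S A hA hc hsc with h | h
  · refine oneClass_of_abelian hna fun T x hx y hy => ?_
    have := (Sylow.equiv T S).injective (a₁ := (⟨x, hx⟩ : T) * ⟨y, hy⟩) (a₂ := (⟨y, hy⟩ : T) * ⟨x, hx⟩)
      (by rw [map_mul, map_mul]; exact h.is_comm.comm _ _)
    exact congrArg Subtype.val this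
  · exact oneClass_of_embedded h

/-- A simple group with trivially intersecting four-group Sylow 2-subgroups is the alternating group of degree five. -/
theorem a5_of_ti_four [IsSimpleGroup X] (hna : ¬ IsMulCommutative X) (hX : TI2 X) (P : Sylow 2 X)
    (h4 : Nat.card ↥(P : Subgroup X) = 4) (hsq : ∀ x ∈ (P : Subgroup X), x * x = 1) :
    Nonempty (X ≃* alternatingGroup (Fin 5)) := by
  classical
  haveI : Fact (Nat.Prime 2) := ⟨Nat.prime_two⟩
  have h8 : ¬ 8 ∣ Nat.card X := fun h => by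
    rw [← (P : Subgroup X).card_mul_index, h4] at h
    exact P.not_dvd_index (Nat.dvd_of_mul_dvd_mul_left (by norm_num : 0 < 4) (show 4 * 2 ∣ _ from h))
  rcases Cfsg.Lib.Walter.Consumers.ident_of_embedded hna (embedded_of_ti hna hX) with
    ⟨F, _, _, ⟨n, hn, hF⟩, ⟨e⟩⟩ | ⟨F, _, _, m, hm, hF, ⟨e⟩⟩ | ⟨F, _, _, n, hn, hF, ⟨e⟩⟩
  · have hn2 : n = 2 := by
      by_contra hne
      refine h8 ?_
      have hc := Cfsg.Lib.Classical.SmallPSL.card_psl hF
      have hodd : Nat.gcd 2 (2 ^ n - 1) = 1 := by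
        refine (Nat.prime_two.coprime_iff_not_dvd).2 fun hd => ?_
        have h2n : 2 ∣ 2 ^ n := dvd_pow_self 2 (by omega)
        have := Nat.one_le_two_pow (n := n)
        omega
      rw [hodd, one_mul, ← Nat.card_congr e.toEquiv] at hc
      rw [hc, show n = n - 3 + 3 by omega, pow_add]
      exact dvd_mul_of_dvd_left (dvd_mul_left 8 _) _
    subst hn2
    obtain ⟨f⟩ := Cfsg.Agent.S0252.result (F := F) (by rw [hF]; norm_num)
    exact ⟨e.trans f⟩
  · exact absurd (Cfsg.Lib.Walter.Consumers.sylow_sq_of_one P hsq) fun h => suzuki_not_sq hm hF e h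
  · exfalso
    have hc := Cfsg.Agent.S0280.result (F := F) (q := 2 ^ n) hF 3 (by norm_num)
    rw [← Nat.card_congr e.toEquiv] at hc
    have hd : 8 ∣ Nat.gcd 3 (2 ^ n + 1) * ((2 ^ n + 1) * Nat.card X) := by
      rw [hc, ← pow_mul]
      exact dvd_mul_of_dvd_left ((show (8 : ℕ) ∣ 2 ^ 3 by norm_num).trans (pow_dvd_pow 2 (by omega))) _
    have hodd : Odd (2 ^ n + 1) := (Nat.even_pow.2 ⟨even_two, by omega⟩).add_one
    have hco : Nat.Coprime 8 (Nat.gcd 3 (2 ^ n + 1)) ∧ Nat.Coprime 8 (2 ^ n + 1) := by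
      have h1 : Nat.Coprime (2 ^ 3) (2 ^ n + 1) := Nat.Coprime.pow_left 3 (Nat.coprime_two_left.2 hodd)
      exact ⟨Nat.Coprime.coprime_dvd_right (Nat.gcd_dvd_right _ _) h1, h1⟩
    exact h8 (hco.2.dvd_of_dvd_mul_left (hco.1.dvd_of_dvd_mul_left hd))

end Cfsg.Lib.RankOneInter
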