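import Cfsg.Agent.RankOneInter.Setup
import Cfsg.Agent.RankOneInter.TI
import Cfsg.Agent.S4593

/-!
The simple quotient of a component (row 3310): Sylow subgroups, trivial intersections, inner action.
-/

set_option autoImplicit false
set_option linter.unusedSectionVars false
set_option linter.style.haveILetI false

namespace Cfsg.Lib.RankOneInter

open Subgroup Cfsg.Lib.CyclicInter
open scoped Pointwise

universe u

variable {G : Type u} [Group G] [Finite G] {K : Subgroup G}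

theorem bar_simple (hK : Cfsg.IsComponent K) : IsSimpleGroup (↥K ⧸ center ↥K) := hK.2.2

theorem bar_nonab (hK : Cfsg.IsComponent K) : ¬ IsMulCommutative (↥K ⧸ center ↥K) :=
  Cfsg.Lib.CpQuot.not_commutative hK.2

/-- Centralising a component modulo its centre is centralising it. -/
theorem centralizes_of_mod (hK : Cfsg.IsComponent K) {g : G}
    (h : ∀ k : ↥K, g * k * g⁻¹ * (k : G)⁻¹ ∈ (center ↥K).map K.subtype) : g ∈ centralizer (K : Set G) := by
  refine Cfsg.Lib.Walter.CI.commute_of_mod_center (Cfsg.Lib.Components.comp_perfect hK) fun k hk => ?_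
  obtain ⟨c, hc, e⟩ := h ⟨k, hk⟩
  have e' : (c : G) = g * k * g⁻¹ * k⁻¹ := e
  rw [← e']
  exact mem_inf.2 ⟨c.2, mem_centralizer_iff.2 fun w hw => congrArg Subtype.val (mem_center_iff.1 hc ⟨w, hw⟩)⟩

variable (h : Hyp G) (hK : Cfsg.IsComponent K)
include h hK

theorem center_mem_sylow (S : Sylow 2 G) {x : ↥K} (hx : x ∈ center ↥K) : (x : G) ∈ (S : Subgroup G) :=
  Hyp.pCore_le S (center_le_core h hK (mem_map_of_mem _ hx))

/-- The preimage of the Sylow subgroup of the simple quotient is the Sylow subgroup. -/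
theorem mem_bar_iff (S : Sylow 2 G) {P : Sylow 2 ↥K} (hP : (P : Subgroup ↥K) = (S : Subgroup G).subgroupOf K)
    (k : ↥K) : QuotientGroup.mk' (center ↥K) k ∈ (P : Subgroup ↥K).map (QuotientGroup.mk' (center ↥K)) ↔
      (k : G) ∈ (S : Subgroup G) := by
  refine ⟨?_, fun hk => mem_map_of_mem _ (hP ▸ mem_subgroupOf.2 hk)⟩
  rintro ⟨p, hp, e⟩
  have hc : p⁻¹ * k ∈ center ↥K := QuotientGroup.eq.1 e
  have hpS : (p : G) ∈ (S : Subgroup G) := mem_subgroupOf.1 (hP ▸ hp)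
  have := (S : Subgroup G).mul_mem hpS (center_mem_sylow h hK S hc)
  rwa [show (p : G) * ((p⁻¹ * k : ↥K) : G) = k by push_cast; group] at this

theorem exists_over (U : Sylow 2 (↥K ⧸ center ↥K)) : ∃ (S : Sylow 2 G) (P : Sylow 2 ↥K),
    (P : Subgroup ↥K) = (S : Subgroup G).subgroupOf K ∧
      (U : Subgroup (↥K ⧸ center ↥K)) = (P : Subgroup ↥K).map (QuotientGroup.mk' (center ↥K)) := by
  haveI : Fact (Nat.Prime 2) := ⟨Nat.prime_two⟩
  obtain ⟨P, rfl⟩ := Sylow.mapSurjective_surjective (QuotientGroup.mk'_surjective (center ↥K)) 2 U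
  obtain ⟨S, hS⟩ := (P.2.map K.subtype).exists_le_sylow
  exact ⟨S, P, (P.3 (S.2.comap_subtype (K := K)) (map_le_iff_le_comap.1 hS)).symm, Sylow.coe_mapSurjective _ P⟩

/-- Intersections inside the centre give trivial intersections in the simple quotient. -/
theorem ti_bar (hint : ∀ S T : Sylow 2 G, (S : Subgroup G) ⊓ K ≠ (T : Subgroup G) ⊓ K →
      ∀ x ∈ K, x ∈ (S : Subgroup G) → x ∈ (T : Subgroup G) → ∀ k ∈ K, k * x = x * k) :
    TI2 (↥K ⧸ center ↥K) := by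
  intro U V hUV
  obtain ⟨S, P, hP, hU⟩ := exists_over h hK U
  obtain ⟨T, R, hR, hV⟩ := exists_over h hK V
  refine (eq_bot_iff_forall _).2 fun y hy => ?_
  obtain ⟨k, rfl⟩ := QuotientGroup.mk'_surjective (center ↥K) y
  rw [hU, hV, mem_inf, mem_bar_iff h hK S hP, mem_bar_iff h hK T hR] at hy
  refine (QuotientGroup.eq_one_iff k).2 (mem_center_iff.2 fun w => Subtype.ext ?_)
  refine hint S T (fun e => hUV (Sylow.ext ?_)) k k.2 hy.1 hy.2 w w.2
  rw [hU, hV]
  congr 1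
  apply map_injective K.subtype_injective
  rw [map_sylow S hP, map_sylow T hR, e]

/-- The automorphism of the simple quotient induced by an element normalising the component. -/
theorem exists_barAut {g : G} (hg : g ∈ normalizer (K : Set G)) :
    ∃ α : MulAut (↥K ⧸ center ↥K), (∀ (k : ↥K) (hk : g * k * g⁻¹ ∈ K),
      α (QuotientGroup.mk' (center ↥K) k) = QuotientGroup.mk' (center ↥K) ⟨g * k * g⁻¹, hk⟩) ∧
      ∀ j : ℕ, g ^ 2 ^ j = 1 → α ^ 2 ^ j = 1 := by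
  set a : MulAut ↥K := K.normalizerMonoidHom ⟨g, hg⟩ with ha
  have hc : (center ↥K).map a.toMonoidHom = center ↥K :=
    characteristic_iff_map_eq.1 inferInstance a
  set α : MulAut (↥K ⧸ center ↥K) := QuotientGroup.congr (center ↥K) (center ↥K) a hc with hα
  have happ : ∀ k : ↥K, α (QuotientGroup.mk' (center ↥K) k) = QuotientGroup.mk' (center ↥K) (a k) := fun k => rfl
  refine ⟨α, fun k hk => by rw [happ]; rfl, fun j hj => ?_⟩
  have hpow : ∀ (i : ℕ) (k : ↥K), (α ^ i) (QuotientGroup.mk' (center ↥K) k) =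
      QuotientGroup.mk' (center ↥K) ((a ^ i) k) := by
    intro i
    induction i with
    | zero => intro k; rfl
    | succ i ih => intro k; rw [pow_succ, MulAut.mul_apply, happ, ih, pow_succ, MulAut.mul_apply]
  refine MulEquiv.ext fun y => ?_
  obtain ⟨k, rfl⟩ := QuotientGroup.mk'_surjective (center ↥K) y
  have e : (⟨g, hg⟩ : normalizer (K : Set G)) ^ 2 ^ j = 1 := Subtype.ext (by rw [SubmonoidClass.coe_pow]; exact hj)
  rw [hpow, ha, ← map_pow, e, map_one, MulAut.one_apply, MulAut.one_apply]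

omit h hK in
/-- A 2-power automorphism of a nontrivial elementary abelian 2-group fixes a nontrivial element. -/
theorem exists_fixed {X : Type*} [Group X] (A : Subgroup X) (hA : A ≠ ⊥) (hsq : ∀ x ∈ A, x * x = 1) :
    ∀ (j : ℕ) (α : MulAut X), α ^ 2 ^ j = 1 → (∀ x ∈ A, α x ∈ A) → ∃ x ∈ A, x ≠ 1 ∧ α x = x := by
  intro j
  induction j with
  | zero =>
    intro α h0 _
    obtain ⟨x, hx, hx1⟩ := A.bot_or_exists_ne_one.resolve_left hA
    exact ⟨x, hx, hx1, by rw [pow_zero, pow_one] at h0; rw [h0]; rfl⟩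
  | succ j ih =>
    intro α h1 hinv
    obtain ⟨w, hw, hw1, hfix⟩ := ih (α ^ 2) (by rw [← pow_mul, ← pow_succ', h1]) fun x hx => by
      rw [pow_two, MulAut.mul_apply]; exact hinv _ (hinv x hx)
    rw [pow_two, MulAut.mul_apply] at hfix
    by_cases he : w * α w = 1
    · refine ⟨w, hw, hw1, ?_⟩
      rw [eq_inv_of_mul_eq_one_right he]
      exact inv_eq_of_mul_eq_one_right (hsq w hw)
    · refine ⟨w * α w, mul_mem hw (hinv w hw), he, ?_⟩
      rw [map_mul, hfix]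
      have hc := hsq _ (mul_mem hw (hinv w hw))
      calc α w * w = (α w)⁻¹ * w⁻¹ := by
            rw [inv_eq_of_mul_eq_one_right (hsq w hw), inv_eq_of_mul_eq_one_right (hsq _ (hinv w hw))]
        _ = (w * α w)⁻¹ := (mul_inv_rev _ _).symm
        _ = w * α w := inv_eq_of_mul_eq_one_right hc

/-- A 2-element fixing a Sylow subgroup of the simple quotient elementwise acts as an inner automorphism, when
that Sylow subgroup is elementary abelian. -/
theorem inner_of_fixed (S : Sylow 2 G) {P : Sylow 2 ↥K}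
    (hab : ∀ x ∈ (P : Subgroup ↥K).map (QuotientGroup.mk' (center ↥K)), x * x = 1)
    {g : G} (hgS : g ∈ (S : Subgroup G)) (hg : g ∈ normalizer (K : Set G))
    (hfix : ∀ (x : ↥K) (hx : g * x * g⁻¹ ∈ K), x ∈ (P : Subgroup ↥K) →
      QuotientGroup.mk' (center ↥K) ⟨g * x * g⁻¹, hx⟩ = QuotientGroup.mk' (center ↥K) x) :
    ∃ k ∈ K, k⁻¹ * g ∈ centralizer (K : Set G) := by
  haveI : Fact (Nat.Prime 2) := ⟨Nat.prime_two⟩
  haveI := bar_simple hK
  set π := QuotientGroup.mk' (center ↥K) with hπ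
  set U : Sylow 2 (↥K ⧸ center ↥K) := P.mapSurjective (QuotientGroup.mk'_surjective (center ↥K)) with hU
  have hUe : (U : Subgroup (↥K ⧸ center ↥K)) = (P : Subgroup ↥K).map π := Sylow.coe_mapSurjective _ P
  have hcom : ∀ x ∈ (U : Subgroup (↥K ⧸ center ↥K)), ∀ y ∈ (U : Subgroup (↥K ⧸ center ↥K)), x * y = y * x := by
    intro x hx y hy
    rw [hUe] at hx hy
    calc x * y = (x * y)⁻¹ := (inv_eq_of_mul_eq_one_right (hab _ (mul_mem hx hy))).symm
      _ = y⁻¹ * x⁻¹ := mul_inv_rev _ _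
      _ = y * x := by rw [inv_eq_of_mul_eq_one_right (hab x hx), inv_eq_of_mul_eq_one_right (hab y hy)]
  obtain ⟨α, hα, hαp⟩ := exists_barAut h hK hg
  obtain ⟨j, hj⟩ := S.2 ⟨g, hgS⟩
  replace hj : g ^ 2 ^ j = 1 := congrArg Subtype.val hj
  have hgk : ∀ k : ↥K, g * k * g⁻¹ ∈ K := fun k => (mem_normalizer_iff.1 hg k).1 k.2
  have hU0 : ∀ x ∈ (U : Subgroup (↥K ⧸ center ↥K)), α x = x := by
    intro x hx
    rw [hUe] at hx
    obtain ⟨k, hk, rfl⟩ := hx
    rw [hα k (hgk k)]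
    exact hfix k (hgk k) hk
  have hZ : center (↥K ⧸ center ↥K) = ⊥ :=
    (IsSimpleGroup.eq_bot_or_eq_top_of_normal _ inferInstance).resolve_right fun e => bar_nonab hK
      ⟨⟨fun a b => mem_center_iff.1 (e.ge (mem_top b)) a⟩⟩
  haveI : IsMulCommutative ↥(U : Subgroup (↥K ⧸ center ↥K)) := ⟨⟨fun a b => Subtype.ext (hcom a a.2 b b.2)⟩⟩
  obtain ⟨i, -, hi⟩ := (Nat.dvd_prime_pow Nat.prime_two).1 (orderOf_dvd_of_pow_eq_one (hαp j hj))
  obtain ⟨c, hc⟩ := Cfsg.Agent.S4593.result hZ (Cfsg.Lib.Walter.CI.oddCore_bot (bar_nonab hK)) U inferInstance α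
    ⟨i, hi⟩ hU0
  obtain ⟨k, rfl⟩ := QuotientGroup.mk'_surjective (center ↥K) c
  refine ⟨k, k.2, centralizes_of_mod hK fun m => ?_⟩
  have e := hc (π m)
  rw [hα m (hgk m), ← map_inv, ← map_mul, ← map_mul] at e
  have e1 : (⟨g * m * g⁻¹, hgk m⟩ : ↥K)⁻¹ * (k * m * k⁻¹) ∈ center ↥K := QuotientGroup.eq.1 e
  obtain ⟨c, hc1, hc2⟩ : ∃ c ∈ center ↥K, k * m * k⁻¹ = ⟨g * m * g⁻¹, hgk m⟩ * c :=
    ⟨_, e1, (mul_inv_cancel_left _ _).symm⟩
  refine ⟨c⁻¹, inv_mem hc1, ?_⟩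
  have hcc : ∀ w : ↥K, (w : G) * c = c * w := fun w => congrArg Subtype.val (mem_center_iff.1 hc1 w)
  have e2 : (k : G) * m * (k : G)⁻¹ = g * m * g⁻¹ * c := congrArg Subtype.val hc2
  show (c : G)⁻¹ = (k : G)⁻¹ * g * m * ((k : G)⁻¹ * g)⁻¹ * (m : G)⁻¹
  have e3 : g * m * g⁻¹ = (k : G) * m * (k : G)⁻¹ * (c : G)⁻¹ := by rw [e2, mul_inv_cancel_right]
  rw [show (k : G)⁻¹ * g * m * ((k : G)⁻¹ * g)⁻¹ * (m : G)⁻¹ = (k : G)⁻¹ * (g * m * g⁻¹) * k * (m : G)⁻¹ by group, e3,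
    show (k : G)⁻¹ * ((k : G) * m * (k : G)⁻¹ * (c : G)⁻¹) * k * (m : G)⁻¹ = m * ((k : G)⁻¹ * (c : G)⁻¹ * k) * (m : G)⁻¹ by group,
    show (k : G)⁻¹ * (c : G)⁻¹ * k = (c : G)⁻¹ by
      rw [mul_assoc, ← (show Commute (k : G) c from hcc k).inv_right.eq, inv_mul_cancel_left],
    (show Commute (m : G) c from hcc m).inv_right.eq, mul_inv_cancel_right]

/-- A 2-element inducing on the component the identity modulo `P` on the normaliser of `P` acts as an inner
automorphism, when the Sylow subgroups of the simple quotient are elementary abelian. -/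
theorem inner_of_comm (S : Sylow 2 G) {P : Sylow 2 ↥K} (hP : (P : Subgroup ↥K) = (S : Subgroup G).subgroupOf K)
    (hab : ∀ x ∈ (P : Subgroup ↥K).map (QuotientGroup.mk' (center ↥K)), x * x = 1)
    {g : G} (hgS : g ∈ (S : Subgroup G)) (hg : g ∈ normalizer (K : Set G))
    (hcomm : ∀ n : ↥K, (∀ x : ↥K, (x : G) ∈ (S : Subgroup G) → ((n * x * n⁻¹ : ↥K) : G) ∈ (S : Subgroup G)) →
      g * n * g⁻¹ * (n : G)⁻¹ ∈ (S : Subgroup G)) :
    ∃ k ∈ K, k⁻¹ * g ∈ centralizer (K : Set G) := by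
  haveI : Fact (Nat.Prime 2) := ⟨Nat.prime_two⟩
  haveI := bar_simple hK
  set π := QuotientGroup.mk' (center ↥K) with hπ
  set U : Sylow 2 (↥K ⧸ center ↥K) := P.mapSurjective (QuotientGroup.mk'_surjective (center ↥K)) with hU
  have hUe : (U : Subgroup (↥K ⧸ center ↥K)) = (P : Subgroup ↥K).map π := Sylow.coe_mapSurjective _ P
  have hsq : ∀ x ∈ (U : Subgroup (↥K ⧸ center ↥K)), x * x = 1 := fun x hx => hab x (hUe ▸ hx)
  have hcom : ∀ x ∈ (U : Subgroup (↥K ⧸ center ↥K)), ∀ y ∈ (U : Subgroup (↥K ⧸ center ↥K)), x * y = y * x := by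
    intro x hx y hy
    calc x * y = (x * y)⁻¹ := (inv_eq_of_mul_eq_one_right (hsq _ (mul_mem hx hy))).symm
      _ = y⁻¹ * x⁻¹ := mul_inv_rev _ _
      _ = y * x := by rw [inv_eq_of_mul_eq_one_right (hsq x hx), inv_eq_of_mul_eq_one_right (hsq y hy)]
  obtain ⟨α, hα, hαp⟩ := exists_barAut h hK hg
  obtain ⟨j, hj⟩ := S.2 ⟨g, hgS⟩
  replace hj : g ^ 2 ^ j = 1 := congrArg Subtype.val hj
  have hgk : ∀ k : ↥K, g * k * g⁻¹ ∈ K := fun k => (mem_normalizer_iff.1 hg k).1 k.2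
  have hinv : ∀ x ∈ (U : Subgroup (↥K ⧸ center ↥K)), α x ∈ (U : Subgroup (↥K ⧸ center ↥K)) := by
    intro x hx
    obtain ⟨k, rfl⟩ := QuotientGroup.mk'_surjective (center ↥K) x
    rw [hUe, mem_bar_iff h hK S hP] at hx
    rw [hα k (hgk k), hUe, mem_bar_iff h hK S hP]
    exact mul_mem (mul_mem hgS hx) (inv_mem hgS)
  set A : Subgroup (↥K ⧸ center ↥K) :=
    { carrier := {x | x ∈ (U : Subgroup (↥K ⧸ center ↥K)) ∧ α x = x}
      one_mem' := ⟨one_mem _, map_one α⟩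
      mul_mem' := fun {a b} ha hb => ⟨mul_mem ha.1 hb.1, by rw [map_mul, ha.2, hb.2]⟩
      inv_mem' := fun {a} ha => ⟨inv_mem ha.1, by rw [map_inv, ha.2]⟩ }
  have hAU : A ≤ U := fun x hx => hx.1
  have hU1 : (U : Subgroup (↥K ⧸ center ↥K)) ≠ ⊥ := fun e => by
    have := even_card_sylow (bar_nonab hK) U
    rw [e, card_bot] at this
    omega
  have hAne : A ≠ ⊥ := by
    obtain ⟨x, hx, hx1, hfix⟩ := exists_fixed _ hU1 hsq j α (hαp j hj) hinv
    exact fun e => hx1 (mem_bot.1 (e ▸ (show x ∈ A from ⟨hx, hfix⟩)))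
  have hAinv : ∀ n ∈ normalizer ((U : Subgroup (↥K ⧸ center ↥K)) : Set (↥K ⧸ center ↥K)),
      ∀ a ∈ A, n * a * n⁻¹ ∈ A := by
    intro n hn a ha
    refine ⟨(mem_normalizer_iff.1 hn a).1 ha.1, ?_⟩
    obtain ⟨m, rfl⟩ := QuotientGroup.mk'_surjective (center ↥K) n
    have hm : ∀ x : ↥K, (x : G) ∈ (S : Subgroup G) → ((m * x * m⁻¹ : ↥K) : G) ∈ (S : Subgroup G) := by
      intro x hx
      rw [← mem_bar_iff h hK S hP, map_mul, map_mul, map_inv]
      rw [hUe] at hn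
      exact (mem_normalizer_iff.1 hn _).1 ((mem_bar_iff h hK S hP x).2 hx)
    set p : ↥K := ⟨g * m * g⁻¹, hgk m⟩ * m⁻¹ with hp
    have hpU : π p ∈ (U : Subgroup (↥K ⧸ center ↥K)) := by
      rw [hUe, hπ, mem_bar_iff h hK S hP]
      exact hcomm m hm
    have hαm : α (π m) = π p * π m := by
      rw [hπ, hα m (hgk m), ← map_mul, hp, inv_mul_cancel_right]
    rw [map_mul, map_mul, map_inv, hαm, ha.2, mul_inv_rev,
      show π p * π m * a * ((π m)⁻¹ * (π p)⁻¹) = π p * (π m * a * (π m)⁻¹) * (π p)⁻¹ by group,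
      hcom _ hpU _ ((mem_normalizer_iff.1 hn a).1 ha.1), mul_inv_cancel_right]
  have hAtop := (Cfsg.Lib.Walter.CI.irreducible (bar_nonab hK) U hsq A hAU hAinv).resolve_left hAne
  refine inner_of_fixed h hK S hab hgS hg fun x hx hxP => ?_
  have hxU : π x ∈ (U : Subgroup (↥K ⧸ center ↥K)) := hUe ▸ mem_map_of_mem _ hxP
  rw [← hα x hx]
  exact ((hAtop.ge hxU : π x ∈ A)).2

end Cfsg.Lib.RankOneInter
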