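import Cfsg.Agent.RankOneInter.One
import Cfsg.Agent.Goldschmidt.Final
import Cfsg.Agent.SylowRankOne.Embedded
import Cfsg.Agent.S4143
import Cfsg.Agent.S0113
import Cfsg.Agent.S0111
import Cfsg.Agent.SemiCyclic.Reduce.Shapes

/-!
A component with a four-group and a central involution: every involution of the simple quotient lifts to an
involution (row 3310), by Goldschmidt's theorem.
-/

set_option autoImplicit false
set_option linter.unusedSectionVars false
set_option linter.style.haveILetI false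

namespace Cfsg.Lib.RankOneInter

open Subgroup Cfsg.Lib.CyclicInter Cfsg.Lib.Walter.CI
open scoped Pointwise

universe u

variable {G : Type u} [Group G] [Finite G] {K : Subgroup G}

/-- A 2-group with a four-group in the component has a noncentral involution there. -/
theorem exists_noncentral (h : Hyp G) (hK : Cfsg.IsComponent K) (S : Sylow 2 G) (h4 : FourIn ((S : Subgroup G) ⊓ K)) :
    ∃ u : ↥K, (u : G) ∈ (S : Subgroup G) ∧ u * u = 1 ∧ u ∉ center ↥K := by
  obtain ⟨u, v, hu, hv, hu2, hv2, hu1, hv1, hne, hc⟩ := h4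
  by_contra hno
  push Not at hno
  refine h.core_not_four ⟨u, v, center_le_core h hK ⟨⟨u, hu.2⟩, ?_, rfl⟩, center_le_core h hK ⟨⟨v, hv.2⟩, ?_, rfl⟩,
    hu2, hv2, hu1, hv1, hne, hc⟩
  · exact hno ⟨u, hu.2⟩ hu.1 (Subtype.ext hu2)
  · exact hno ⟨v, hv.2⟩ hv.1 (Subtype.ext hv2)

/-- A subgroup of order eight of this kind makes the Sylow subgroup of maximal class, against transfer. -/
theorem no_small (hK : Cfsg.IsComponent K) (P : Sylow 2 ↥K) {u z : ↥K} (hu : u ∈ (P : Subgroup ↥K))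
    (hu2 : u * u = 1) (huc : u ∉ center ↥K) (hz : z ∈ center ↥K) (hzP : z ∈ (P : Subgroup ↥K)) (hz2 : z * z = 1)
    (hz1 : z ≠ 1) (B : Subgroup ↥K) (hBP : B ≤ P) (hB : Nat.card B = 8) (hBna : ¬ IsMulCommutative B)
    (hBc : ∀ w ∈ (P : Subgroup ↥K), (∀ b ∈ B, b * w = w * b) → w ∈ B) : False := by
  haveI : Fact (Nat.Prime 2) := ⟨Nat.prime_two⟩
  obtain ⟨n, hn⟩ := IsPGroup.iff_card.1 P.2
  have h8 : 3 ≤ n := by
    have h1 := card_dvd_of_le hBP
    rw [hB, hn, show 8 = 2 ^ 3 by norm_num] at h1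
    exact (Nat.pow_dvd_pow_iff_le_right (by norm_num)).1 h1
  set B' := B.subgroupOf (P : Subgroup ↥K) with hB'
  have hcl := Cfsg.Agent.S4143.result (p := 2) n hn B'
    (by rw [hB', Nat.card_congr (subgroupOfEquivOfLe hBP).toEquiv, hB]; norm_num) (fun hc => hBna ⟨⟨fun a b => by
      have := congrArg (fun x : B' => ((x : ↥(P : Subgroup ↥K)) : ↥K))
        (hc.is_comm.comm ⟨⟨a, hBP a.2⟩, mem_subgroupOf.2 a.2⟩ ⟨⟨b, hBP b.2⟩, mem_subgroupOf.2 b.2⟩)
      exact Subtype.ext this⟩⟩) fun w hw => mem_subgroupOf.2 (hBc w w.2 fun b hb =>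
        congrArg Subtype.val (mem_centralizer_iff.1 hw ⟨b, hBP hb⟩ (mem_subgroupOf.2 hb)))
  obtain ⟨A, hA, hAi⟩ := Cfsg.Agent.S0113.result n h8 hn hcl
  set A' := A.map (P : Subgroup ↥K).subtype with hA'
  have hAP : A' ≤ (P : Subgroup ↥K) := map_subtype_le A
  haveI := hA
  haveI hA'c : IsCyclic ↥A' :=
    isCyclic_of_surjective (A.equivMapOfInjective _ (P : Subgroup ↥K).subtype_injective).toMonoidHom
      (MulEquiv.surjective _)
  have hrel : A'.relIndex (P : Subgroup ↥K) = 2 := by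
    rw [relIndex, show A'.subgroupOf (P : Subgroup ↥K) = A from
      comap_map_eq_self_of_injective (P : Subgroup ↥K).subtype_injective A, hAi]
  have hu1 : u ≠ 1 := fun e => huc (e ▸ one_mem _)
  -- the involution of the cyclic subgroup is the central one
  have hinv : ∀ x ∈ A', x * x = 1 → x = 1 ∨ x ∈ center ↥K := by
    intro x hx hx2
    by_cases hx1 : x = 1
    · exact Or.inl hx1
    have hzA : z ∈ A' := by
      by_contra hzA
      have hmax : ∀ y ∈ (P : Subgroup ↥K), y ∈ A' ∨ z⁻¹ * y ∈ A' := fun y hy => by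
        have hiff := (Subgroup.mul_mem_iff_of_index_two hAi (a := ⟨z, hzP⟩⁻¹) (b := ⟨y, hy⟩))
        by_cases hy' : (⟨y, hy⟩ : ↥(P : Subgroup ↥K)) ∈ A
        · exact Or.inl ⟨_, hy', rfl⟩
        · refine Or.inr ⟨⟨z, hzP⟩⁻¹ * ⟨y, hy⟩, hiff.2 (iff_of_false (fun h' => hzA ?_) hy'), rfl⟩
          exact ⟨_, (inv_mem_iff).1 h', rfl⟩
      haveI := hA'c
      letI : CommGroup ↥A' := IsCyclic.commGroup
      refine hBna ⟨⟨fun a b => Subtype.ext ?_⟩⟩
      have hcomm : ∀ a' ∈ A', ∀ b' ∈ A', a' * b' = b' * a' := fun a' ha b' hb =>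
        congrArg Subtype.val (mul_comm (⟨a', ha⟩ : A') ⟨b', hb⟩)
      have hzc : ∀ w : ↥K, w * z = z * w := mem_center_iff.1 hz
      show (a : ↥K) * b = b * a
      rcases hmax a (hBP a.2) with ha | ha <;> rcases hmax b (hBP b.2) with hb | hb <;>
        have e := hcomm _ ha _ hb
      · exact e
      · calc (a : ↥K) * b = z * (a * (z⁻¹ * b)) := by rw [← mul_assoc z, ← hzc a, mul_assoc, mul_inv_cancel_left]
          _ = b * a := by rw [e]; group
      · calc (a : ↥K) * b = z * (z⁻¹ * a * b) := by group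
          _ = z * (b * (z⁻¹ * a)) := by rw [e]
          _ = b * a := by rw [← mul_assoc z, ← hzc (b : ↥K), mul_assoc, mul_inv_cancel_left]
      · calc (a : ↥K) * b = z * (z * ((z⁻¹ * a) * (z⁻¹ * b))) := by
              rw [show z⁻¹ * (a : ↥K) * (z⁻¹ * b) = z⁻¹ * ((a : ↥K) * z⁻¹) * b by group,
                (show Commute (a : ↥K) z from hzc a).inv_right.eq]; group
          _ = z * (z * ((z⁻¹ * b) * (z⁻¹ * a))) := by rw [e]
          _ = b * a := by
              rw [show z⁻¹ * (b : ↥K) * (z⁻¹ * a) = z⁻¹ * ((b : ↥K) * z⁻¹) * a by group,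
                (show Commute (b : ↥K) z from hzc b).inv_right.eq]; group
    have e := Cfsg.Lib.SemiCyclic.unique_invol_cyclic (x := (⟨z, hzA⟩ : A')) (y := ⟨x, hx⟩)
      (orderOf_eq_prime (Subtype.ext (by rw [SubmonoidClass.coe_pow, pow_two]; exact hz2))
        fun e => hz1 (congrArg Subtype.val e))
      (orderOf_eq_prime (Subtype.ext (by rw [SubmonoidClass.coe_pow, pow_two]; exact hx2))
        fun e => hx1 (congrArg Subtype.val e))
    have e' : x = z := (congrArg Subtype.val e).symm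
    exact Or.inr (by rw [e']; exact hz)
  have huA : u ∉ A' := fun hm => (hinv u hm hu2).elim hu1 huc
  haveI := hK.2.1
  rcases Cfsg.Agent.S0111.result P A' hAP hrel u (orderOf_eq_prime (by rw [pow_two, hu2]) hu1) hu huA with
    ⟨M, hM, hMi, -⟩ | ⟨g, hg⟩
  · haveI := hM
    haveI : Group.IsPerfect (↥K ⧸ M) := inferInstance
    haveI : Nontrivial (↥K ⧸ M) := Finite.one_lt_card_iff_nontrivial.1 (by rw [← index_eq_card, hMi]; norm_num)
    exact Group.IsPerfect.not_isSolvable (↥K ⧸ M) (Cfsg.Lib.GenDihedral.solvable_small (by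
      rw [← index_eq_card, hMi]; norm_num))
  · rcases hinv _ hg (by rw [show g * u * g⁻¹ * (g * u * g⁻¹) = g * (u * u) * g⁻¹ by group, hu2, mul_one,
      mul_inv_cancel]) with e | e
    · exact hu1 (conj_eq_one_iff.1 e)
    · refine huc ?_
      have := (inferInstance : (center ↥K).Normal).conj_mem _ e g⁻¹
      rwa [show g⁻¹ * (g * u * g⁻¹) * g⁻¹⁻¹ = u by group] at this

/-- The simple quotient has one class of involutions. -/
theorem oneClass_bar (h : Hyp G) (hK : Cfsg.IsComponent K) (S : Sylow 2 G) (h4 : FourIn ((S : Subgroup G) ⊓ K))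
    (hc : center ↥K ≠ ⊥) : OneClass (↥K ⧸ center ↥K) := by
  classical
  haveI : Fact (Nat.Prime 2) := ⟨Nat.prime_two⟩
  haveI := bar_simple hK
  have hna := bar_nonab hK
  obtain ⟨P, hP⟩ := exists_sylow hK S
  set π := QuotientGroup.mk' (center ↥K) with hπ
  set U : Sylow 2 (↥K ⧸ center ↥K) := P.mapSurjective (QuotientGroup.mk'_surjective (center ↥K)) with hU
  have hUe : ∀ k : ↥K, π k ∈ (U : Subgroup (↥K ⧸ center ↥K)) ↔ (k : G) ∈ (S : Subgroup G) := fun k => by
    rw [hπ, hU, Sylow.coe_mapSurjective]; exact mem_bar_iff h hK S hP k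
  have hPmem : ∀ k : ↥K, k ∈ (P : Subgroup ↥K) ↔ (k : G) ∈ (S : Subgroup G) := fun k => by
    rw [hP, mem_subgroupOf]
  have hwne : Wz U ≠ ⊥ := Cfsg.Lib.SylowRankOne.wz_ne_bot U fun e => by
    have := even_card_sylow hna U
    rw [e, card_bot] at this
    omega
  haveI hWc : IsMulCommutative ↥(Wz U) := ⟨⟨fun a b => Subtype.ext ((mem_Zc.1 b.2.1).2 a a.2.1.1)⟩⟩
  refine oneClass_of_gold Cfsg.Lib.Goldschmidt.goldProp hna U (Wz U) hwne hWc ⟨Wz_le U, fun a ha g hga => ?_⟩
  set a' := g * a * g⁻¹ with ha'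
  have ha'2 : a' * a' = 1 := by
    rw [ha', show g * a * g⁻¹ * (g * a * g⁻¹) = g * (a * a) * g⁻¹ by group, ha.2, mul_one, mul_inv_cancel]
  by_cases hcen : ∀ s ∈ (U : Subgroup (↥K ⧸ center ↥K)), s * a' = a' * s
  · exact mem_Wz.2 ⟨mem_Zc.2 ⟨hga, hcen⟩, ha'2⟩
  exfalso
  set W : Subgroup ↥K := (P : Subgroup ↥K) ⊓ (centralizer ({a'} : Set (↥K ⧸ center ↥K))).comap π with hW
  have hmemW : ∀ k : ↥K, k ∈ W ↔ (k : G) ∈ (S : Subgroup G) ∧ π k * a' = a' * π k := fun k => by
    rw [hW, mem_inf, mem_comap, mem_centralizer_singleton_iff, hPmem]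
  by_cases hW4 : FourIn (W.map K.subtype)
  · -- the centraliser in `U` is a Sylow subgroup of the centraliser
    set C := centralizer ({a'} : Set (↥K ⧸ center ↥K)) with hC
    set D := (U : Subgroup (↥K ⧸ center ↥K)) ⊓ C with hD
    obtain ⟨R, hR⟩ := ((U.2.to_le inf_le_left : IsPGroup 2 ↥D).comap_subtype (K := C)).exists_le_sylow
    have hRD : (R : Subgroup ↥C) = D.subgroupOf C := by
      refine le_antisymm (fun r hr => ?_) hR
      by_contra hrD
      haveI := R.2.isNilpotent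
      set D' := (D.subgroupOf C).subgroupOf (R : Subgroup ↥C) with hD'
      have hlt : D' < ⊤ := lt_top_iff_ne_top.2 fun e => hrD (by
        have h1 : (⟨r, hr⟩ : ↥(R : Subgroup ↥C)) ∈ D' := e ▸ mem_top _
        exact mem_subgroupOf.1 h1)
      obtain ⟨m, hm, hmD⟩ := SetLike.exists_of_lt (Group.normalizerCondition_of_isNilpotent D' hlt)
      obtain ⟨k, hk⟩ := QuotientGroup.mk'_surjective (center ↥K) ((m : ↥C) : ↥K ⧸ center ↥K)
      obtain ⟨u, v, hu, hv, hu2, hv2, hu1, hv1, hne, hcm⟩ := hW4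
      obtain ⟨u, hu, rfl⟩ := hu
      obtain ⟨v, hv, rfl⟩ := hv
      have hkW : ∀ w ∈ W, ((k * w * k⁻¹ : ↥K) : G) ∈ (S : Subgroup G) := by
        intro w hw
        obtain ⟨hwS, hwc⟩ := (hmemW w).1 hw
        have hwC : π w ∈ C := mem_centralizer_singleton_iff.2 hwc
        have hwD : (⟨π w, hwC⟩ : ↥C) ∈ D.subgroupOf C := mem_subgroupOf.2 ⟨(hUe w).2 hwS, hwC⟩
        have h1 := (mem_normalizer_iff.1 hm ⟨⟨π w, hwC⟩, hR hwD⟩).1 (mem_subgroupOf.2 hwD)
        have h2 := (mem_subgroupOf.1 (mem_subgroupOf.1 h1)).1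
        rw [← hUe, map_mul, map_mul, map_inv, hπ, hk]
        exact h2
      have hkS : (k : G) ∈ normalizer ((S : Subgroup G) : Set G) :=
        h.ri.mem_normalizer ((hmemW u).1 hu).1 ((hmemW v).1 hv).1 hu2 hv2 hu1 hv1 hne hcm (hkW u hu) (hkW v hv)
      have hkU : π k • U = U := by
        refine Sylow.smul_eq_iff_mem_normalizer.2 (mem_normalizer_fintype fun y hy => ?_)
        obtain ⟨w, rfl⟩ := QuotientGroup.mk'_surjective (center ↥K) y
        rw [← map_inv, ← map_mul, ← map_mul]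
        exact (hUe _).2 ((mem_normalizer_iff.1 hkS _).1 ((hUe w).1 hy))
      obtain ⟨j, hj⟩ := R.2 m
      have hj' : ((m : ↥C) : ↥K ⧸ center ↥K) ^ 2 ^ j = 1 :=
        congrArg (fun x : ↥(R : Subgroup ↥C) => ((x : ↥C) : ↥K ⧸ center ↥K)) hj
      rw [← hk] at hj'
      have hkmem := mem_of_fix U hj' hkU
      exact hmD (mem_subgroupOf.2 (mem_subgroupOf.2 ⟨hk ▸ hkmem, (m : ↥C).2⟩))
    have hga' : ((g • U : Sylow 2 (↥K ⧸ center ↥K)) : Subgroup (↥K ⧸ center ↥K)) ≤ C := fun y hy => by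
      refine mem_centralizer_singleton_iff.2 ?_
      have h1 := (mem_Zc.1 ha.1).2 _ ((mem_smul_iff U g y).1 hy)
      calc y * a' = g * (g⁻¹ * y * g * a) * g⁻¹ := by rw [ha']; group
        _ = g * (a * (g⁻¹ * y * g)) * g⁻¹ := by rw [h1]
        _ = a' * y := by rw [ha']; group
    obtain ⟨R', hR'⟩ := (((g • U : Sylow 2 (↥K ⧸ center ↥K))).2.comap_subtype (K := C)).exists_le_sylow
    have hle : Nat.card ↥(U : Subgroup (↥K ⧸ center ↥K)) ≤ Nat.card ↥D := by
      rw [Nat.card_congr (Sylow.equiv U (g • U)).toEquiv, ← Nat.card_congr (subgroupOfEquivOfLe hga').toEquiv]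
      refine (Nat.le_of_dvd Nat.card_pos (card_dvd_of_le hR')).trans (le_of_eq ?_)
      rw [Nat.card_congr (Sylow.equiv R' R).toEquiv, hRD,
        Nat.card_congr (subgroupOfEquivOfLe (inf_le_right : D ≤ C)).toEquiv]
    exact hcen fun s hs => mem_centralizer_singleton_iff.1
      ((eq_of_le_of_card_ge (inf_le_left : D ≤ U) hle).ge hs).2
  -- the preimage is quaternion of order eight
  have hzt : ∃ z ∈ center ↥K, z * z = 1 ∧ z ≠ 1 := by
    have h2 : IsPGroup 2 ↥(center ↥K) := (P.2).to_le fun x hx => (hPmem x).2 (center_mem_sylow h hK S hx)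
    obtain ⟨m, hm⟩ := IsPGroup.iff_card.1 h2
    have hm0 : m ≠ 0 := fun e => hc (eq_bot_of_card_eq _ (by rw [hm, e, pow_zero]))
    obtain ⟨t, ht⟩ := exists_prime_orderOf_dvd_card' (G := center ↥K) 2 (hm ▸ dvd_pow_self 2 hm0)
    refine ⟨t, t.2, ?_, fun e => ?_⟩
    · have := pow_orderOf_eq_one t
      rw [ht, pow_two] at this
      exact congrArg Subtype.val this
    · rw [show t = 1 from Subtype.ext e, orderOf_one] at ht; omega
  obtain ⟨z, hz, hz2, hz1⟩ := hzt
  obtain ⟨x, hx⟩ := QuotientGroup.mk'_surjective (center ↥K) a'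
  obtain ⟨y, hy⟩ := QuotientGroup.mk'_surjective (center ↥K) a
  have hcentW : ∀ t ∈ center ↥K, t ∈ W := fun t ht => (hmemW t).2 ⟨center_mem_sylow h hK S ht, by
    rw [show π t = 1 from (QuotientGroup.eq_one_iff t).2 ht, one_mul, mul_one]⟩
  have hxS : (x : G) ∈ (S : Subgroup G) := (hUe x).1 (hx ▸ hga)
  have hyS : (y : G) ∈ (S : Subgroup G) := (hUe y).1 (hy ▸ ha.1.1)
  have hxW : x ∈ W := (hmemW x).2 ⟨hxS, by rw [hπ, hx]⟩
  have hyW : y ∈ W := (hmemW y).2 ⟨hyS, by rw [hπ, hy]; exact ((mem_Zc.1 ha.1).2 a' hga).symm⟩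
  have hWP : W ≤ (P : Subgroup ↥K) := inf_le_left
  set W₀ := W.map K.subtype with hW₀
  have hW2 : IsPGroup 2 ↥W₀ := (P.2.to_le hWP).map _
  have hzW₀ : (z : G) ∈ W₀ := mem_map_of_mem _ (hcentW z hz)
  have hz2' : (z : G) * z = 1 := congrArg Subtype.val hz2
  have hz1' : (z : G) ≠ 1 := fun e => hz1 (Subtype.ext e)
  have hzc : ∀ w ∈ W₀, w * z = z * w := by
    rintro _ ⟨w, -, rfl⟩
    exact congrArg Subtype.val (mem_center_iff.1 hz w)
  have hane : a' ≠ a := fun e => hcen (e ▸ (mem_Zc.1 ha.1).2)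
  have ha1 : a ≠ 1 := fun e => hcen fun s _ => by rw [ha', e, mul_one, mul_inv_cancel, one_mul, mul_one]
  have ha'1 : a' ≠ 1 := fun e => ha1 (conj_eq_one_iff.1 e)
  have hWnc : ¬ IsCyclic ↥W₀ := by
    intro hcy
    haveI := hcy
    haveI : IsCyclic ↥W := isCyclic_of_surjective (W.equivMapOfInjective _ K.subtype_injective).symm.toMonoidHom
      (MulEquiv.surjective _)
    haveI : IsCyclic ↥(W.map π) := isCyclic_of_surjective (π.subgroupMap W) (π.subgroupMap_surjective W)
    refine hane (congrArg Subtype.val (Cfsg.Lib.SemiCyclic.unique_invol_cyclic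
      (x := (⟨a, y, hyW, hy⟩ : W.map π)) (y := ⟨a', x, hxW, hx⟩) ?_ ?_) : a = a').symm
    · exact orderOf_eq_prime (Subtype.ext (by rw [SubmonoidClass.coe_pow, pow_two]; exact ha.2))
        fun e => ha1 (congrArg Subtype.val e)
    · exact orderOf_eq_prime (Subtype.ext (by rw [SubmonoidClass.coe_pow, pow_two]; exact ha'2))
        fun e => ha'1 (congrArg Subtype.val e)
  obtain ⟨p, hp, r, hr, -, hp1, hp2, hpr⟩ := exists_pair_four hW2 hW4 hWnc
  -- the centre has order two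
  have hcz : ∀ t ∈ center ↥K, t = 1 ∨ t = z := by
    intro t ht
    have htc : ∀ w ∈ W₀, (t : G) * w = w * t := by
      rintro _ ⟨w, -, rfl⟩
      exact (congrArg Subtype.val (mem_center_iff.1 ht w)).symm
    have htW : (t : G) ∈ W₀ := mem_map_of_mem _ (hcentW t ht)
    have ht2 := sq_eq_one_of_commute hW2 hW4 hp hr htW hp1 hp2 hpr (htc p hp) (htc r hr)
    exact (eq_of_not_fourIn hW4 hzW₀ hz2' hz1' htW ht2 (hzc _ htW)).imp (fun e => Subtype.ext e)
      fun e => Subtype.ext e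
  have hsq : ∀ {w : ↥K} {b : ↥K ⧸ center ↥K}, w ∈ W → π w = b → b * b = 1 → b ≠ 1 → w * w = z := by
    intro w b hw hwb hb2 hb1
    have hwc : w * w ∈ center ↥K := by
      rw [← QuotientGroup.eq_one_iff (N := center ↥K)]
      show π (w * w) = 1
      rw [map_mul, hwb, hb2]
    refine (hcz _ hwc).resolve_left fun e => hb1 ?_
    rcases eq_of_not_fourIn hW4 hzW₀ hz2' hz1' (mem_map_of_mem _ hw) (congrArg Subtype.val e)
      (hzc _ (mem_map_of_mem _ hw)) with e' | e'
    · rw [← hwb, show w = 1 from Subtype.ext e', map_one]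
    · rw [← hwb, show w = z from Subtype.ext e']
      exact (QuotientGroup.eq_one_iff z).2 hz
  have hxx : x * x = z := hsq hxW hx ha'2 ha'1
  have hyy : y * y = z := hsq hyW hy ha.2 ha1
  have hxy : x * y ≠ y * x := by
    intro e
    refine hW4 (fourIn_of_commute (mem_map_of_mem _ hxW) (mem_map_of_mem _ hyW) (congrArg Subtype.val e)
      (congrArg Subtype.val (hxx.trans hyy.symm)) ?_ ?_ (fun e' => hane ?_) (fun e' => hane ?_))
    · rw [show K.subtype x * K.subtype x = (z : G) from congrArg Subtype.val hxx]; exact hz1'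
    · rw [show K.subtype x * K.subtype x = (z : G) from congrArg Subtype.val hxx]; exact hz2'
    · rw [← hx, ← hy, show y = x from Subtype.ext e']
    · rw [show K.subtype x * K.subtype x = (z : G) from congrArg Subtype.val hxx] at e'
      rw [← hy, show y = x * z from Subtype.ext e', map_mul,
        show QuotientGroup.mk' (center ↥K) z = 1 from (QuotientGroup.eq_one_iff z).2 hz, mul_one, hx]
  have hzc' : ∀ w : ↥K, w * z = z * w := mem_center_iff.1 hz
  -- every element is one of eight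
  have hpm : ∀ w ∈ W, ∀ (b : ↥K), π b * π w = π w * π b → w * b = b * w ∨ w * b = z * (b * w) := by
    intro w hw b hb
    have hm : (b * w)⁻¹ * (w * b) ∈ center ↥K := QuotientGroup.eq.1 (by
      show π (b * w) = π (w * b)
      rw [map_mul, map_mul, hb])
    rcases hcz _ hm with e | e
    · exact Or.inl (inv_mul_eq_one.1 e).symm
    · refine Or.inr ?_
      rw [← hzc', ← e, mul_inv_cancel_left]
  have hanti : x * y = z * (y * x) := by
    rcases hpm x hxW y (by rw [hπ, hx, hy]; exact ((mem_Zc.1 ha.1).2 a' hga).symm) with e | e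
    · exact absurd e hxy
    · exact e
  have height : ∀ w ∈ W, w * x = x * w → w * y = y * w → w = 1 ∨ w = z := by
    intro w hw h1 h2
    have hw2 := sq_eq_one_of_commute hW2 hW4 (mem_map_of_mem _ hxW) (mem_map_of_mem _ hyW) (mem_map_of_mem _ hw)
      (by rw [show K.subtype x * K.subtype x = (z : G) from congrArg Subtype.val hxx]; exact hz1')
      (by rw [show K.subtype x * K.subtype x = (z : G) from congrArg Subtype.val hxx]; exact hz2')
      (fun e => hxy (Subtype.ext e)) (congrArg Subtype.val h1) (congrArg Subtype.val h2)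
    exact (eq_of_not_fourIn hW4 hzW₀ hz2' hz1' (mem_map_of_mem _ hw) hw2 (hzc _ (mem_map_of_mem _ hw))).imp
      (fun e => Subtype.ext e) fun e => Subtype.ext e
  let L : Fin 8 → ↥K := ![1, z, x, x * z, y, y * z, y * x, y * x * z]
  have hzy : Commute z y := (hzc' y).symm
  have hzx : Commute z x := (hzc' x).symm
  have hcov : ∀ w ∈ W, ∃ i, L i = w := by
    intro w hw
    have hwy := hpm w hw y (by
      rw [hπ, hy]
      exact ((mem_Zc.1 ha.1).2 _ ((hUe w).2 ((hmemW w).1 hw).1)).symm)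
    have hwx := hpm w hw x (by rw [hπ, hx]; exact ((hmemW w).1 hw).2.symm)
    rcases hwx with hwx | hwx <;> rcases hwy with hwy | hwy
    · rcases height w hw hwx hwy with e | e
      · exact ⟨0, e.symm⟩
      · exact ⟨1, e.symm⟩
    · -- `x` inverts `y`
      rcases height (x⁻¹ * w) (W.mul_mem (W.inv_mem hxW) hw) (by
          rw [mul_assoc, hwx, inv_mul_cancel_left, mul_inv_cancel_left]) (by
          rw [mul_assoc, hwy, ← mul_assoc x⁻¹]
          calc x⁻¹ * z * (y * w) = x⁻¹ * (z * (y * x)) * (x⁻¹ * w) := by group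
            _ = x⁻¹ * (x * y) * (x⁻¹ * w) := by rw [hanti]
            _ = y * (x⁻¹ * w) := by group) with e | e
      · exact ⟨2, (inv_mul_eq_one.1 e)⟩
      · exact ⟨3, (inv_mul_eq_iff_eq_mul.1 e).symm⟩
    · rcases height (y⁻¹ * w) (W.mul_mem (W.inv_mem hyW) hw) (by
          rw [mul_assoc, hwx]
          calc y⁻¹ * (z * (x * w)) = y⁻¹ * (z * (x * y)) * (y⁻¹ * w) := by group
            _ = y⁻¹ * (z * (z * (y * x))) * (y⁻¹ * w) := by rw [hanti]
            _ = y⁻¹ * (y * x) * (y⁻¹ * w) := by rw [← mul_assoc z z, hz2, one_mul]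
            _ = x * (y⁻¹ * w) := by group) (by
          rw [mul_assoc, hwy, inv_mul_cancel_left, mul_inv_cancel_left]) with e | e
      · exact ⟨4, (inv_mul_eq_one.1 e)⟩
      · exact ⟨5, (inv_mul_eq_iff_eq_mul.1 e).symm⟩
    · rcases height ((y * x)⁻¹ * w) (W.mul_mem (W.inv_mem (W.mul_mem hyW hxW)) hw) (by
          rw [mul_assoc, hwx]
          calc (y * x)⁻¹ * (z * (x * w)) = (y * x)⁻¹ * (z * (x * y)) * x * ((y * x)⁻¹ * w) := by group
            _ = (y * x)⁻¹ * (z * (z * (y * x))) * x * ((y * x)⁻¹ * w) := by rw [hanti]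
            _ = (y * x)⁻¹ * (y * x) * x * ((y * x)⁻¹ * w) := by rw [← mul_assoc z z, hz2, one_mul]
            _ = x * ((y * x)⁻¹ * w) := by group) (by
          rw [mul_assoc, hwy]
          calc (y * x)⁻¹ * (z * (y * w)) = x⁻¹ * (y⁻¹ * z * y) * w := by group
            _ = x⁻¹ * z * w := by rw [(hzy.inv_right.symm).eq, inv_mul_cancel_right]
            _ = x⁻¹ * (z * (y * x)) * (x⁻¹ * (y⁻¹ * w)) := by group
            _ = x⁻¹ * (x * y) * (x⁻¹ * (y⁻¹ * w)) := by rw [hanti]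
            _ = y * ((y * x)⁻¹ * w) := by group) with e | e
      · exact ⟨6, (inv_mul_eq_one.1 e)⟩
      · exact ⟨7, (inv_mul_eq_iff_eq_mul.1 e).symm⟩
  have hle8 : Nat.card ↥W ≤ 8 := by
    choose i hi using hcov
    refine le_of_le_of_eq (Nat.card_le_card_of_injective (fun w : W => i w w.2) fun w v e => Subtype.ext ?_)
      (Nat.card_fin 8)
    rw [← hi w w.2, ← hi v v.2]
    exact congrArg L e
  obtain ⟨m, hm⟩ := IsPGroup.iff_card.1 (P.2.to_le hWP)
  have hm3 : m = 3 := by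
    have hm8 : m ≤ 3 := by
      rw [hm, show 8 = 2 ^ 3 by norm_num] at hle8
      exact (Nat.pow_le_pow_iff_right (by norm_num)).1 hle8
    by_contra hne
    have hcomm : IsMulCommutative ↥W := by
      rcases (show m = 0 ∨ m = 1 ∨ m = 2 by omega) with rfl | rfl | rfl
      · haveI : Subsingleton ↥W := (Nat.card_eq_one_iff_unique.1 (by simpa using hm)).1
        exact ⟨⟨fun a b => Subsingleton.elim _ _⟩⟩
      · rw [pow_one] at hm
        haveI := isCyclic_of_prime_card hm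
        exact ⟨⟨IsCyclic.commGroup.mul_comm⟩⟩
      · exact ⟨⟨IsPGroup.commutative_of_card_eq_prime_sq hm⟩⟩
    exact hxy (congrArg Subtype.val (hcomm.is_comm.comm (⟨x, hxW⟩ : W) ⟨y, hyW⟩))
  obtain ⟨u, huS, hu2, huc⟩ := exists_noncentral h hK S h4
  refine no_small hK P ((hPmem u).2 huS) hu2 huc hz ((hPmem z).2 (center_mem_sylow h hK S hz)) hz2 hz1 W hWP
    (by rw [hm, hm3]; norm_num) (fun hcm => hxy (congrArg Subtype.val (hcm.is_comm.comm (⟨x, hxW⟩ : W) ⟨y, hyW⟩)))
    fun w hw hcw => (hmemW w).2 ⟨(hPmem w).1 hw, ?_⟩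
  rw [← hx, hπ, ← map_mul, ← map_mul, hcw x hxW]

/-- Every involution of the simple quotient lifts to an involution. -/
theorem exists_lift_invol (h : Hyp G) (hK : Cfsg.IsComponent K) (S : Sylow 2 G)
    (h4 : FourIn ((S : Subgroup G) ⊓ K)) (y : ↥K) (hy : y * y ∈ center ↥K) (hyc : y ∉ center ↥K) :
    ∃ c ∈ center ↥K, y * c * (y * c) = 1 := by
  by_cases hc : center ↥K = ⊥
  · exact ⟨1, one_mem _, by rw [mul_one]; exact mem_bot.1 (hc ▸ hy)⟩
  obtain ⟨u, -, hu2, huc⟩ := exists_noncentral h hK S h4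
  set π := QuotientGroup.mk' (center ↥K) with hπ
  have ho : ∀ w : ↥K, w * w ∈ center ↥K → w ∉ center ↥K → orderOf (π w) = 2 := fun w hw hwc =>
    orderOf_eq_prime (by rw [pow_two, ← map_mul]; exact (QuotientGroup.eq_one_iff _).2 hw)
      fun e => hwc ((QuotientGroup.eq_one_iff w).1 e)
  obtain ⟨g, hg⟩ := isConj_iff.1 (oneClass_bar h hK S h4 hc (π u) (π y) (ho u (hu2 ▸ one_mem _) huc) (ho y hy hyc))
  obtain ⟨k, rfl⟩ := QuotientGroup.mk'_surjective (center ↥K) g
  rw [← map_inv, ← map_mul, ← map_mul] at hg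
  refine ⟨y⁻¹ * (k * u * k⁻¹), QuotientGroup.eq.1 hg.symm, ?_⟩
  rw [mul_inv_cancel_left, show k * u * k⁻¹ * (k * u * k⁻¹) = k * (u * u) * k⁻¹ by group, hu2, mul_one, mul_inv_cancel]

end Cfsg.Lib.RankOneInter
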