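import Cfsg.Agent.RankOneInter.Rank
import Cfsg.Agent.RankOneInter.Outer
import Cfsg.Agent.Coprime.Generation
import Cfsg.Agent.OddChar.PF.OddOrder
import Cfsg.Agent.Components.PComponents

/-!
The structure of a group with rank-one intersections of Sylow 2-subgroups (row 3310): the quotient by the odd
core, and the conclusions lifted to the group.
-/

set_option autoImplicit false
set_option linter.unusedSectionVars false
set_option linter.style.haveILetI false

namespace Cfsg.Lib.RankOneInter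

open Subgroup Cfsg.Lib.CyclicInter
open scoped Pointwise

universe u

variable {G : Type u} [Group G] [Finite G]

/-- The group of odd order is generated by its centralisers of the involutions of a four-group. -/
theorem le_of_four {K M : Subgroup G} (hK : Odd (Nat.card K)) {x y : G} (hxK : x ∈ normalizer (K : Set G))
    (hyK : y ∈ normalizer (K : Set G)) (hx : x * x = 1) (hy : y * y = 1)
    (hc : x * y = y * x) (hx1 : x ≠ 1) (hy1 : y ≠ 1) (hne : y ≠ x)
    (h : ∀ a : G, a = x ∨ a = y ∨ a = x * y → K ⊓ centralizer ({a} : Set G) ≤ M) : K ≤ M := by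
  set A : Subgroup G := closure {x, y} with hA
  have hmem : ∀ a ∈ A, a = 1 ∨ a = x ∨ a = y ∨ a = x * y := by
    intro a ha
    have hyx : ∀ g, x * (x * g) = g := fun g => by rw [← mul_assoc, hx, one_mul]
    have hyy : ∀ g, y * (y * g) = g := fun g => by rw [← mul_assoc, hy, one_mul]
    have hyxy : ∀ g, y * (x * g) = x * (y * g) := fun g => by rw [← mul_assoc, ← hc, mul_assoc]
    induction ha using closure_induction with
    | mem g hg =>
      rcases hg with rfl | hg
      · exact Or.inr (Or.inl rfl)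
      · exact Or.inr (Or.inr (Or.inl hg))
    | one => exact Or.inl rfl
    | mul a b _ _ h1 h2 =>
      rcases h1 with rfl | rfl | rfl | rfl <;> rcases h2 with rfl | rfl | rfl | rfl <;>
        simp [mul_assoc, hx, hy, hyx, hyy, hyxy, ← hc]
    | inv a _ h1 =>
      rcases h1 with rfl | rfl | rfl | rfl
      · exact Or.inl inv_one
      · exact Or.inr (Or.inl (inv_eq_of_mul_eq_one_right hx))
      · exact Or.inr (Or.inr (Or.inl (inv_eq_of_mul_eq_one_right hy)))
      · exact Or.inr (Or.inr (Or.inr (inv_eq_of_mul_eq_one_right (by simp [mul_assoc, hx, hy, hyx, hyy, hyxy]))))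
  have hsq : ∀ a ∈ A, a * a = 1 := by
    intro a ha
    rcases hmem a ha with rfl | rfl | rfl | rfl
    · exact one_mul 1
    · exact hx
    · exact hy
    · rw [show x * y * (x * y) = x * (y * x) * y by group, ← hc, show x * (x * y) * y = x * x * (y * y) by group, hx,
        hy, one_mul]
  haveI : IsMulCommutative A := ⟨⟨fun a b => Subtype.ext (by
    show (a : G) * b = b * a
    have e := hsq _ (mul_mem a.2 b.2)
    calc (a : G) * b = ((a : G) * b)⁻¹ := (inv_eq_of_mul_eq_one_right e).symm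
      _ = (b : G)⁻¹ * (a : G)⁻¹ := mul_inv_rev _ _
      _ = b * a := by rw [inv_eq_of_mul_eq_one_right (hsq _ a.2), inv_eq_of_mul_eq_one_right (hsq _ b.2)])⟩⟩
  have hA2 : IsPGroup 2 A := fun a => ⟨1, Subtype.ext (by
    rw [pow_one, pow_two]; exact hsq a a.2)⟩
  have hxA : x ∈ A := subset_closure (Set.mem_insert _ _)
  have hyA : y ∈ A := subset_closure (Set.mem_insert_of_mem _ rfl)
  have hnc : ¬ IsCyclic A := by
    intro hcyc
    obtain ⟨g, hg⟩ := hcyc.exists_generator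
    have hg2 : ∀ w : A, w = 1 ∨ w = g := by
      intro w
      obtain ⟨r, rfl⟩ := hg w
      have h2 : g ^ (2 : ℤ) = 1 := Subtype.ext (by
        show (g : G) ^ (2 : ℤ) = 1
        rw [zpow_two, hsq _ g.2])
      rcases Int.emod_two_eq_zero_or_one r with e | e
      · left
        show g ^ r = 1
        rw [← Int.mul_ediv_add_emod r 2, e, add_zero, zpow_mul, h2, one_zpow]
      · right
        show g ^ r = g
        rw [← Int.mul_ediv_add_emod r 2, e, zpow_add, zpow_mul, h2, one_zpow, one_mul, zpow_one]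
    rcases hg2 ⟨x, hxA⟩ with e | e
    · exact hx1 (congrArg Subtype.val e)
    rcases hg2 ⟨y, hyA⟩ with e' | e'
    · exact hy1 (congrArg Subtype.val e')
    exact hne (congrArg Subtype.val (e'.trans e.symm))
  have hcop : (Nat.card A).Coprime (Nat.card K) := by
    haveI : Fact (Nat.Prime 2) := ⟨Nat.prime_two⟩
    obtain ⟨k, hk⟩ := IsPGroup.iff_card.1 hA2
    rw [hk]
    exact Nat.Coprime.pow_left k (Nat.coprime_two_left.2 hK)
  have hAK : A ≤ normalizer (K : Set G) := by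
    refine (closure_le _).2 fun g hg => ?_
    rcases hg with rfl | hg
    · exact hxK
    · rw [Set.mem_singleton_iff.1 hg]; exact hyK
  rw [← Cfsg.Lib.Coprime.centralizerJoin_eq hnc hAK hcop]
  refine iSup₂_le fun a ha => ?_
  rcases hmem a ha.1 with e | e
  · exact absurd e ha.2
  · exact h a e

/-- Three independent involutions force the Sylow subgroup to centralise a normal subgroup of odd order. -/
theorem le_centralizer_sylow (hG : RI G) {O : Subgroup G} [O.Normal] (hO : Odd (Nat.card O)) {S : Sylow 2 G}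
    {u v w : G} (h : Three (S : Subgroup G) u v w) : O ≤ centralizer ((S : Subgroup G) : Set G) := by
  set M := centralizer ((S : Subgroup G) : Set G)
  have two : ∀ {a b : G}, a ∈ (S : Subgroup G) → b ∈ (S : Subgroup G) → a * a = 1 → b * b = 1 → a * b = b * a →
      a ≠ 1 → b ≠ 1 → b ≠ a → ∀ n ∈ O, n * a = a * n → n * b = b * n → n ∈ M := by
    intro a b ha hb ha2 hb2 hc ha1 hb1 hne n hn hna hnb
    have hN := hG.mem_normalizer (g := n) ha hb ha2 hb2 ha1 hb1 hne.symm hc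
      (by rw [hna, mul_inv_cancel_right]; exact ha) (by rw [hnb, mul_inv_cancel_right]; exact hb)
    refine mem_centralizer_iff.2 fun t ht => ?_
    have hm := comm_mem (inferInstance : O.Normal) hn hN ht
    have e := eq_one_of_odd (S.2.to_le le_rfl) hO hm.1 hm.2
    rwa [mul_inv_eq_one, mul_inv_eq_iff_eq_mul] at e
  have hcen : ∀ {n a : G}, n ∈ centralizer ({a} : Set G) → n * a = a * n := fun hn =>
    mem_centralizer_singleton_iff.1 hn
  have hs : ∀ {a : G}, a = u * v → a * a = 1 ∧ a ∈ (S : Subgroup G) ∧ a ≠ 1 := by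
    rintro a rfl
    refine ⟨?_, mul_mem h.mem_u h.mem_v, fun e => h.v_ne.2 ?_⟩
    · rw [show u * v * (u * v) = u * (v * u) * v by group, ← h.uv, show u * (u * v) * v = u * u * (v * v) by group,
        h.sq_u, h.sq_v, one_mul]
    · rw [eq_inv_of_mul_eq_one_right e, inv_eq_of_mul_eq_one_right h.sq_u]
  have hnorm : ∀ {a g : G}, g * a = a * g → g ∈ normalizer ((O ⊓ centralizer ({a} : Set G) : Subgroup G) : Set G) := by
    intro a g hga
    refine mem_normalizer_fintype fun n hn => ⟨(inferInstance : O.Normal).conj_mem n hn.1 g, ?_⟩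
    refine mem_centralizer_singleton_iff.2 ?_
    exact (((show Commute g a from hga).mul_left (show Commute n a from hcen hn.2)).mul_left
      ((show Commute g a from hga).inv_left)).eq
  have second : ∀ {a x y : G}, a ∈ (S : Subgroup G) → a * a = 1 → a ≠ 1 → x ∈ (S : Subgroup G) → y ∈ (S : Subgroup G) →
      x * x = 1 → y * y = 1 → x * y = y * x → x ≠ 1 → y ≠ 1 → y ≠ x → x * a = a * x → y * a = a * y →
      x ≠ a → y ≠ a → x * y ≠ a → O ⊓ centralizer ({a} : Set G) ≤ M := by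
    intro a x y haS ha2 ha1 hxS hyS hx2 hy2 hxy hx1 hy1 hyx hxa hya hxn hyn hxyn
    refine le_of_four (hO.of_dvd_nat (card_dvd_of_le inf_le_left)) (hnorm hxa) (hnorm hya) hx2 hy2 hxy hx1 hy1 hyx
      fun b hb n hn => ?_
    obtain ⟨⟨hnO, hna⟩, hnb⟩ := hn
    rcases hb with rfl | rfl | rfl
    · exact two haS hxS ha2 hx2 hxa.symm ha1 hx1 hxn n hnO (hcen hna) (hcen hnb)
    · exact two haS hyS ha2 hy2 hya.symm ha1 hy1 hyn n hnO (hcen hna) (hcen hnb)
    · refine two haS (mul_mem hxS hyS) ha2 ?_ ((show Commute x a from hxa).mul_left hya).symm.eq ha1 (fun e => hyx ?_)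
        hxyn n hnO (hcen hna) (hcen hnb)
      · rw [show x * y * (x * y) = x * (y * x) * y by group, ← hxy, show x * (x * y) * y = x * x * (y * y) by group,
          hx2, hy2, one_mul]
      · rw [eq_inv_of_mul_eq_one_right e, inv_eq_of_mul_eq_one_right hx2]
  have htop : ∀ g : G, g ∈ normalizer (O : Set G) := fun g => by rw [normalizer_eq_top (H := O)]; exact mem_top g
  obtain ⟨huv2, huvS, huv1⟩ := hs rfl
  refine le_of_four hO (htop u) (htop v) h.sq_u h.sq_v h.uv h.u_ne h.v_ne.1 h.v_ne.2 fun a ha => ?_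
  obtain ⟨hw1, hwu, hwv, hwuv⟩ := h.w_ne
  rcases ha with rfl | rfl | rfl
  · refine second h.mem_u h.sq_u h.u_ne h.mem_v h.mem_w h.sq_v h.sq_w h.vw h.v_ne.1 hw1 hwv h.uv.symm h.uw.symm
      h.v_ne.2 hwu fun e => hwuv ?_
    calc w = v * (v * w) := by rw [← mul_assoc, h.sq_v, one_mul]
      _ = v * a := by rw [e]
      _ = a * v := h.uv.symm
  · refine second h.mem_v h.sq_v h.v_ne.1 h.mem_u h.mem_w h.sq_u h.sq_w h.uw h.u_ne hw1 hwu h.uv h.vw.symm
      h.v_ne.2.symm hwv fun e => hwuv ?_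
    calc w = u * (u * w) := by rw [← mul_assoc, h.sq_u, one_mul]
      _ = u * a := by rw [e]
  · refine second huvS huv2 huv1 h.mem_u h.mem_w h.sq_u h.sq_w h.uw h.u_ne hw1 hwu ?_ ?_ (fun e => h.v_ne.1 ?_) hwuv
      fun e => hwv (mul_left_cancel e)
    · exact ((show Commute u u from Commute.refl u).mul_right (show Commute u v from h.uv)).eq
    · exact ((show Commute w u from h.uw.symm).mul_right (show Commute w v from h.vw.symm)).eq
    · exact mul_left_cancel (a := u) (by rw [mul_one]; exact e.symm)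

/-- The hypotheses pass to the quotient by the odd core. -/
theorem hyp_quotient (hns : ¬ Group.IsSolvable G) (hG : RI G) : Hyp (G ⧸ Cfsg.oddCore G) := by
  have hO : Odd (Nat.card (Cfsg.oddCore G)) :=
    Nat.coprime_two_right.1 (Cfsg.Lib.Components.coprime_card_pPrimeCore 2)
  refine ⟨hG.quotient _ hO, Cfsg.Lib.Components.pPrimeCore_quotient_eq_bot, fun h => hns ?_⟩
  exact Cfsg.Lib.GenDihedral.solvable_ext _ (Cfsg.Agent.PF.isSolvable_of_odd _ hO) h

/-- A homomorphism with odd kernel restricted to a Sylow 2-subgroup is injective. -/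
theorem sylow_injective {G' : Type*} [Group G'] (f : G →* G') (hf : Odd (Nat.card f.ker)) (S : Sylow 2 G) {x y : G}
    (hx : x ∈ (S : Subgroup G)) (hy : y ∈ (S : Subgroup G)) (e : f x = f y) : x = y := by
  refine inv_mul_eq_one.1 (eq_one_of_odd (S.2.to_le le_rfl) hf (mul_mem (inv_mem hx) hy) ?_)
  rw [MonoidHom.mem_ker, map_mul, map_inv, e, inv_mul_cancel]

/-- No Sylow subgroup of the quotient by the odd core is quaternion. -/
theorem noQuat_quotient (hnQ : ∀ S : Sylow 2 G, ∀ n : ℕ, IsEmpty (↥(S : Subgroup G) ≃* QuaternionGroup (2 ^ (n + 1))))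
    (T : Sylow 2 (G ⧸ Cfsg.oddCore G)) (n : ℕ) :
    IsEmpty (↥(T : Subgroup (G ⧸ Cfsg.oddCore G)) ≃* QuaternionGroup (2 ^ (n + 1))) := by
  haveI : Fact (Nat.Prime 2) := ⟨Nat.prime_two⟩
  refine ⟨fun e => ?_⟩
  obtain ⟨S⟩ : Nonempty (Sylow 2 G) := inferInstance
  set π := QuotientGroup.mk' (Cfsg.oddCore G)
  have hπ : Function.Surjective π := QuotientGroup.mk'_surjective _
  set S' : Sylow 2 (G ⧸ Cfsg.oddCore G) := S.mapSurjective hπ with hS'
  have hO : Odd (Nat.card π.ker) := by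
    rw [QuotientGroup.ker_mk']
    exact Nat.coprime_two_right.1 (Cfsg.Lib.Components.coprime_card_pPrimeCore 2)
  have hinj : Function.Injective (π.subgroupMap (S : Subgroup G)) := fun a b hab =>
    Subtype.ext (sylow_injective π hO S a.2 b.2 (congrArg Subtype.val hab))
  exact (hnQ S n).false (((MulEquiv.ofBijective _ ⟨hinj, π.subgroupMap_surjective _⟩).trans
    (MulEquiv.subgroupCongr (Sylow.coe_mapSurjective hπ S).symm)).trans ((Sylow.equiv S' T).trans e))

/-- The two cases in a group without odd core. -/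
theorem concl_core (h : Hyp G)
    (hnC : ∃ S T : Sylow 2 G, S ≠ T ∧ ¬ IsCyclic ↥((S : Subgroup G) ⊓ (T : Subgroup G)))
    (hnQ : ∀ S : Sylow 2 G, ∀ n : ℕ, IsEmpty (↥(S : Subgroup G) ≃* QuaternionGroup (2 ^ (n + 1)))) :
    ConclA G ∨ ConclB G := by
  obtain ⟨K, hK⟩ := h.exists_component
  by_cases hu : ∀ L : Subgroup G, Cfsg.IsComponent L → L = K
  · have o : One K := ⟨h, hK, hu⟩
    obtain ⟨S⟩ : Nonempty (Sylow 2 G) := inferInstance
    refine Or.inl ?_
    by_cases h4 : FourIn ((S : Subgroup G) ⊓ K)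
    · exact o.concl_rank S h4 hnC
    · by_cases hq : ∃ q ∈ Cfsg.pCore 2 G, q * q ≠ 1
      · exact o.concl_big S h4 hq hnC
      · push Not at hq
        exact (o.outer_false S h4 hq hnQ).elim
  · push Not at hu
    obtain ⟨L, hL, hne⟩ := hu
    exact Or.inr (concl_two h hL hK hne)

section Lift

variable {O : Subgroup G} [O.Normal]

local notation "π" => QuotientGroup.mk' O

/-- Isomorphism of a section with its image. -/
theorem section_iso (H Q : Subgroup (G ⧸ O)) [(Q.subgroupOf H).Normal] (hQ : Q ≤ H)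
    [((Q.comap π).subgroupOf (H.comap π)).Normal] :
    Nonempty (↥(H.comap π) ⧸ (Q.comap π).subgroupOf (H.comap π) ≃* ↥H ⧸ Q.subgroupOf H) := by
  set f : ↥(H.comap π) →* ↥H ⧸ Q.subgroupOf H :=
    (QuotientGroup.mk' _).comp ((π).subgroupComap H) with hf
  have hs : Function.Surjective f := by
    refine (QuotientGroup.mk'_surjective _).comp fun y => ?_
    obtain ⟨x, hx⟩ := QuotientGroup.mk'_surjective O y.1
    exact ⟨⟨x, mem_comap.2 (hx ▸ y.2)⟩, Subtype.ext hx⟩
  have hk : f.ker = (Q.comap π).subgroupOf (H.comap π) := by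
    ext x
    rw [hf, MonoidHom.mem_ker, MonoidHom.comp_apply, mem_subgroupOf, mem_comap]
    exact (QuotientGroup.eq_one_iff _).trans mem_subgroupOf
  exact ⟨(QuotientGroup.quotientMulEquivOfEq hk.symm).trans (QuotientGroup.quotientKerEquivOfSurjective f hs)⟩

theorem subgroupOf_normal (H Q : Subgroup (G ⧸ O)) [hQ : (Q.subgroupOf H).Normal] :
    ((Q.comap π).subgroupOf (H.comap π)).Normal := by
  refine ⟨fun x hx g => ?_⟩
  rw [mem_subgroupOf, mem_comap] at hx ⊢
  exact hQ.conj_mem ⟨π x, mem_comap.1 x.2⟩ hx ⟨π g, mem_comap.1 g.2⟩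

end Lift

/-- The first case lifts to the group. -/
theorem lift_a (hG : RI G) (h : ConclA (G ⧸ Cfsg.oddCore G)) :
    ∃ (G₁ : Subgroup G) (_ : G₁.Normal) (_ : ((Cfsg.pCore 2 G ⊔ Cfsg.oddCore G).subgroupOf G₁).Normal),
      Odd G₁.index ∧ Cfsg.pCore 2 G ⊔ Cfsg.oddCore G ≤ G₁ ∧
      (∃ n : ℕ, Nonempty (↥(Cfsg.pCore 2 G) ≃* QuaternionGroup (2 ^ (n + 1)))) ∧
      Types (↥G₁ ⧸ (Cfsg.pCore 2 G ⊔ Cfsg.oddCore G).subgroupOf G₁) := by
  haveI : Fact (Nat.Prime 2) := ⟨Nat.prime_two⟩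
  set O := Cfsg.oddCore G with hOdef
  obtain ⟨H, hH, hQn, hidx, hle, ⟨n, ⟨e⟩⟩, htypes, T, u, v, w, h3⟩ := h
  set π := QuotientGroup.mk' O with hπ
  have hπs : Function.Surjective π := QuotientGroup.mk'_surjective O
  have hO : Odd (Nat.card O) := Nat.coprime_two_right.1 (Cfsg.Lib.Components.coprime_card_pPrimeCore 2)
  have hker : Odd (Nat.card π.ker) := by rw [hπ, QuotientGroup.ker_mk']; exact hO
  set Qb := Cfsg.pCore 2 (G ⧸ O) with hQb
  obtain ⟨S₀⟩ : Nonempty (Sylow 2 G) := inferInstance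
  obtain ⟨g, hg⟩ := MulAction.exists_smul_eq (G ⧸ O) (S₀.mapSurjective hπs) T
  obtain ⟨g₀, rfl⟩ := hπs g
  set S : Sylow 2 G := g₀ • S₀ with hS
  have hST : (T : Subgroup (G ⧸ O)) = (S : Subgroup G).map π := by
    ext x
    constructor
    · intro hx
      rw [← hg] at hx
      obtain ⟨y, hy, hye⟩ := (mem_smul_iff _ _ x).1 hx
      refine ⟨g₀ * y * g₀⁻¹, conj_mem_smul S₀ g₀ y hy, ?_⟩
      rw [map_mul, map_mul, map_inv, hye]; group
    · rintro ⟨y, hy, rfl⟩
      rw [← hg]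
      refine (mem_smul_iff _ _ _).2 ⟨g₀⁻¹ * y * g₀, (mem_smul_iff S₀ g₀ y).1 hy, ?_⟩
      rw [map_mul, map_mul, map_inv]
  have hpre : ∀ {a : G ⧸ O}, a ∈ (T : Subgroup (G ⧸ O)) → ∃ x ∈ (S : Subgroup G), π x = a := fun ha => by
    rw [hST] at ha
    exact ha
  obtain ⟨u₀, hu₀, rfl⟩ := hpre h3.mem_u
  obtain ⟨v₀, hv₀, rfl⟩ := hpre h3.mem_v
  obtain ⟨w₀, hw₀, rfl⟩ := hpre h3.mem_w
  have hinj : ∀ {x y : G}, x ∈ (S : Subgroup G) → y ∈ (S : Subgroup G) → π x = π y → x = y := fun hx hy e =>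
    sylow_injective π hker S hx hy e
  have h3' : Three (S : Subgroup G) u₀ v₀ w₀ := by
    have m : ∀ {a b : G}, a ∈ (S : Subgroup G) → b ∈ (S : Subgroup G) → a * b ∈ (S : Subgroup G) :=
      fun ha hb => (S : Subgroup G).mul_mem ha hb
    refine ⟨hu₀, hv₀, hw₀, hinj (m hu₀ hu₀) (one_mem _) (by rw [map_mul, h3.sq_u, map_one]),
      hinj (m hv₀ hv₀) (one_mem _) (by rw [map_mul, h3.sq_v, map_one]),
      hinj (m hw₀ hw₀) (one_mem _) (by rw [map_mul, h3.sq_w, map_one]),
      hinj (m hu₀ hv₀) (m hv₀ hu₀) (by rw [map_mul, map_mul, h3.uv]),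
      hinj (m hu₀ hw₀) (m hw₀ hu₀) (by rw [map_mul, map_mul, h3.uw]),
      hinj (m hv₀ hw₀) (m hw₀ hv₀) (by rw [map_mul, map_mul, h3.vw]),
      fun e => h3.u_ne (by rw [e, map_one]), ⟨fun e => h3.v_ne.1 (by rw [e, map_one]), fun e => h3.v_ne.2 (by rw [e])⟩,
      ⟨fun e => h3.w_ne.1 (by rw [e, map_one]), fun e => h3.w_ne.2.1 (by rw [e]), fun e => h3.w_ne.2.2.1 (by rw [e]),
        fun e => h3.w_ne.2.2.2 (by rw [e, map_mul])⟩⟩
  have hOS := le_centralizer_sylow hG hO h3'
  -- the preimage of the 2-core splits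
  set Q₀ : Subgroup G := (S : Subgroup G) ⊓ Qb.comap π with hQ₀
  have hsplit : ∀ x ∈ Qb.comap π, ∃ q ∈ Q₀, ∃ o ∈ O, x = q * o := by
    intro x hx
    obtain ⟨q, hq, hqe⟩ := hpre (Hyp.pCore_le T (mem_comap.1 hx))
    exact ⟨q, ⟨hq, show π q ∈ Qb by rw [hqe]; exact mem_comap.1 hx⟩, q⁻¹ * x, QuotientGroup.eq.1 hqe,
      (mul_inv_cancel_left q x).symm⟩
  have hQ₀n : Q₀.Normal := by
    refine ⟨fun q hq g => ?_⟩
    have hx : g * q * g⁻¹ ∈ Qb.comap π := by
      rw [mem_comap, map_mul, map_mul, map_inv]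
      exact (inferInstance : Qb.Normal).conj_mem _ (mem_comap.1 hq.2) _
    obtain ⟨q', hq', o, ho, e'⟩ := hsplit _ hx
    obtain ⟨j, hj⟩ := S.2 ⟨q, hq.1⟩
    obtain ⟨i, hi⟩ := S.2 ⟨q', hq'.1⟩
    have hj' : (g * q * g⁻¹) ^ 2 ^ (j + i) = 1 := by
      rw [conj_pow, pow_add, pow_mul, show q ^ 2 ^ j = 1 from congrArg Subtype.val hj, one_pow, mul_one,
        mul_inv_cancel]
    have hi' : q' ^ 2 ^ (j + i) = 1 := by
      rw [add_comm, pow_add, pow_mul, show q' ^ 2 ^ i = 1 from congrArg Subtype.val hi, one_pow]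
    have hcom : Commute q' o := mem_centralizer_iff.1 (hOS ho) q' hq'.1
    rw [e', hcom.mul_pow, hi', one_mul] at hj'
    have ho1 : o = 1 := coprime_eq_one hj' (orderOf_dvd_natCard (⟨o, ho⟩ : O) |> fun hd => by
      rwa [Subgroup.orderOf_mk] at hd) hO
    rw [e', ho1, mul_one]
    exact hq'
  have hQeq : Cfsg.pCore 2 G = Q₀ := by
    refine le_antisymm ?_ ?_
    · intro x hx
      refine ⟨Hyp.pCore_le S hx, ?_⟩
      haveI : ((Cfsg.pCore 2 G).map π).Normal := Normal.map inferInstance π hπs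
      exact Cfsg.Lib.Components.le_pCore ((Cfsg.Lib.Components.isPGroup_pCore 2).map π) (mem_map_of_mem π hx)
    · haveI := hQ₀n
      exact Cfsg.Lib.Components.le_pCore (S.2.to_le inf_le_left)
  have hsup : Cfsg.pCore 2 G ⊔ O = Qb.comap π := by
    refine le_antisymm (sup_le (hQeq.le.trans inf_le_right) fun x hx => ?_) fun x hx => ?_
    · rw [mem_comap, show π x = 1 from (QuotientGroup.eq_one_iff x).2 hx]; exact one_mem _
    · obtain ⟨q, hq, o, ho, rfl⟩ := hsplit x hx
      exact mul_mem (mem_sup_left (hQeq.ge hq)) (mem_sup_right ho)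
  haveI : (H.comap π).Normal := Normal.comap hH π
  haveI := hQn
  haveI hn' := subgroupOf_normal (O := O) H Qb
  refine ⟨H.comap π, inferInstance, hsup ▸ hn', by rwa [index_comap_of_surjective _ hπs],
    hsup.le.trans (comap_mono hle), ⟨n, ⟨?_⟩⟩, ?_⟩
  · set f : ↥(Cfsg.pCore 2 G) →* ↥Qb :=
      ((π).comp (Cfsg.pCore 2 G).subtype).codRestrict Qb fun x => mem_comap.1 (hQeq.le x.2).2
    refine (MulEquiv.ofBijective f ⟨fun a b hab => ?_, fun y => ?_⟩).trans e
    · exact Subtype.ext (hinj (hQeq.le a.2).1 (hQeq.le b.2).1 (congrArg Subtype.val hab))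
    · obtain ⟨q, hq, hqe⟩ := hpre (Hyp.pCore_le T y.2)
      exact ⟨⟨q, hQeq.ge ⟨hq, show π q ∈ Qb by rw [hqe]; exact y.2⟩⟩, Subtype.ext hqe⟩
  · obtain ⟨φ⟩ := section_iso (O := O) H Qb hle
    have ψ : ↥(H.comap π) ⧸ (Cfsg.pCore 2 G ⊔ O).subgroupOf (H.comap π) ≃*
        ↥(H.comap π) ⧸ (Qb.comap π).subgroupOf (H.comap π) :=
      QuotientGroup.quotientMulEquivOfEq (by rw [hsup])
    rcases htypes with ⟨a, F, i, j, ha, hF, ⟨f⟩⟩ | ⟨a, F, i, j, ha, hF, ⟨f⟩⟩ | ⟨a, F, i, j, ha, hF, ⟨f⟩⟩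
    · exact Or.inl ⟨a, F, i, j, ha, hF, ⟨(ψ.trans φ).trans f⟩⟩
    · exact Or.inr (Or.inl ⟨a, F, i, j, ha, hF, ⟨(ψ.trans φ).trans f⟩⟩)
    · exact Or.inr (Or.inr ⟨a, F, i, j, ha, hF, ⟨(ψ.trans φ).trans f⟩⟩)

end Cfsg.Lib.RankOneInter
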