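import Cfsg.Agent.RankOneInter.Two
import Cfsg.Agent.RankOneInter.Quat

/-!
A single component (row 3310): its centraliser, and the criterion for the first case of the conclusion.
-/

set_option autoImplicit false
set_option linter.unusedSectionVars false
set_option linter.style.haveILetI false

namespace Cfsg.Lib.RankOneInter

open Subgroup Cfsg.Lib.CyclicInter
open scoped Pointwise

universe u

/-- The three families of the first case. -/
def Types (X : Type u) [Group X] : Prop :=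
  (∃ (n : ℕ) (F : Type) (_ : Field F) (_ : Fintype F), 2 ≤ n ∧ Fintype.card F = 2 ^ n ∧
      Nonempty (X ≃* Matrix.ProjectiveSpecialLinearGroup (Fin 2) F)) ∨
  (∃ (m : ℕ) (F : Type) (_ : Field F) (_ : Fintype F), 1 ≤ m ∧ Fintype.card F = 2 ^ (2 * m + 1) ∧
      Nonempty (X ≃* ↥(Cfsg.Lie.Sz F (2 ^ (m + 1))))) ∨
  (∃ (n : ℕ) (F : Type) (_ : Field F) (_ : Fintype F), 2 ≤ n ∧ Fintype.card F = 4 ^ n ∧
      Nonempty (X ≃* Cfsg.PSU 3 F (2 ^ n)))

/-- Three independent commuting involutions in `H`. -/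
structure Three {G : Type u} [Group G] (H : Subgroup G) (u v w : G) : Prop where
  mem_u : u ∈ H
  mem_v : v ∈ H
  mem_w : w ∈ H
  sq_u : u * u = 1
  sq_v : v * v = 1
  sq_w : w * w = 1
  uv : u * v = v * u
  uw : u * w = w * u
  vw : v * w = w * v
  u_ne : u ≠ 1
  v_ne : v ≠ 1 ∧ v ≠ u
  w_ne : w ≠ 1 ∧ w ≠ u ∧ w ≠ v ∧ w ≠ u * v

/-- The first case of the conclusion. -/
def ConclA (G : Type u) [Group G] : Prop :=
  ∃ (G₁ : Subgroup G) (_ : G₁.Normal) (_ : ((Cfsg.pCore 2 G).subgroupOf G₁).Normal),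
    Odd G₁.index ∧ Cfsg.pCore 2 G ≤ G₁ ∧
      (∃ n : ℕ, Nonempty (↥(Cfsg.pCore 2 G) ≃* QuaternionGroup (2 ^ (n + 1)))) ∧
      Types (↥G₁ ⧸ (Cfsg.pCore 2 G).subgroupOf G₁) ∧ ∃ (S : Sylow 2 G) (u v w : G), Three (S : Subgroup G) u v w

variable {G : Type u} [Group G] [Finite G] {K : Subgroup G}

theorem types_of_embedded (hK : Cfsg.IsComponent K) {X : Type u} [Group X] (e : X ≃* ↥K ⧸ center ↥K)
    (hti : TI2 (↥K ⧸ center ↥K)) : Types X := by
  haveI := bar_simple hK
  rcases Cfsg.Lib.Walter.Consumers.ident_of_embedded (bar_nonab hK) (embedded_of_ti (bar_nonab hK) hti) with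
    ⟨F, i, j, ⟨n, hn, hF⟩, ⟨f⟩⟩ | ⟨F, i, j, m, hm, hF, ⟨f⟩⟩ | ⟨F, i, j, n, hn, hF, ⟨f⟩⟩
  · exact Or.inl ⟨n, F, i, j, hn, hF, ⟨e.trans f⟩⟩
  · exact Or.inr (Or.inl ⟨m, F, i, j, hm, hF, ⟨e.trans f⟩⟩)
  · refine Or.inr (Or.inr ⟨n, F, i, j, hn, ?_, ⟨e.trans f⟩⟩)
    rw [hF, ← pow_mul, mul_comm, pow_mul]
    norm_num

/-- `K` is the only component. -/
structure One (K : Subgroup G) : Prop where
  hyp : Hyp G
  comp : Cfsg.IsComponent K
  uniq : ∀ L : Subgroup G, Cfsg.IsComponent L → L = K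

namespace One

theorem normal (o : One K) : K.Normal := ⟨fun x hx g => by
  have := o.uniq _ (Cfsg.Lib.Components.comp_conj o.comp g)
  exact this.le (mem_map_of_mem _ hx)⟩

theorem layer_eq (o : One K) : Cfsg.layer G = K :=
  le_antisymm (sSup_le fun L hL => (o.uniq L hL).le) (Cfsg.Lib.Components.comp_le_layer o.comp)

/-- What centralises the component and the 2-core lies in the 2-core. -/
theorem core_self (o : One K) {x : G} (hx : x ∈ centralizer (K : Set G))
    (hxQ : x ∈ centralizer (Cfsg.pCore 2 G : Set G)) : x ∈ Cfsg.pCore 2 G := by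
  haveI := o.normal
  have hF : Cfsg.generalizedFittingSubgroup G = K ⊔ Cfsg.pCore 2 G := by
    rw [Cfsg.generalizedFittingSubgroup, o.layer_eq, o.hyp.fitting_eq]
  have hxc : x ∈ centralizer (Cfsg.generalizedFittingSubgroup G : Set G) := by
    rw [hF]
    refine mem_centralizer_iff.2 fun a ha => mem_centralizer_singleton_iff.1 ?_
    exact (sup_le (fun b hb => mem_centralizer_singleton_iff.2 (mem_centralizer_iff.1 hx b hb))
      (fun b hb => mem_centralizer_singleton_iff.2 (mem_centralizer_iff.1 hxQ b hb)) :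
        K ⊔ Cfsg.pCore 2 G ≤ centralizer ({x} : Set G)) ha
  have hmem := Cfsg.Lib.Components.centralizer_genFitting_le hxc
  rw [hF] at hmem
  obtain ⟨k, hk, q, hq, rfl⟩ := mem_sup_of_normal_left.1 hmem
  refine mul_mem (center_le_core o.hyp o.comp ?_) hq
  refine ⟨⟨k, hk⟩, mem_center_iff.2 fun w => Subtype.ext ?_, rfl⟩
  have h1 : (w : G) * (k * q) = k * q * w := mem_centralizer_iff.1 hx w w.2
  have h2 : (w : G) * q = q * w := commute_core o.comp hq w.2
  show (w : G) * k = k * w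
  calc (w : G) * k = (w : G) * (k * q) * q⁻¹ := by group
    _ = k * q * w * q⁻¹ := by rw [h1]
    _ = k * (q * w) * q⁻¹ := by group
    _ = k * w := by rw [← h2]; group

/-- The centraliser of the component has the 2-core as Sylow subgroup, if that and the Sylow subgroup of the
component share a four-group. -/
theorem inter_cent (o : One K) (S : Sylow 2 G) (h4 : FourIn (((S : Subgroup G) ⊓ K) ⊔ Cfsg.pCore 2 G)) :
    (S : Subgroup G) ⊓ centralizer (K : Set G) ≤ Cfsg.pCore 2 G := by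
  haveI : Fact (Nat.Prime 2) := ⟨Nat.prime_two⟩
  haveI := o.normal
  set C := centralizer (K : Set G) with hC
  haveI : C.Normal := inferInstance
  have key : ∀ T : Sylow 2 G, (T : Subgroup G) ⊓ C = (S : Subgroup G) ⊓ C := by
    intro T
    obtain ⟨P, hP⟩ := exists_sylow o.comp S
    obtain ⟨R, hR⟩ := exists_sylow o.comp T
    obtain ⟨k, hk⟩ := MulAction.exists_smul_eq ↥K R P
    have hST : S = (k : G) • T := by
      refine o.hyp.ri S _ (h4.mono (le_inf (sup_le inf_le_left (Hyp.pCore_le S)) (sup_le ?_ (Hyp.pCore_le _))))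
      intro y hy
      have hyP : (⟨y, hy.2⟩ : ↥K) ∈ (P : Subgroup ↥K) := hP ▸ mem_subgroupOf.2 hy.1
      rw [← hk] at hyP
      have h' : k⁻¹ * ⟨y, hy.2⟩ * k ∈ (R : Subgroup ↥K) := (mem_smul_iff R k (⟨y, hy.2⟩ : ↥K)).1 hyP
      rw [hR, mem_subgroupOf] at h'
      exact (mem_smul_iff T _ y).2 h'
    rw [hST]
    ext x
    simp only [mem_inf]
    refine ⟨fun ⟨h1, h2⟩ => ⟨(mem_smul_iff T _ x).2 ?_, h2⟩, fun ⟨h1, h2⟩ => ⟨?_, h2⟩⟩
    · rwa [mul_assoc, ← mem_centralizer_iff.1 h2 _ k.2, inv_mul_cancel_left]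
    · have := (mem_smul_iff T _ x).1 h1
      rwa [mul_assoc, ← mem_centralizer_iff.1 h2 _ k.2, inv_mul_cancel_left] at this
  haveI : ((S : Subgroup G) ⊓ C).Normal := ⟨fun x hx g => by
    rw [← key (g • S)]
    exact ⟨conj_mem_smul S g x hx.1, (inferInstance : C.Normal).conj_mem x hx.2 g⟩⟩
  exact Cfsg.Lib.Components.le_pCore (S.2.to_le inf_le_left)

/-- An element of the Sylow subgroup acting on the component as an element of it lies in the product with the
2-core. -/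
theorem mem_sup_core (o : One K) (S : Sylow 2 G) (hC : (S : Subgroup G) ⊓ centralizer (K : Set G) ≤ Cfsg.pCore 2 G)
    {g k : G} (hg : g ∈ (S : Subgroup G)) (hk : k ∈ K) (hc : k⁻¹ * g ∈ centralizer (K : Set G)) :
    g ∈ K ⊔ Cfsg.pCore 2 G := by
  haveI : Fact (Nat.Prime 2) := ⟨Nat.prime_two⟩
  haveI := o.normal
  set C := centralizer (K : Set G) with hCdef
  set Q := Cfsg.pCore 2 G with hQ
  haveI : C.Normal := inferInstance
  obtain ⟨R, hR⟩ := Cfsg.Agent.S0542.result 2 C (Subgroup.Normal.isSubnormal inferInstance) S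
  have hQC : Q ≤ C := fun q hq => mem_centralizer_iff.2 fun w hw => commute_core o.comp hq hw
  have hodd : Odd (Q.relIndex C) := by
    rw [← Nat.not_even_iff_odd, even_iff_two_dvd]
    intro h2
    refine R.not_dvd_index (h2.trans ?_)
    rw [hR]
    exact index_dvd_of_le fun x hx => mem_subgroupOf.2 (hC ⟨mem_subgroupOf.1 hx, x.2⟩)
  have hpow : (k⁻¹ * g) ^ Q.relIndex C ∈ Q := by
    haveI : (Q.subgroupOf C).Normal := inferInstance
    exact Subgroup.pow_index_mem (Q.subgroupOf C) (⟨k⁻¹ * g, hc⟩ : C)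
  set N := K ⊔ Q with hN
  haveI : N.Normal := Subgroup.sup_normal K Q
  set π := QuotientGroup.mk' N with hπ
  have hk1 : π k = 1 := (QuotientGroup.eq_one_iff k).2 (mem_sup_left hk)
  have h1 : π g ^ Q.relIndex C = 1 := by
    rw [← map_pow, show π (g ^ Q.relIndex C) = π ((k⁻¹ * g) ^ Q.relIndex C) by
      rw [map_pow, map_pow, map_mul, map_inv, hk1, inv_one, one_mul]]
    exact (QuotientGroup.eq_one_iff _).2 (mem_sup_right hpow)
  obtain ⟨j, hj⟩ := S.2 ⟨g, hg⟩
  refine (QuotientGroup.eq_one_iff g).1 (coprime_eq_one (k := j) ?_ (orderOf_dvd_of_pow_eq_one h1) hodd)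
  show π g ^ 2 ^ j = 1
  rw [← map_pow, show g ^ 2 ^ j = 1 from congrArg Subtype.val hj, map_one]

/-- A quaternion 2-core and trivial intersections in the simple quotient give three independent commuting
involutions. -/
theorem exists_three (o : One K) (hti : TI2 (↥K ⧸ center ↥K))
    (hquat : ∃ n : ℕ, Nonempty (↥(Cfsg.pCore 2 G) ≃* QuaternionGroup (2 ^ (n + 1)))) :
    ∃ (S : Sylow 2 G) (u v w : G), Three (S : Subgroup G) u v w := by
  haveI : Fact (Nat.Prime 2) := ⟨Nat.prime_two⟩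
  haveI := bar_simple o.comp
  have hna := bar_nonab o.comp
  set Q := Cfsg.pCore 2 G with hQ
  obtain ⟨n, ⟨e⟩⟩ := hquat
  rw [pow_succ'] at e
  set f : QuaternionGroup (2 * 2 ^ n) → G := fun w => ((e.symm w : ↥Q) : G) with hf
  have hfm : ∀ v w, f (v * w) = f v * f w := fun v w => by simp [hf]
  have hf1 : f 1 = 1 := by simp [hf]
  have hfi : ∀ {v w}, f v = f w → v = w := fun h => e.symm.injective (Subtype.ext h)
  have hfQ : ∀ w, f w ∈ Q := fun w => (e.symm w).2
  set zq : QuaternionGroup (2 * 2 ^ n) := QuaternionGroup.a ((2 * 2 ^ n : ℕ) : ZMod (2 * (2 * 2 ^ n))) with hzq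
  set iq : QuaternionGroup (2 * 2 ^ n) := QuaternionGroup.a ((2 ^ n : ℕ) : ZMod (2 * (2 * 2 ^ n))) with hiq
  set z := f zq with hz
  set q := f iq with hq
  set q' := f (QuaternionGroup.xa 0) with hq'
  have h2n : 0 < 2 ^ n := Nat.two_pow_pos n
  have hzne : zq ≠ 1 := by
    rw [hzq, QuaternionGroup.one_def]
    intro h0
    have := Nat.le_of_dvd (by omega) ((ZMod.natCast_eq_zero_iff _ _).1 (QuaternionGroup.a.inj h0))
    omega
  have hqq : q * q = z := by
    rw [hq, ← hfm, hz, hiq, hzq, QuaternionGroup.a_mul_a]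
    refine congrArg (fun k => f (QuaternionGroup.a k)) ?_
    push_cast
    ring
  have hq'q' : q' * q' = z := by
    rw [hq', ← hfm, hz, hzq, QuaternionGroup.xa_mul_xa, add_sub_cancel_right]
  have hz2 : z * z = 1 := by
    rw [hz, ← hfm, hzq, QuaternionGroup.a_mul_a, ← Nat.cast_add, ← two_mul, ZMod.natCast_self,
      ← QuaternionGroup.one_def, hf1]
  have hz1 : z ≠ 1 := fun h => hzne (hfi (h.trans hf1.symm))
  have hanti : q' * q = q * q' * z := by
    rw [hq, hq', hz, ← hfm, ← hfm, ← hfm]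
    refine congrArg f ((Quat.comm_i (QuaternionGroup.xa 0)).resolve_left fun h0 => ?_)
    rw [QuaternionGroup.a_mul_xa, QuaternionGroup.xa_mul_a] at h0
    have h1 : ((2 ^ n + 2 ^ n : ℕ) : ZMod (2 * (2 * 2 ^ n))) = 0 := by
      have := QuaternionGroup.xa.inj h0
      push_cast at this ⊢
      linear_combination this
    have := Nat.le_of_dvd (by omega) ((ZMod.natCast_eq_zero_iff _ _).1 h1)
    omega
  have hne : q * q' ≠ q' * q := fun h => hz1 (mul_left_cancel (a := q * q') ((hanti.symm.trans h.symm).trans (mul_one _).symm))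
  have hcQ : ∀ {x : G}, x ∈ K → ∀ {y : G}, y ∈ Q → x * y = y * x := fun hx _ hy => commute_core o.comp hy hx
  have hcenter : ∀ x : ↥K, x ∈ center ↥K → (x : G) = 1 ∨ (x : G) = z := by
    intro x hx
    have hxQ : (x : G) ∈ Q := center_le_core o.hyp o.comp (mem_map_of_mem _ hx)
    have hxx := sq_eq_one_of_commute (Cfsg.Lib.Components.isPGroup_pCore 2) o.hyp.core_not_four (hfQ iq)
      (hfQ (QuaternionGroup.xa 0)) hxQ (hqq.symm ▸ hz1) (hqq.symm ▸ hz2) hne (hcQ x.2 (hfQ _)) (hcQ x.2 (hfQ _))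
    refine eq_of_not_fourIn o.hyp.core_not_four (hfQ zq) hz2 hz1 hxQ hxx ?_
    exact hcQ x.2 (hfQ _)
  obtain ⟨S⟩ : Nonempty (Sylow 2 G) := inferInstance
  obtain ⟨P, hP⟩ := exists_sylow o.comp S
  set μ := QuotientGroup.mk' (center ↥K) with hμ
  set U : Sylow 2 (↥K ⧸ center ↥K) := P.mapSurjective (QuotientGroup.mk'_surjective (center ↥K))
  obtain ⟨a, b, ha, hb, hao, hbo, hab, hac, -⟩ := exists_central_pair hna hti U
  have habc : a * b = b * a := hac b hb
  obtain ⟨c, rfl⟩ := QuotientGroup.mk'_surjective (center ↥K) a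
  obtain ⟨c', rfl⟩ := QuotientGroup.mk'_surjective (center ↥K) b
  rw [Sylow.coe_mapSurjective, mem_bar_iff o.hyp o.comp S hP] at ha hb
  have hsq : ∀ {x : ↥K}, orderOf (μ x) = 2 → x * x ∈ center ↥K := fun {x} hx => by
    refine (QuotientGroup.eq_one_iff _).1 ?_
    show μ (x * x) = 1
    rw [map_mul, ← pow_two, ← hx, pow_orderOf_eq_one]
  have hone : OneClass (↥K ⧸ center ↥K) := oneClass_of_embedded (embedded_of_ti hna hti)
  have hzK : ∀ {x : G}, x ∈ K → x * z = z * x := fun hx => hcQ hx (hfQ zq)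
  have hsame : ∀ {x y : ↥K}, orderOf (μ x) = 2 → orderOf (μ y) = 2 → (y : G) * y = x * x := by
    intro x y hx hy
    obtain ⟨g, hg⟩ := isConj_iff.1 (hone _ _ hx hy)
    obtain ⟨k, rfl⟩ := QuotientGroup.mk'_surjective (center ↥K) g
    rw [← map_inv, ← map_mul, ← map_mul] at hg
    have hζ : (k * x * k⁻¹)⁻¹ * y ∈ center ↥K := QuotientGroup.eq.1 hg
    set ζ := (k * x * k⁻¹)⁻¹ * y with hζdef
    have hy' : y = k * x * k⁻¹ * ζ := by rw [hζdef, mul_inv_cancel_left]
    have hζ2 : ζ * ζ = 1 := by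
      refine Subtype.ext ?_
      show (ζ : G) * ζ = 1
      rcases hcenter ζ hζ with h0 | h0 <;> rw [h0]
      exacts [one_mul 1, hz2]
    have hx2 : k * (x * x) * k⁻¹ = x * x := by
      rw [mem_center_iff.1 (hsq hx) k, mul_inv_cancel_right]
    have : y * y = x * x := by
      calc y * y = k * x * k⁻¹ * (ζ * (k * x * k⁻¹)) * ζ := by rw [hy']; group
        _ = k * x * k⁻¹ * ((k * x * k⁻¹) * ζ) * ζ := by rw [mem_center_iff.1 hζ (k * x * k⁻¹)]
        _ = k * (x * x) * k⁻¹ * (ζ * ζ) := by group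
        _ = x * x := by rw [hζ2, mul_one, hx2]
    exact congrArg Subtype.val this
  have hcc : orderOf (μ (c * c')) = 2 := by
    refine orderOf_eq_prime ?_ fun h0 => hab ?_
    · rw [map_mul, pow_two, show μ c * μ c' * (μ c * μ c') = μ c * (μ c' * μ c) * μ c' by group, ← habc,
        show μ c * (μ c * μ c') * μ c' = (μ c * μ c) * (μ c' * μ c') by group, ← pow_two, ← pow_two]
      nth_rw 1 [← hao]
      rw [pow_orderOf_eq_one, ← hbo, pow_orderOf_eq_one, one_mul]
    · rw [map_mul] at h0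
      rw [eq_inv_of_mul_eq_one_left h0, inv_eq_of_mul_eq_one_right]
      rw [← pow_two, ← hbo, pow_orderOf_eq_one]
  set σ := (c : G) * c with hσ
  have hσ' : (c' : G) * c' = σ := hsame hao hbo
  have hσ'' : (c : G) * c' * ((c : G) * c') = σ := hsame hao hcc
  have hσz : σ = 1 ∨ σ = z := hcenter (c * c) (hsq hao)
  have hσ2 : σ * σ = 1 := by rcases hσz with h0 | h0 <;> rw [h0]; exacts [one_mul 1, hz2]
  have hσc : ∀ {x : G}, x ∈ K → x * σ = σ * x := fun hx => by
    rcases hσz with h0 | h0 <;> rw [h0]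
    exacts [by rw [mul_one, one_mul], hzK hx]
  have hswap : (c' : G) * c = c * c' * σ := by
    calc (c' : G) * c = (c : G)⁻¹ * ((c : G) * c' * ((c : G) * c')) * (c' : G)⁻¹ := by group
      _ = (c : G)⁻¹ * σ * (c' : G)⁻¹ := by rw [hσ'']
      _ = (c : G) * ((σ : G)⁻¹ * σ) * (c' : G)⁻¹ := by rw [hσ]; group
      _ = (c : G) * (c' : G)⁻¹ := by rw [inv_mul_cancel, mul_one]
      _ = (c : G) * ((c' : G) * σ⁻¹) := by rw [← hσ']; group
      _ = c * c' * σ := by rw [inv_eq_of_mul_eq_one_right hσ2, mul_assoc]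
  have hout : ∀ {x : ↥K}, orderOf (μ x) = 2 → (x : G) ∉ Q := fun {x} hx hxQ => by
    have h1 : μ x = 1 := (QuotientGroup.eq_one_iff x).2 (mem_center_iff.2 fun w => Subtype.ext (hcQ w.2 hxQ))
    rw [h1, orderOf_one] at hx
    omega
  have hzQ : z ∈ Q := hfQ zq
  have hzS : z ∈ (S : Subgroup G) := Hyp.pCore_le S hzQ
  -- the common square decides the lifts
  obtain ⟨p, p', hp, hp', hcp, hcp', hpp⟩ : ∃ p p' : G, p ∈ Q ∧ p' ∈ Q ∧ (c : G) * p * (c * p) = 1 ∧
      (c' : G) * p' * (c' * p') = 1 ∧ p' * p = p * p' * σ := by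
    rcases hσz with h0 | h0
    · exact ⟨1, 1, one_mem _, one_mem _, by rw [mul_one, ← hσ, h0], by rw [mul_one, hσ', h0],
        by simp [h0]⟩
    · refine ⟨q, q', hfQ _, hfQ _, ?_, ?_, h0 ▸ hanti⟩
      · rw [show (c : G) * q * (c * q) = c * (q * c) * q by group, ← hcQ c.2 (hfQ _),
          show (c : G) * (c * q) * q = (c * c) * (q * q) by group, ← hσ, h0, hqq, hz2]
      · rw [show (c' : G) * q' * (c' * q') = c' * (q' * c') * q' by group, ← hcQ c'.2 (hfQ _),
          show (c' : G) * (c' * q') * q' = (c' * c') * (q' * q') by group, hσ', h0, hq'q', hz2]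
  have key : ∀ {x : ↥K} {p : G}, orderOf (μ x) = 2 → p ∈ Q → ∀ r ∈ Q, (x : G) * p ≠ r := fun {x p} hx hp r hr h0 => by
    refine hout hx ?_
    rw [eq_mul_inv_of_mul_eq h0]
    exact mul_mem hr (inv_mem hp)
  have hzp : ∀ {x p : G}, x ∈ K → p ∈ Q → p * z = z * p → x * p * z = z * (x * p) := fun hx _ hpz => by
    rw [mul_assoc, hpz, ← mul_assoc, hzK hx, mul_assoc]
  have hQz : ∀ p ∈ Q, p * z = z * p := by
    intro p hp
    obtain ⟨w, rfl⟩ : ∃ w, f w = p := ⟨e ⟨p, hp⟩, by simp [hf]⟩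
    rw [hz, ← hfm, ← hfm]
    refine congrArg f ?_
    rw [hzq]
    rcases w with k | k
    · rw [QuaternionGroup.a_mul_a, QuaternionGroup.a_mul_a, add_comm]
    · rw [QuaternionGroup.xa_mul_a, QuaternionGroup.a_mul_xa]
      refine congrArg _ ?_
      have h0 : ((2 * 2 ^ n : ℕ) : ZMod (2 * (2 * 2 ^ n))) + (2 * 2 ^ n : ℕ) = 0 := by
        rw [← Nat.cast_add, ← two_mul, ZMod.natCast_self]
      linear_combination h0
  refine ⟨S, z, c * p, c' * p', ⟨hzS, (S : Subgroup G).mul_mem ha (Hyp.pCore_le S hp),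
    (S : Subgroup G).mul_mem hb (Hyp.pCore_le S hp'), hz2, hcp, hcp', (hzp c.2 hp (hQz p hp)).symm,
    (hzp c'.2 hp' (hQz p' hp')).symm, ?_, hz1, ⟨key hao hp 1 (one_mem _), key hao hp z hzQ⟩,
    ⟨key hbo hp' 1 (one_mem _), key hbo hp' z hzQ, fun h0 => ?_, fun h0 => ?_⟩⟩⟩
  · symm
    calc (c' : G) * p' * (c * p) = c' * (p' * c) * p := by group
      _ = c' * (c * p') * p := by rw [hcQ c.2 hp']
      _ = c' * c * (p' * p) := by group
      _ = c * c' * σ * (p * p' * σ) := by rw [hswap, hpp]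
      _ = c * c' * (σ * (p * p')) * σ := by group
      _ = c * c' * (p * p' * σ) * σ := by
            rcases hσz with h1 | h1 <;> rw [h1]
            · simp
            · rw [hQz _ (mul_mem hp hp')]
      _ = c * (c' * p) * p' * (σ * σ) := by group
      _ = c * p * (c' * p') := by rw [hσ2, hcQ c'.2 hp]; group
  · refine hout hcc ?_
    show (c : G) * c' ∈ Q
    have hc'e : (c' : G) = c * (p * p'⁻¹) := by rw [← mul_assoc, ← h0, mul_inv_cancel_right]
    rw [hc'e, ← mul_assoc, ← hσ]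
    refine mul_mem ?_ (mul_mem hp (inv_mem hp'))
    rcases hσz with h1 | h1 <;> rw [h1]
    exacts [one_mem _, hzQ]
  · refine hout hcc ?_
    show (c : G) * c' ∈ Q
    have hc'e : (c' : G) = c * (z * p * p'⁻¹) := by
      calc (c' : G) = z * (c * p) * p'⁻¹ := by rw [← h0, mul_inv_cancel_right]
        _ = (z * c) * p * p'⁻¹ := by group
        _ = c * (z * p * p'⁻¹) := by rw [← hzK c.2]; group
    rw [hc'e, ← mul_assoc, ← hσ]
    refine mul_mem ?_ (mul_mem (mul_mem hzQ hp) (inv_mem hp'))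
    rcases hσz with h1 | h1 <;> rw [h1]
    exacts [one_mem _, hzQ]

/-- When the Sylow subgroups lie in the product, their intersections lie in the 2-core and the first case holds. -/
theorem finish (o : One K) (S : Sylow 2 G) (hS : (S : Subgroup G) ≤ K ⊔ Cfsg.pCore 2 G)
    (hint : ∀ S T : Sylow 2 G, (S : Subgroup G) ⊓ K ≠ (T : Subgroup G) ⊓ K →
      ∀ x ∈ K, x ∈ (S : Subgroup G) → x ∈ (T : Subgroup G) → ∀ k ∈ K, k * x = x * k)
    (hnC : ∃ S T : Sylow 2 G, S ≠ T ∧ ¬ IsCyclic ↥((S : Subgroup G) ⊓ (T : Subgroup G))) : ConclA G := by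
  haveI : Fact (Nat.Prime 2) := ⟨Nat.prime_two⟩
  haveI := o.normal
  set Q := Cfsg.pCore 2 G with hQ
  set N := K ⊔ Q with hN
  haveI hNn : N.Normal := Subgroup.sup_normal K Q
  have hall : ∀ T : Sylow 2 G, (T : Subgroup G) ≤ N := fun T => by
    obtain ⟨g, rfl⟩ := MulAction.exists_smul_eq G S T
    intro x hx
    have := hNn.conj_mem _ (hS ((mem_smul_iff S g x).1 hx)) g
    rwa [show g * (g⁻¹ * x * g) * g⁻¹ = x by group] at this
  have hcent : ∀ x ∈ K, (∀ k ∈ K, k * x = x * k) → x ∈ Q := fun x hx hc =>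
    center_le_core o.hyp o.comp ⟨⟨x, hx⟩, mem_center_iff.2 fun w => Subtype.ext (hc w w.2), rfl⟩
  have hsplit : ∀ T : Sylow 2 G, ∀ x ∈ (T : Subgroup G),
      ∃ k ∈ K, k ∈ (T : Subgroup G) ∧ ∃ q ∈ Q, x = k * q := fun T x hx => by
    obtain ⟨k, hk, q, hq, rfl⟩ := mem_sup_of_normal_left.1 (hall T hx)
    refine ⟨k, hk, ?_, q, hq, rfl⟩
    have := (T : Subgroup G).mul_mem hx ((T : Subgroup G).inv_mem (Hyp.pCore_le T hq))
    rwa [mul_inv_cancel_right] at this
  obtain ⟨S₁, T₁, hne, hnc⟩ := hnC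
  have hle : (S₁ : Subgroup G) ⊓ (T₁ : Subgroup G) ≤ Q := by
    intro x hx
    obtain ⟨k, hk, hkS, q, hq, rfl⟩ := hsplit S₁ x hx.1
    have hkT : k ∈ (T₁ : Subgroup G) := by
      have := (T₁ : Subgroup G).mul_mem hx.2 ((T₁ : Subgroup G).inv_mem (Hyp.pCore_le T₁ hq))
      rwa [mul_inv_cancel_right] at this
    refine mul_mem (hcent k hk (hint S₁ T₁ (fun e => hne (Sylow.ext ?_)) k hk hkS hkT)) hq
    refine le_antisymm (fun y hy => ?_) fun y hy => ?_
    · obtain ⟨a, ha, haS, b, hb, rfl⟩ := hsplit S₁ y hy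
      exact mul_mem (e ▸ (⟨haS, ha⟩ : a ∈ (S₁ : Subgroup G) ⊓ K) : a ∈ (T₁ : Subgroup G) ⊓ K).1
        (Hyp.pCore_le T₁ hb)
    · obtain ⟨a, ha, haS, b, hb, rfl⟩ := hsplit T₁ y hy
      exact mul_mem (e ▸ (⟨haS, ha⟩ : a ∈ (T₁ : Subgroup G) ⊓ K) : a ∈ (S₁ : Subgroup G) ⊓ K).1
        (Hyp.pCore_le S₁ hb)
  have hQnc : ¬ IsCyclic ↥Q := fun hc => hnc (by
    haveI := hc
    exact isCyclic_of_injective (Subgroup.inclusion hle) (Subgroup.inclusion_injective hle))
  have hquat := (cyclic_or_quaternion (Cfsg.Lib.Components.isPGroup_pCore 2) o.hyp.core_not_four).resolve_left hQnc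
  refine ⟨N, hNn, inferInstance, ?_, le_sup_right, hquat, ?_⟩
  · rw [← Nat.not_even_iff_odd, even_iff_two_dvd]
    exact fun h2 => S.not_dvd_index (h2.trans (index_dvd_of_le hS))
  have hcc : Q.subgroupOf K = center ↥K := by
    refine le_antisymm (fun x hx => mem_center_iff.2 fun w => Subtype.ext (commute_core o.comp hx w.2)) fun x hx => ?_
    exact mem_subgroupOf.2 (center_le_core o.hyp o.comp (mem_map_of_mem _ hx))
  have e := (QuotientGroup.quotientInfEquivProdNormalQuotient K Q).symm.trans (QuotientGroup.quotientMulEquivOfEq hcc)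
  exact ⟨types_of_embedded o.comp e (ti_bar o.hyp o.comp hint), o.exists_three (ti_bar o.hyp o.comp hint) hquat⟩

end One

end Cfsg.Lib.RankOneInter
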