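import Cfsg.Agent.SylowRankOne.Almost

/-!
A normal simple subgroup whose Sylow 2-subgroup determines that of the whole group has odd index (row 3310; the
argument of `Cfsg.Lib.SylowRankOne.socle_index`).
-/

set_option autoImplicit false
set_option linter.unusedSectionVars false
set_option linter.style.haveILetI false

namespace Cfsg.Lib.RankOneInter

open Subgroup Cfsg.Lib.Walter.CI Cfsg.Lib.CyclicInter Cfsg.Lib.SylowRankOne
open scoped Pointwise

universe u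

variable {Q : Type u} [Group Q] [Finite Q]

/-- the socle has odd index -/
theorem socle_index (M : Subgroup Q) [M.Normal] [IsSimpleGroup ↥M] (hna : ¬ IsMulCommutative ↥M)
    (hCM : centralizer (M : Set Q) = ⊥) (S : Sylow 2 Q)
    (hnorm : ∀ g : Q, (∀ x ∈ (S : Subgroup Q) ⊓ M, g * x * g⁻¹ ∈ (S : Subgroup Q) ⊓ M) →
      g ∈ normalizer ((S : Subgroup Q) : Set Q))
    (hSE : ∀ P : Sylow 2 ↥M, ¬ IsMulCommutative ↥(P : Subgroup ↥M) → ∃ H : Subgroup ↥M, Cfsg.IsStronglyEmbedded H) :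
    Odd M.index := by
  haveI : Fact (Nat.Prime 2) := ⟨Nat.prime_two⟩
  have hMns : ¬ Group.IsSolvable ↥M := fun h =>
    hna ⟨⟨fun a b => IsSimpleGroup.comm_iff_isSolvable.2 h a b⟩⟩
  suffices hle : (S : Subgroup Q) ≤ M by
    rw [← Nat.not_even_iff_odd, even_iff_two_dvd]
    exact fun h => S.not_dvd_index (h.trans (index_dvd_of_le hle))
  intro s hs
  obtain ⟨P, hP⟩ : ∃ P : Sylow 2 ↥M, (P : Subgroup ↥M) = (S : Subgroup Q).subgroupOf M :=
    ⟨(S.2.comap_subtype (K := M)).toSylow (by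
      obtain ⟨U, hU⟩ := Cfsg.Agent.S0542.result 2 M (Subgroup.Normal.isSubnormal inferInstance) S
      have := U.not_dvd_index
      rwa [hU] at this), rfl⟩
  have hmemP : ∀ {x : ↥M}, x ∈ (P : Subgroup ↥M) ↔ (x : Q) ∈ (S : Subgroup Q) := fun {x} => by
    rw [hP, mem_subgroupOf]
  set P₀ := (S : Subgroup Q) ⊓ M with hP₀
  have hP0c : ¬ IsCyclic ↥(P : Subgroup ↥M) := fun h => hMns (solvable_of_cyclic P h)
  have hSP : ∀ g ∈ (S : Subgroup Q), ∀ x ∈ P₀, g * x * g⁻¹ ∈ P₀ := fun g hg x hx =>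
    mem_inf.2 ⟨mul_mem (mul_mem hg hx.1) (inv_mem hg), (inferInstance : M.Normal).conj_mem x hx.2 g⟩
  have hPN : ∀ n : ↥M, n ∈ normalizer ((P : Subgroup ↥M) : Set ↥M) →
      (n : Q) ∈ normalizer ((S : Subgroup Q) : Set Q) := fun n hn => hnorm n fun x hx => by
    have h1 := (mem_normalizer_iff.1 hn ⟨x, hx.2⟩).1 (hmemP.2 hx.1)
    exact ⟨hmemP.1 h1, (n * ⟨x, hx.2⟩ * n⁻¹ : ↥M).2⟩
  -- the induced automorphisms
  have hfaith : ∀ d : Q, (MulAut.conjNormal d : MulAut ↥M) = 1 → d = 1 := fun d hd => by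
    have : d ∈ centralizer (M : Set Q) := mem_centralizer_iff.2 fun x hx => by
      have := congrArg Subtype.val (DFunLike.congr_fun hd ⟨x, hx⟩)
      rw [MulAut.conjNormal_apply, MulAut.one_apply] at this
      exact (mul_inv_eq_iff_eq_mul.1 this).symm
    rwa [hCM, mem_bot] at this
  have htwo : ∀ d ∈ (S : Subgroup Q), ∃ j, (MulAut.conjNormal d : MulAut ↥M) ^ 2 ^ j = 1 := fun d hd => by
    obtain ⟨j, hj⟩ := S.2.exists_orderOf_eq_pow ⟨d, hd⟩
    rw [Subgroup.orderOf_mk] at hj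
    exact ⟨j, by rw [← map_pow, ← hj, pow_orderOf_eq_one, map_one]⟩
  by_cases hab : IsMulCommutative ↥(P : Subgroup ↥M)
  · -- abelian intersection
    have hel := Cfsg.Lib.Walter.Consumers.elemProp_of_walter Cfsg.Lib.Walter.walterProp ↥M hna P hab
    set A : Subgroup ↥M := (P : Subgroup ↥M) ⊓ (centralizer ((S : Subgroup Q) : Set Q)).subgroupOf M with hA
    have hAinv : ∀ n ∈ normalizer ((P : Subgroup ↥M) : Set ↥M), ∀ a ∈ A, n * a * n⁻¹ ∈ A := by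
      intro n hn a ha
      refine mem_inf.2 ⟨(mem_normalizer_iff.1 hn a).1 (mem_inf.1 ha).1, mem_centralizer_iff.2 fun x hx => ?_⟩
      have h1 : (n : Q)⁻¹ * x * n ∈ (S : Subgroup Q) := (mem_normalizer_iff''.1 (hPN n hn) x).1 hx
      have h2 : (n : Q)⁻¹ * x * n * a = a * ((n : Q)⁻¹ * x * n) :=
        mem_centralizer_iff.1 (mem_inf.1 ha).2 _ h1
      show x * ((n : Q) * a * (n : Q)⁻¹) = (n : Q) * a * (n : Q)⁻¹ * x
      calc x * ((n : Q) * a * (n : Q)⁻¹) = (n : Q) * ((n : Q)⁻¹ * x * n * a) * (n : Q)⁻¹ := by group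
        _ = _ := by rw [h2]; group
    have hAtop : A = (P : Subgroup ↥M) := by
      refine (irreducible hna P hel A inf_le_left hAinv).resolve_left fun hA0 => ?_
      -- the centre of `S` meets `P₀`
      set N := P₀.subgroupOf (S : Subgroup Q) with hN
      haveI hn : N.Normal := ⟨fun x hx g => hSP g g.2 x hx⟩
      have hNne : N ≠ ⊥ := fun e => hP0c (by
        haveI : Subsingleton ↥(P : Subgroup ↥M) := ⟨fun a b => by
          have key : ∀ a : ↥(P : Subgroup ↥M), a = 1 := fun a => by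
            have hm : (⟨((a : ↥M) : Q), hmemP.1 a.2⟩ : ↥(S : Subgroup Q)) ∈ N :=
              mem_inf.2 ⟨hmemP.1 a.2, (a : ↥M).2⟩
            rw [e, mem_bot] at hm
            exact Subtype.ext (Subtype.ext (congrArg Subtype.val hm :))
          rw [key a, key b]⟩
        infer_instance)
      haveI : Group.IsNilpotent ↥(S : Subgroup Q) := S.2.isNilpotent
      obtain ⟨⟨x, hxN, hxc⟩, hx1⟩ :=
        Subgroup.ne_bot_iff_exists_ne_one.1 (Cfsg.Lib.Coprime.inf_center_ne_bot N hNne)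
      have hxM : (x : Q) ∈ M := (mem_inf.1 (show (x : Q) ∈ P₀ from hxN)).2
      have hmA : (⟨x.1, hxM⟩ : ↥M) ∈ A :=
        mem_inf.2 ⟨hmemP.2 x.2, mem_centralizer_iff.2 fun y hy => congrArg Subtype.val (mem_center_iff.1 hxc ⟨y, hy⟩)⟩
      rw [hA0, mem_bot] at hmA
      exact hx1 (Subtype.ext (Subtype.ext (congrArg Subtype.val hmA :)))
    have hfix : ∀ x ∈ (P : Subgroup ↥M), (MulAut.conjNormal s : MulAut ↥M) x = x := fun x hx => by
      refine Subtype.ext ?_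
      rw [MulAut.conjNormal_apply, show s * (x : Q) = x * s from mem_centralizer_iff.1 (mem_inf.1 (hAtop.ge hx)).2 s hs,
        mul_inv_cancel_right]
    have hZ : center ↥M = ⊥ :=
      (IsSimpleGroup.eq_bot_or_eq_top_of_normal _ inferInstance).resolve_right fun e => hna
        ⟨⟨fun a b => mem_center_iff.1 (e.ge (mem_top b)) a⟩⟩
    obtain ⟨j, hj⟩ := htwo s hs
    obtain ⟨i, -, hi⟩ := (Nat.dvd_prime_pow Nat.prime_two).1 (orderOf_dvd_of_pow_eq_one hj)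
    obtain ⟨g, hg⟩ := Cfsg.Agent.S4593.result hZ (oddCore_bot hna) P hab _ ⟨i, hi⟩ hfix
    have : (g : Q)⁻¹ * s = 1 := hfaith _ (MulEquiv.ext fun x => by
      rw [map_mul, MulAut.mul_apply, hg, ← Subtype.coe_inj, MulAut.conjNormal_apply, MulAut.one_apply]
      push_cast
      group)
    rw [← inv_mul_eq_one.1 this]
    exact g.2
  -- nonabelian intersection
  by_contra hsM
  obtain ⟨H, hH⟩ := exists_pair hna (hSE P hab) P
  have hHN : ∀ n : ↥M, n ∈ H → (n : Q) ∈ normalizer ((S : Subgroup Q) : Set Q) := fun n hn =>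
    hPN n (hH.norm.symm ▸ hn)
  have hNH : ∀ n : ↥M, (n : Q) ∈ normalizer ((S : Subgroup Q) : Set Q) → n ∈ H := fun n hn => by
    rw [← hH.norm]
    exact mem_normalizer_fintype fun x hx => hmemP.2 ((mem_normalizer_iff.1 hn (x : Q)).1 (hmemP.1 hx))
  obtain ⟨g₀, hg₀⟩ : ∃ g₀ : ↥M, g₀ ∉ H := by
    by_contra h
    push Not at h
    exact hH.se.1 ((eq_top_iff' H).2 h)
  -- the two-point stabiliser meets `M` trivially
  have hDM : ∀ x : ↥M, (x : Q) ∈ (S : Subgroup Q) → (g₀ : Q)⁻¹ * x * g₀ ∈ (S : Subgroup Q) → x = 1 := by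
    intro x hx hxg
    have hodd := hH.se.2.2 g₀ hg₀
    have hxI : x ∈ H ⊓ H.map (MulAut.conj g₀).toMonoidHom :=
      mem_inf.2 ⟨hNH x (le_normalizer hx), g₀⁻¹ * x * g₀, hNH _ (le_normalizer hxg),
        show g₀ * (g₀⁻¹ * x * g₀) * g₀⁻¹ = x by group⟩
    obtain ⟨k, hk⟩ := S.2.exists_orderOf_eq_pow ⟨x, hx⟩
    rw [Subgroup.orderOf_mk, orderOf_coe] at hk
    exact orderOf_eq_one_iff.1 (Nat.eq_one_of_dvd_coprimes ((Nat.coprime_two_left.2 hodd).pow_left k) hk.dvd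
      (orderOf_dvd_natCard _ hxI))
  -- an element of it outside `M`
  obtain ⟨d, hdS, hdg, hdM⟩ : ∃ d, d ∈ (S : Subgroup Q) ∧ (g₀ : Q)⁻¹ * d * g₀ ∈ (S : Subgroup Q) ∧ d ∉ M := by
    set g₁ : ↥M := MulAut.conjNormal s⁻¹ g₀ with hg₁
    have hval : (g₁ : Q) = s⁻¹ * g₀ * s⁻¹⁻¹ := MulAut.conjNormal_apply _ _
    have hsN : s ∈ normalizer ((S : Subgroup Q) : Set Q) := le_normalizer hs
    have hg₁H : g₁ ∉ H := fun h => hg₀ (hNH g₀ (by
      have h1 := mul_mem (mul_mem hsN (hHN g₁ h)) (inv_mem hsN)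
      rwa [hval, show s * (s⁻¹ * (g₀ : Q) * s⁻¹⁻¹) * s⁻¹ = g₀ by group] at h1))
    obtain ⟨u, hu, hmem⟩ := hH.trans g₀ g₁ hg₀ hg₁H
    have hn := mul_mem hsN (hHN _ hmem)
    have he : s * ((g₁⁻¹ * (u * g₀) : ↥M) : Q) = (g₀ : Q)⁻¹ * (s * u) * g₀ := by
      push_cast
      rw [hval]; group
    rw [he] at hn
    have hd : s * u ∈ (S : Subgroup Q) := mul_mem hs (hmemP.1 hu)
    refine ⟨s * u, hd, ?_, fun h => hsM ?_⟩
    · obtain ⟨k, hk⟩ := S.2.exists_orderOf_eq_pow ⟨s * u, hd⟩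
      rw [Subgroup.orderOf_mk] at hk
      have hp : IsPGroup 2 ↥(zpowers ((g₀ : Q)⁻¹ * (s * u) * g₀)) := IsPGroup.of_card (n := k) (by
        rw [Nat.card_zpowers, ← hk]
        have := Cfsg.Lib.Isolated.orderOf_conj' (g₀ : Q)⁻¹ (s * (u : Q))
        rwa [inv_inv] at this)
      exact (S.3 (hp.to_sup_of_normal_right' S.isPGroup' (zpowers_le.2 hn)) le_sup_right).le
        (mem_sup_left (mem_zpowers _))
    · have := M.mul_mem h (inv_mem u.2)
      rwa [mul_inv_cancel_right] at this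
  -- take the involution
  set D := (S : Subgroup Q) ⊓ (S : Subgroup Q).map (MulAut.conj (g₀ : Q)).toMonoidHom with hD
  have hmemD : ∀ {x : Q}, x ∈ D → x ∈ (S : Subgroup Q) ∧ (g₀ : Q)⁻¹ * x * g₀ ∈ (S : Subgroup Q) := by
    intro x hx
    obtain ⟨y, hy, rfl⟩ := (mem_inf.1 hx).2
    refine ⟨(mem_inf.1 hx).1, ?_⟩
    rw [show (g₀ : Q)⁻¹ * (MulAut.conj (g₀ : Q)).toMonoidHom y * g₀ = y by
      show (g₀ : Q)⁻¹ * ((g₀ : Q) * y * (g₀ : Q)⁻¹) * g₀ = y
      group]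
    exact hy
  have hdD : d ∈ D := mem_inf.2 ⟨hdS, _, hdg,
    show (g₀ : Q) * ((g₀ : Q)⁻¹ * d * g₀) * (g₀ : Q)⁻¹ = d by group⟩
  obtain ⟨k, hk⟩ := S.2.exists_orderOf_eq_pow ⟨d, hdS⟩
  rw [Subgroup.orderOf_mk] at hk
  have hk0 : k ≠ 0 := fun e => hdM (by
    rw [e, pow_zero, orderOf_eq_one_iff] at hk
    rw [hk]; exact one_mem M)
  set i₂ := d ^ 2 ^ (k - 1) with hi₂
  have hi₂D := hmemD (D.pow_mem hdD (2 ^ (k - 1)))
  have hi₂2 : orderOf i₂ = 2 := by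
    rw [hi₂, orderOf_pow_of_dvd (pow_ne_zero _ two_ne_zero) (hk ▸ pow_dvd_pow 2 (Nat.sub_le k 1)), hk,
      Nat.pow_div (Nat.sub_le k 1) two_pos, show k - (k - 1) = 1 by omega, pow_one]
  set α : MulAut ↥M := MulAut.conjNormal i₂ with hα
  have hα1 : α ≠ 1 := fun e => by
    rw [hfaith _ e, orderOf_one] at hi₂2
    omega
  have hii : i₂ * i₂ = 1 := by rw [← pow_two, ← hi₂2, pow_orderOf_eq_one]
  have hαα : ∀ x, α (α x) = x := fun x => by
    rw [← MulAut.mul_apply, hα, ← map_mul, hii, map_one, MulAut.one_apply]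
  have hval : ∀ x : ↥M, (α x : Q) = i₂ * x * i₂⁻¹ := fun x => MulAut.conjNormal_apply _ _
  have hαP : ∀ x ∈ (P : Subgroup ↥M), α x ∈ (P : Subgroup ↥M) := fun x hx => hmemP.2 (by
    rw [hval]; exact mul_mem (mul_mem hi₂D.1 (hmemP.1 hx)) (inv_mem hi₂D.1))
  have hD' : ∀ e ∈ H, g₀⁻¹ * e * g₀ ∈ H → α e = e := by
    intro e he heg
    have h1 := hHN e he
    have h2 : (g₀ : Q)⁻¹ * e * g₀ ∈ normalizer ((S : Subgroup Q) : Set Q) := hHN _ heg
    refine mul_inv_eq_one.1 (hDM _ ?_ ?_)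
    · push_cast
      rw [hval, show i₂ * (e : Q) * i₂⁻¹ * (e : Q)⁻¹ = i₂ * ((e : Q) * i₂⁻¹ * (e : Q)⁻¹) by group]
      exact mul_mem hi₂D.1 ((mem_normalizer_iff.1 h1 _).1 (inv_mem hi₂D.1))
    · push_cast
      rw [hval, show (g₀ : Q)⁻¹ * (i₂ * (e : Q) * i₂⁻¹ * (e : Q)⁻¹) * g₀ = (g₀ : Q)⁻¹ * i₂ * g₀ *
        ((g₀ : Q)⁻¹ * e * g₀ * ((g₀ : Q)⁻¹ * i₂ * g₀)⁻¹ * ((g₀ : Q)⁻¹ * e * g₀)⁻¹) by group]
      exact mul_mem hi₂D.2 ((mem_normalizer_iff.1 h2 _).1 (inv_mem hi₂D.2))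
  have hsq : ∀ {x : ↥M}, orderOf x = 2 → x * x = 1 := fun hx => by rw [← pow_two, ← hx, pow_orderOf_eq_one]
  refine hα1 (rigid hna hH.se ⟨1, MulEquiv.ext fun x => by rw [pow_one, pow_two, MulAut.mul_apply, hαα,
    MulAut.one_apply]⟩ (fun x hx => hNH _ (by
      rw [hval]
      exact mul_mem (mul_mem (le_normalizer hi₂D.1) (hHN x hx)) (inv_mem (le_normalizer hi₂D.1))))
    hg₀ (hNH _ (le_normalizer (by
      push_cast
      rw [hval, ← mul_assoc, ← mul_assoc]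
      exact mul_mem hi₂D.2 (inv_mem hi₂D.1)))) (fun i hi hi2 => ?_) hD')
  -- a fixed involution
  obtain ⟨i₀, hi₀, hi₀2, hfix⟩ : ∃ i₀ ∈ (P : Subgroup ↥M), orderOf i₀ = 2 ∧ α i₀ = i₀ := by
    have hiP := (hH.qinvol i hi2 hi).1
    by_cases h : α i = i
    · exact ⟨i, hiP, hi2, h⟩
    have hcom : α i * i = i * α i := ((hH.qinvol i hi2 hi).2 _ (hαP i hiP)).symm
    refine ⟨i * α i, mul_mem hiP (hαP i hiP), orderOf_eq_prime ?_ fun e => h ?_, ?_⟩
    · rw [pow_two, show i * α i * (i * α i) = i * (α i * i) * α i by group, hcom,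
        show i * (i * α i) * α i = i * i * (α i * α i) by group, hsq hi2, ← map_mul, hsq hi2, map_one, one_mul]
    · rw [eq_inv_of_mul_eq_one_right e]
      exact inv_eq_of_mul_eq_one_right (hsq hi2)
    · rw [map_mul, hαα, hcom]
  obtain ⟨h, hh, he⟩ := hH.fuse i₀ hi₀ i (hH.qinvol i hi2 hi).1 hi₀2 hi2
  have hhg : h * g₀ ∉ H := fun hm => hg₀ (by simpa using H.mul_mem (inv_mem hh) hm)
  obtain ⟨u, hu, hmem⟩ := hH.trans g₀ (h * g₀) hg₀ hhg
  set t := h⁻¹ * u with ht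
  have huH : u ∈ H := hH.norm.le (le_normalizer hu)
  have htH : t ∈ H := H.mul_mem (inv_mem hh) huH
  have htg : g₀⁻¹ * t * g₀ ∈ H := by
    rw [ht, show g₀⁻¹ * (h⁻¹ * u) * g₀ = (h * g₀)⁻¹ * (u * g₀) by group]
    exact hmem
  set j := t⁻¹ * i₀ * t with hj
  have hj2 : orderOf j = 2 := by
    rw [hj, ← hi₀2]
    have := Cfsg.Lib.Isolated.orderOf_conj' t⁻¹ i₀
    rwa [inv_inv] at this
  have hjH : j ∈ H := H.mul_mem (H.mul_mem (inv_mem htH) (hH.norm.le (le_normalizer hi₀))) htH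
  have hju : u * j = j * u := ((hH.qinvol j hj2 hjH).2 u hu).symm
  have hij : i = j := by
    rw [← he, show h * i₀ * h⁻¹ = u * j * u⁻¹ by rw [hj, ht]; group, hju, mul_inv_cancel_right]
  rw [hij, hj, map_mul, map_mul, map_inv, hfix, hD' t htH htg]

end Cfsg.Lib.RankOneInter
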