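import Cfsg.Agent.RankOneInter.Lift
import Cfsg.Agent.RankOneInter.Socle
import Cfsg.Agent.Lyons.Final

/-!
A single component with a four-group, or with quaternion Sylow 2-subgroups and a 2-core of exponent above two
(row 3310): the first case of the conclusion.
-/

set_option autoImplicit false
set_option linter.unusedSectionVars false
set_option linter.style.haveILetI false

namespace Cfsg.Lib.RankOneInter

open Subgroup Cfsg.Lib.CyclicInter
open scoped Pointwise

universe u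

variable {G : Type u} [Group G] [Finite G] {K : Subgroup G}

namespace One

variable (o : One K)
include o

/-- The Sylow subgroup lies in the product of the component and the 2-core, when the component has a four-group. -/
theorem le_of_socle (S : Sylow 2 G) (h4 : FourIn ((S : Subgroup G) ⊓ K))
    (hTI : ∀ U : Sylow 2 (↥K ⧸ center ↥K), ¬ IsMulCommutative ↥(U : Subgroup (↥K ⧸ center ↥K)) →
      TI2 (↥K ⧸ center ↥K)) :
    (S : Subgroup G) ≤ K ⊔ Cfsg.pCore 2 G := by
  haveI : Fact (Nat.Prime 2) := ⟨Nat.prime_two⟩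
  haveI := o.normal
  haveI := bar_simple o.comp
  have hC := o.inter_cent S (h4.mono le_sup_left)
  set C := centralizer (K : Set G) with hCdef
  haveI : C.Normal := inferInstance
  set π := QuotientGroup.mk' C with hπ
  have hπs : Function.Surjective π := QuotientGroup.mk'_surjective C
  set M := K.map π with hM
  haveI : M.Normal := Normal.map inferInstance π hπs
  have hcenC : ∀ {c : G} (hc : c ∈ K), c ∈ C → (⟨c, hc⟩ : ↥K) ∈ center ↥K := fun {c} hc hcC =>
    mem_center_iff.2 fun w => Subtype.ext (mem_centralizer_iff.1 hcC w w.2)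
  set f : ↥K →* ↥M := π.subgroupMap K with hf
  have hker : f.ker = center ↥K := by
    ext x
    rw [MonoidHom.mem_ker, ← Subtype.coe_inj]
    constructor
    · intro hx
      exact hcenC x.2 ((QuotientGroup.eq_one_iff _).1 hx)
    · intro hx
      exact (QuotientGroup.eq_one_iff _).2 (mem_centralizer_iff.2 fun w hw =>
        congrArg Subtype.val (mem_center_iff.1 hx ⟨w, hw⟩))
  let e : ↥K ⧸ center ↥K ≃* ↥M := (QuotientGroup.quotientMulEquivOfEq hker.symm).trans
    (QuotientGroup.quotientKerEquivOfSurjective f (π.subgroupMap_surjective K))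
  haveI : Nontrivial ↥M := e.symm.toEquiv.nontrivial
  haveI hMs : IsSimpleGroup ↥M := IsSimpleGroup.isSimpleGroup_of_surjective e.toMonoidHom e.surjective
  have hMna : ¬ IsMulCommutative ↥M := fun h => bar_nonab o.comp (by
    haveI := h
    exact ⟨⟨fun a b => e.injective (by rw [map_mul, map_mul]; exact mul_comm' _ _)⟩⟩)
  have hCM : centralizer (M : Set (G ⧸ C)) = ⊥ := by
    refine (eq_bot_iff_forall _).2 fun x hx => ?_
    obtain ⟨g, rfl⟩ := hπs x
    refine (QuotientGroup.eq_one_iff g).2 (centralizes_of_mod o.comp fun k => ?_)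
    have h1 := mem_centralizer_iff.1 hx (π k) (mem_map_of_mem _ k.2)
    have hcK : g * k * g⁻¹ * (k : G)⁻¹ ∈ K := mul_mem (o.normal.conj_mem k k.2 g) (inv_mem k.2)
    refine ⟨⟨_, hcK⟩, hcenC hcK ((QuotientGroup.eq_one_iff _).1 ?_), rfl⟩
    show π (g * k * g⁻¹ * (k : G)⁻¹) = 1
    rw [map_mul, map_mul, map_mul, map_inv, map_inv, ← h1, mul_inv_cancel_right, mul_inv_cancel]
  set T : Sylow 2 (G ⧸ C) := S.mapSurjective hπs with hT
  have hTe : (T : Subgroup (G ⧸ C)) = (S : Subgroup G).map π := Sylow.coe_mapSurjective hπs S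
  have hinter : ∀ y ∈ (T : Subgroup (G ⧸ C)) ⊓ M, ∃ x ∈ (S : Subgroup G) ⊓ K, π x = y := by
    intro y hy
    obtain ⟨hyT, k, hk, rfl⟩ := mem_inf.1 hy
    rw [hTe] at hyT
    obtain ⟨s, hs, hse⟩ := hyT
    have hks : k⁻¹ * s ∈ C := QuotientGroup.eq.1 hse.symm
    obtain ⟨k', hk', q, hq, rfl⟩ := mem_sup_of_normal_left.1 (o.mem_sup_core S hC hs hk hks)
    refine ⟨k', ⟨?_, hk'⟩, ?_⟩
    · have := (S : Subgroup G).mul_mem hs ((S : Subgroup G).inv_mem (Hyp.pCore_le S hq))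
      rwa [mul_inv_cancel_right] at this
    · rw [← hse, map_mul, show π q = 1 from (QuotientGroup.eq_one_iff q).2
        (mem_centralizer_iff.2 fun w hw => commute_core o.comp hq hw), mul_one]
  have hodd : Odd M.index := by
    refine socle_index M hMna hCM T (fun y hy => ?_) fun U hU => ?_
    · obtain ⟨g, rfl⟩ := hπs y
      obtain ⟨u, v, hu, hv, hu2, hv2, hu1, hv1, hne, hc⟩ := h4
      have hmove : ∀ x ∈ (S : Subgroup G) ⊓ K, g * x * g⁻¹ ∈ (S : Subgroup G) := by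
        intro x hx
        have hxT : π x ∈ (T : Subgroup (G ⧸ C)) ⊓ M := ⟨hTe ▸ mem_map_of_mem _ hx.1, mem_map_of_mem _ hx.2⟩
        obtain ⟨y, hy', hye⟩ := hinter _ (hy _ hxT)
        rw [← map_inv, ← map_mul, ← map_mul] at hye
        have hyC : y⁻¹ * (g * x * g⁻¹) ∈ C := QuotientGroup.eq.1 hye
        have hK' := o.normal.conj_mem x hx.2 g
        have := center_mem_sylow o.hyp o.comp S (hcenC (mul_mem (inv_mem hy'.2) hK') hyC)
        have := (S : Subgroup G).mul_mem hy'.1 this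
        rwa [show (y : G) * ((⟨y⁻¹ * (g * x * g⁻¹), mul_mem (inv_mem hy'.2) hK'⟩ : ↥K) : G) = g * x * g⁻¹ from
          mul_inv_cancel_left y _] at this
      have hgS := o.hyp.ri.mem_normalizer hu.1 hv.1 hu2 hv2 hu1 hv1 hne hc (hmove u hu) (hmove v hv)
      refine mem_normalizer_fintype fun w hw => ?_
      rw [hTe] at hw ⊢
      obtain ⟨s, hs, rfl⟩ := hw
      refine ⟨g * s * g⁻¹, (mem_normalizer_iff.1 hgS s).1 hs, ?_⟩
      rw [map_mul, map_mul, map_inv]
    · have hs : Function.Surjective e.symm.toMonoidHom := e.symm.surjective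
      refine embedded_of_ti hMna (ti2_congr e.symm (hTI (U.mapSurjective hs) fun hab => hU ?_))
      haveI := hab
      exact ⟨⟨fun a b => Subtype.ext (e.symm.injective (by
        rw [Subgroup.coe_mul, Subgroup.coe_mul, map_mul, map_mul]
        exact congrArg Subtype.val (mul_comm' (⟨_, mem_map_of_mem e.symm.toMonoidHom a.2⟩ :
          ↥((U.mapSurjective hs : Sylow 2 (↥K ⧸ center ↥K)) : Subgroup (↥K ⧸ center ↥K)))
          ⟨_, mem_map_of_mem e.symm.toMonoidHom b.2⟩)))⟩⟩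
  intro g hg
  have hgM : π g ∈ M := by
    obtain ⟨j, hj⟩ := S.2 ⟨g, hg⟩
    refine (QuotientGroup.eq_one_iff (N := M) (π g)).1 (coprime_eq_one (k := j) ?_ (orderOf_dvd_natCard _)
      (by rwa [← index_eq_card]))
    show (QuotientGroup.mk' M) (π g) ^ 2 ^ j = 1
    rw [← map_pow, ← map_pow, show g ^ 2 ^ j = 1 from congrArg Subtype.val hj, map_one, map_one]
  obtain ⟨k, hk, hke⟩ := hgM
  exact o.mem_sup_core S hC hg hk (QuotientGroup.eq.1 hke)

/-- The intersections of the Sylow subgroups of the component lie in its centre, once some element of the 2-core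
is an involution and the involutions lift. -/
theorem inter_of_lift {z : G} (hzQ : z ∈ Cfsg.pCore 2 G) (hz2 : z * z = 1) (hz1 : z ≠ 1)
    (hlift : ∀ (S T : Sylow 2 G) (y : ↥K), S ≠ T → (y : G) ∈ (S : Subgroup G) → (y : G) ∈ (T : Subgroup G) →
      y * y ∈ center ↥K → y ∉ center ↥K → ∃ c ∈ center ↥K, y * c * (y * c) = 1) :
    ∀ S T : Sylow 2 G, (S : Subgroup G) ⊓ K ≠ (T : Subgroup G) ⊓ K →
      ∀ x ∈ K, x ∈ (S : Subgroup G) → x ∈ (T : Subgroup G) → ∀ k ∈ K, k * x = x * k := by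
  classical
  intro S T hne x hxK hxS hxT k hk
  by_contra hxc
  have hxC : (⟨x, hxK⟩ : ↥K) ∉ center ↥K := fun h => hxc (congrArg Subtype.val (mem_center_iff.1 h ⟨k, hk⟩))
  obtain ⟨j, hj⟩ := S.2 ⟨x, hxS⟩
  have hex : ∃ i, (⟨x, hxK⟩ : ↥K) ^ 2 ^ i ∈ center ↥K :=
    ⟨j, by rw [show (⟨x, hxK⟩ : ↥K) ^ 2 ^ j = 1 from Subtype.ext
      (show x ^ 2 ^ j = 1 from congrArg Subtype.val hj)]; exact one_mem _⟩
  obtain ⟨l, hl⟩ : ∃ l, Nat.find hex = l + 1 := by
    rcases Nat.eq_zero_or_pos (Nat.find hex) with e | e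
    · have h0 := Nat.find_spec hex
      rw [e, pow_zero, pow_one] at h0
      exact absurd h0 hxC
    · exact ⟨_, (Nat.sub_add_cancel e).symm⟩
  set y : ↥K := ⟨x, hxK⟩ ^ 2 ^ l with hy
  have hyS : (y : G) ∈ (S : Subgroup G) := by rw [hy, SubmonoidClass.coe_pow]; exact pow_mem hxS _
  have hyT : (y : G) ∈ (T : Subgroup G) := by rw [hy, SubmonoidClass.coe_pow]; exact pow_mem hxT _
  have hST : S ≠ T := fun e => hne (by rw [e])
  obtain ⟨c, hc, hu2⟩ := hlift S T y hST hyS hyT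
    (by rw [hy, ← pow_add, ← two_mul, ← pow_succ', ← hl]; exact Nat.find_spec hex) (Nat.find_min hex (by omega))
  have hyc : y * c ∉ center ↥K := fun hm => Nat.find_min hex (show l < Nat.find hex by omega) (by
    have := mul_mem hm (inv_mem hc)
    rwa [mul_inv_cancel_right] at this)
  refine hST (o.hyp.ri S T ⟨((y * c : ↥K) : G), z, ⟨?_, ?_⟩, ⟨Hyp.pCore_le S hzQ, Hyp.pCore_le T hzQ⟩,
    congrArg Subtype.val hu2, hz2, fun e => hyc ((show y * c = 1 from Subtype.ext e) ▸ one_mem _), hz1,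
    fun e => hyc (mem_center_iff.2 fun w => Subtype.ext ?_), commute_core o.comp hzQ (y * c).2⟩)
  · exact mul_mem hyS (center_mem_sylow o.hyp o.comp S hc)
  · exact mul_mem hyT (center_mem_sylow o.hyp o.comp T hc)
  · show (w : G) * ((y * c : ↥K) : G) = ((y * c : ↥K) : G) * w
    rw [e]
    exact commute_core o.comp hzQ w.2

theorem exists_core_invol (hQ : Cfsg.pCore 2 G ≠ ⊥) : ∃ z ∈ Cfsg.pCore 2 G, z * z = 1 ∧ z ≠ 1 := by
  haveI : Fact (Nat.Prime 2) := ⟨Nat.prime_two⟩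
  obtain ⟨m, hm⟩ := IsPGroup.iff_card.1 (Cfsg.Lib.Components.isPGroup_pCore (G := G) 2)
  have hm0 : m ≠ 0 := fun e => hQ (eq_bot_of_card_eq _ (by rw [hm, e, pow_zero]))
  obtain ⟨t, ht⟩ := exists_prime_orderOf_dvd_card' (G := Cfsg.pCore 2 G) 2 (hm ▸ dvd_pow_self 2 hm0)
  refine ⟨t, t.2, ?_, fun e => ?_⟩
  · have := pow_orderOf_eq_one t
    rw [ht, pow_two] at this
    exact congrArg Subtype.val this
  · rw [show t = 1 from Subtype.ext e, orderOf_one] at ht; omega

/-- The component has a four-group. -/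
theorem concl_rank (S : Sylow 2 G) (h4 : FourIn ((S : Subgroup G) ⊓ K))
    (hnC : ∃ S T : Sylow 2 G, S ≠ T ∧ ¬ IsCyclic ↥((S : Subgroup G) ⊓ (T : Subgroup G))) : ConclA G := by
  haveI : Fact (Nat.Prime 2) := ⟨Nat.prime_two⟩
  haveI := bar_simple o.comp
  haveI := o.normal
  set Q := Cfsg.pCore 2 G with hQ
  by_cases hQb : Q = ⊥
  · -- the socle case
    have hcen : center ↥K = ⊥ := (map_eq_bot_iff_of_injective _ K.subtype_injective).1
      (le_bot_iff.1 ((center_le_core o.hyp o.comp).trans hQb.le))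
    have hlift : ∀ (U : Sylow 2 (↥K ⧸ center ↥K)) (S : Sylow 2 G) (P : Sylow 2 ↥K),
        (P : Subgroup ↥K) = (S : Subgroup G).subgroupOf K →
        (U : Subgroup (↥K ⧸ center ↥K)) = (P : Subgroup ↥K).map (QuotientGroup.mk' (center ↥K)) →
        ∀ k : ↥K, QuotientGroup.mk' (center ↥K) k ∈ (U : Subgroup (↥K ⧸ center ↥K)) ↔ (k : G) ∈ (S : Subgroup G) :=
      fun U S P hP hU k => by rw [hU]; exact mem_bar_iff o.hyp o.comp S hP k
    have hone : ∀ {k : ↥K}, QuotientGroup.mk' (center ↥K) k = 1 → k = 1 := fun {k} hk =>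
      mem_bot.1 (hcen ▸ (QuotientGroup.eq_one_iff k).1 hk)
    have huniq : Cfsg.Lib.SylowRankOne.Uniq (↥K ⧸ center ↥K) := by
      intro V U W a b ha ha1 hb2 hb1 hne hc haU hbU haW hbW
      obtain ⟨S₁, P₁, hP₁, hU⟩ := exists_over o.hyp o.comp U
      obtain ⟨S₂, P₂, hP₂, hW⟩ := exists_over o.hyp o.comp W
      obtain ⟨x, rfl⟩ := QuotientGroup.mk'_surjective (center ↥K) a
      obtain ⟨y, rfl⟩ := QuotientGroup.mk'_surjective (center ↥K) b
      have hS : S₁ = S₂ := o.hyp.ri S₁ S₂ ⟨y, x,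
        ⟨(hlift U S₁ P₁ hP₁ hU y).1 hbU, (hlift W S₂ P₂ hP₂ hW y).1 hbW⟩,
        ⟨(hlift U S₁ P₁ hP₁ hU x).1 haU, (hlift W S₂ P₂ hP₂ hW x).1 haW⟩,
        congrArg Subtype.val (hone (by rw [map_mul, hb2])), congrArg Subtype.val (hone (by rw [map_mul]; exact ha.2)),
        fun e => hb1 (by rw [show y = 1 from Subtype.ext e, map_one]),
        fun e => ha1 (by rw [show x = 1 from Subtype.ext e, map_one]),
        fun e => hne (by rw [show y = x from Subtype.ext e]), ?_⟩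
      · apply Sylow.ext
        rw [hU, hW, show P₁ = P₂ from Sylow.ext (by rw [hP₁, hP₂, hS])]
      · exact congrArg Subtype.val (mul_inv_eq_one.1 (hone (show QuotientGroup.mk' (center ↥K) (y * x * (x * y)⁻¹) = 1 by
          rw [map_mul, map_inv, map_mul, map_mul, hc, mul_inv_cancel])))
    have hTI : ∀ U : Sylow 2 (↥K ⧸ center ↥K), ¬ IsMulCommutative ↥(U : Subgroup (↥K ⧸ center ↥K)) →
        TI2 (↥K ⧸ center ↥K) := fun U hU => ti_of_embedded (bar_nonab o.comp)
      (Cfsg.Lib.SylowRankOne.exists_embedded Cfsg.Lib.Lyons.lyonsProp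
        (Cfsg.Lib.Walter.Consumers.elemProp_of_walter Cfsg.Lib.Walter.walterProp) _ (bar_nonab o.comp) huniq U hU)
    have hSle := o.le_of_socle S h4 hTI
    obtain ⟨U₀⟩ : Nonempty (Sylow 2 (↥K ⧸ center ↥K)) := inferInstance
    by_cases hab : IsMulCommutative ↥(U₀ : Subgroup (↥K ⧸ center ↥K))
    · -- abelian Sylow subgroups have cyclic intersections
      exfalso
      obtain ⟨S₁, T₁, hne, hnc⟩ := hnC
      obtain ⟨g, hg⟩ := MulAction.exists_smul_eq G S S₁
      have hS₁ : (S₁ : Subgroup G) ≤ K := fun x hx => by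
        rw [← hg] at hx
        have h' := hSle ((mem_smul_iff S g x).1 hx)
        rw [← hQ, hQb, sup_bot_eq] at h'
        have := o.normal.conj_mem _ h' g
        rwa [show g * (g⁻¹ * x * g) * g⁻¹ = x by group] at this
      have hD : ¬ FourIn ((S₁ : Subgroup G) ⊓ (T₁ : Subgroup G)) := fun h => hne (o.hyp.ri _ _ h)
      obtain ⟨x, hx, y, hy, -, -, -, hxy⟩ := exists_pair_four (S₁.2.to_le inf_le_left) hD hnc
      obtain ⟨P, hP⟩ := exists_sylow o.comp S₁
      set U : Sylow 2 (↥K ⧸ center ↥K) := P.mapSurjective (QuotientGroup.mk'_surjective (center ↥K))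
      have hmem : ∀ {w : G} (hw : w ∈ (S₁ : Subgroup G)), QuotientGroup.mk' (center ↥K) ⟨w, hS₁ hw⟩ ∈
          (U : Subgroup (↥K ⧸ center ↥K)) := fun {w} hw => by
        rw [Sylow.coe_mapSurjective, mem_bar_iff o.hyp o.comp S₁ hP]; exact hw
      have hc : QuotientGroup.mk' (center ↥K) ⟨x, hS₁ hx.1⟩ * QuotientGroup.mk' (center ↥K) ⟨y, hS₁ hy.1⟩ =
          QuotientGroup.mk' (center ↥K) ⟨y, hS₁ hy.1⟩ * QuotientGroup.mk' (center ↥K) ⟨x, hS₁ hx.1⟩ := by
        haveI := hab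
        have := (Sylow.equiv U U₀).injective
          (a₁ := (⟨_, hmem hx.1⟩ : ↥(U : Subgroup (↥K ⧸ center ↥K))) * ⟨_, hmem hy.1⟩)
          (a₂ := (⟨_, hmem hy.1⟩ : ↥(U : Subgroup (↥K ⧸ center ↥K))) * ⟨_, hmem hx.1⟩)
          (by rw [map_mul, map_mul]; exact mul_comm' _ _)
        exact congrArg Subtype.val this
      rw [← map_mul, ← map_mul] at hc
      exact hxy (congrArg Subtype.val (mul_inv_eq_one.1 (hone (show QuotientGroup.mk' (center ↥K)
        ((⟨x, hS₁ hx.1⟩ : ↥K) * ⟨y, hS₁ hy.1⟩ * (⟨y, hS₁ hy.1⟩ * ⟨x, hS₁ hx.1⟩)⁻¹) = 1 by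
          rw [map_mul, map_inv, hc, mul_inv_cancel]))))
    refine o.finish S hSle (fun S₁ T₁ hne x hx hxS hxT w hw => ?_) hnC
    obtain ⟨P, hP⟩ := exists_sylow o.comp S₁
    obtain ⟨R, hR⟩ := exists_sylow o.comp T₁
    have hm := hTI U₀ hab (P.mapSurjective (QuotientGroup.mk'_surjective (center ↥K)))
      (R.mapSurjective (QuotientGroup.mk'_surjective (center ↥K))) fun e => hne ?_
    · have hx1 : QuotientGroup.mk' (center ↥K) ⟨x, hx⟩ ∈ (⊥ : Subgroup (↥K ⧸ center ↥K)) := by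
        rw [← hm, mem_inf, Sylow.coe_mapSurjective, Sylow.coe_mapSurjective, mem_bar_iff o.hyp o.comp S₁ hP,
          mem_bar_iff o.hyp o.comp T₁ hR]
        exact ⟨hxS, hxT⟩
      rw [show x = 1 from congrArg Subtype.val (hone (mem_bot.1 hx1)), mul_one, one_mul]
    · have key : ∀ w : ↥K, (w : G) ∈ (S₁ : Subgroup G) ↔ (w : G) ∈ (T₁ : Subgroup G) := fun w => by
        rw [← mem_bar_iff o.hyp o.comp S₁ hP, ← mem_bar_iff o.hyp o.comp T₁ hR,
          ← Sylow.coe_mapSurjective (QuotientGroup.mk'_surjective (center ↥K)) P, e, Sylow.coe_mapSurjective]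
      ext w
      exact ⟨fun hw => ⟨(key ⟨w, hw.2⟩).1 hw.1, hw.2⟩, fun hw => ⟨(key ⟨w, hw.2⟩).2 hw.1, hw.2⟩⟩
  -- the 2-core has an involution
  obtain ⟨z, hzQ, hz2, hz1⟩ := o.exists_core_invol hQb
  have hint := o.inter_of_lift hzQ hz2 hz1 fun S₁ T₁ y hne hyS hyT hy hyc => by
    by_cases hQc : IsCyclic ↥Q
    · exact exists_lift_invol o.hyp o.comp S h4 y hy hyc
    · obtain ⟨a, ha, b, hb, -, ha1, ha2, hab⟩ :=
        exists_pair_four (Cfsg.Lib.Components.isPGroup_pCore 2) o.hyp.core_not_four hQc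
      refine ⟨1, one_mem _, ?_⟩
      rw [mul_one]
      exact Subtype.ext (sq_eq_one_of_commute (S₁.2.to_le inf_le_left) (fun h => hne (o.hyp.ri _ _ h))
        (H := (S₁ : Subgroup G) ⊓ (T₁ : Subgroup G)) ⟨Hyp.pCore_le S₁ ha, Hyp.pCore_le T₁ ha⟩
        ⟨Hyp.pCore_le S₁ hb, Hyp.pCore_le T₁ hb⟩ ⟨hyS, hyT⟩ ha1 ha2 hab (commute_core o.comp ha y.2)
        (commute_core o.comp hb y.2))
  exact o.finish S (o.le_of_socle S h4 fun _ _ => ti_bar o.hyp o.comp hint) hint hnC

/-- Quaternion Sylow subgroups of the component and an element of order four in the 2-core. -/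
theorem concl_big (S : Sylow 2 G) (h4 : ¬ FourIn ((S : Subgroup G) ⊓ K))
    (hq : ∃ q ∈ Cfsg.pCore 2 G, q * q ≠ 1)
    (hnC : ∃ S T : Sylow 2 G, S ≠ T ∧ ¬ IsCyclic ↥((S : Subgroup G) ⊓ (T : Subgroup G))) : ConclA G := by
  haveI : Fact (Nat.Prime 2) := ⟨Nat.prime_two⟩
  haveI := o.normal
  obtain ⟨z, hz2, hz1, hzK, hzQ, hzc, hzu⟩ := exists_central_invol o.hyp o.comp S h4
  obtain ⟨q, hq, hq2⟩ := hq
  obtain ⟨i, hi⟩ := exists_root (Cfsg.Lib.Components.isPGroup_pCore 2) o.hyp.core_not_four hzQ hz2 hz1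
    (fun w hw => (commute_core o.comp hw hzK).symm) hq hq2
  set a := q ^ 2 ^ i
  have haQ : a ∈ Cfsg.pCore 2 G := pow_mem hq _
  have haK : a ∉ K := fun haK => by
    rcases hzu a haK (fun k hk => commute_core o.comp haQ hk) with e | e <;> rw [e] at hi
    · exact hz1 (by rw [← hi, one_mul])
    · exact hz1 (by rw [← hi, hz2])
  -- quaternion intersections with every Sylow subgroup
  have h4' : ∀ T : Sylow 2 G, ¬ FourIn ((T : Subgroup G) ⊓ K) := by
    intro T hT
    obtain ⟨g, rfl⟩ := MulAction.exists_smul_eq G S T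
    refine h4 ((hT.map (MulAut.conj g⁻¹).toMonoidHom fun x _ e =>
      (MulAut.conj g⁻¹).injective (e.trans (map_one _).symm)).mono ?_)
    rintro _ ⟨x, hx, rfl⟩
    show g⁻¹ * x * g⁻¹⁻¹ ∈ _
    rw [inv_inv]
    refine ⟨(mem_smul_iff S g x).1 hx.1, ?_⟩
    have := o.normal.conj_mem x hx.2 g⁻¹
    rwa [inv_inv] at this
  -- two elements of order four give a four group
  have hfour : ∀ {H : Subgroup G} {b : G}, a ∈ H → b ∈ H → b ∈ K → b * b = z → FourIn H := by
    intro H b ha hb hbK hbz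
    refine fourIn_of_commute ha hb (commute_core o.comp haQ hbK).symm (hi.trans hbz.symm) (by rw [hi]; exact hz1)
      (by rw [hi]; exact hz2) (fun e => haK (e ▸ hbK)) fun e => haK ?_
    rw [hi] at e
    have := mul_mem hbK hzK
    rwa [e, mul_assoc, hz2, mul_one] at this
  have hint : ∀ S T : Sylow 2 G, (S : Subgroup G) ⊓ K ≠ (T : Subgroup G) ⊓ K →
      ∀ x ∈ K, x ∈ (S : Subgroup G) → x ∈ (T : Subgroup G) → ∀ k ∈ K, k * x = x * k := by
    intro S₁ T₁ hne x hxK hxS hxT k hk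
    have hzS : z ∈ (S₁ : Subgroup G) ⊓ K := ⟨Hyp.pCore_le S₁ hzQ, hzK⟩
    by_cases hx2 : x * x = 1
    · rcases eq_of_not_fourIn (h4' S₁) hzS hz2 hz1 ⟨hxS, hxK⟩ hx2 (hzc x hxK) with e | e <;> rw [e]
      · rw [mul_one, one_mul]
      · exact hzc k hk
    exfalso
    obtain ⟨j, hj⟩ := exists_root (S₁.2.to_le inf_le_left) (h4' S₁) hzS hz2 hz1 (fun w hw => hzc w hw.2)
      ⟨hxS, hxK⟩ hx2
    exact hne (by rw [o.hyp.ri S₁ T₁ (hfour (b := x ^ 2 ^ j) ⟨Hyp.pCore_le _ haQ, Hyp.pCore_le _ haQ⟩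
      ⟨pow_mem hxS _, pow_mem hxT _⟩ (pow_mem hxK _) hj)])
  obtain ⟨x, hx, y, -, -, hx1, hx2, -⟩ := exists_pair_four (S.2.to_le inf_le_left) h4 (inter_noncyclic o.comp S)
  have hxz : x * x = z := (eq_of_not_fourIn h4 ⟨Hyp.pCore_le S hzQ, hzK⟩ hz2 hz1 (mul_mem hx hx) hx2
    (hzc _ (mul_mem hx.2 hx.2))).resolve_left hx1
  have hC := o.inter_cent S (hfour (mem_sup_right haQ) (mem_sup_left hx) hx.2 hxz)
  obtain ⟨-, hab⟩ := sl_two_five o.hyp o.comp S h4 hint
  obtain ⟨P, hP⟩ := exists_sylow o.comp S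
  refine o.finish S (fun g hg => ?_) hint hnC
  obtain ⟨k, hk, hc⟩ := inner_of_comm o.hyp o.comp S hP (hab P) hg (normalizer_eq_top (H := K) ▸ mem_top g)
    fun n hn => by
      have hzS := Hyp.pCore_le S hzQ
      have hxa : x * a = a * x := commute_core o.comp haQ hx.2
      have hnS : (n : G) ∈ normalizer ((S : Subgroup G) : Set G) := by
        have hxnS : (n : G) * x * (n : G)⁻¹ ∈ (S : Subgroup G) := hn ⟨x, hx.2⟩ hx.1
        refine o.hyp.ri.mem_normalizer (u := x * a) (v := z) (mul_mem hx.1 (Hyp.pCore_le S haQ)) hzS ?_ hz2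
          (fun e => haK ?_) hz1 (fun e => haK ?_) ?_ ?_ (by rwa [hzc n n.2, mul_inv_cancel_right])
        · rw [show x * a * (x * a) = x * (a * x) * a by group, ← hxa, show x * (x * a) * a = x * x * (a * a) by group,
            hxz, hi, hz2]
        · rw [eq_inv_of_mul_eq_one_right e]; exact inv_mem hx.2
        · rw [show a = x⁻¹ * z by rw [← e, inv_mul_cancel_left]]; exact mul_mem (inv_mem hx.2) hzK
        · rw [mul_assoc, ← (show Commute z a from commute_core o.comp haQ hzK).eq, ← mul_assoc, hzc x hx.2, mul_assoc]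
        · rw [show (n : G) * (x * a) * (n : G)⁻¹ = (n : G) * x * (a * (n : G)⁻¹) by group,
            ← ((show Commute (n : G) a from commute_core o.comp haQ n.2).inv_left).eq, ← mul_assoc]
          exact mul_mem hxnS (Hyp.pCore_le S haQ)
      rw [show g * (n : G) * g⁻¹ * (n : G)⁻¹ = g * ((n : G) * g⁻¹ * (n : G)⁻¹) by group]
      exact (S : Subgroup G).mul_mem hg ((mem_normalizer_iff.1 hnS g⁻¹).1 ((S : Subgroup G).inv_mem hg))
  exact o.mem_sup_core S hC hg hk hc

end One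

end Cfsg.Lib.RankOneInter
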