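import Cfsg.Agent.RankOneInter.Bar
import Cfsg.Agent.S3378

/-!
A component with quaternion Sylow 2-subgroups meeting only in its centre is `SL(2, 5)` (row 3310).
-/

set_option autoImplicit false
set_option linter.unusedSectionVars false
set_option linter.style.haveILetI false

namespace Cfsg.Lib.RankOneInter

open Subgroup Cfsg.Lib.CyclicInter

universe u

/-- Two involutions in the centre of a dihedral group force the order four. -/
theorem dihedral_two {m : ℕ} (hm : 2 ≤ m) {u v : DihedralGroup m} (hu : ∀ x, u * x = x * u)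
    (hv : ∀ x, v * x = x * v) (hu2 : u * u = 1) (hv2 : v * v = 1) (hu1 : u ≠ 1) (hv1 : v ≠ 1) (hne : u ≠ v) :
    m = 2 := by
  by_contra hm2
  haveI : NeZero m := ⟨by omega⟩
  have h2 : (2 : ZMod m) ≠ 0 := by
    intro e
    have : ((2 : ℕ) : ZMod m) = 0 := by exact_mod_cast e
    have := Nat.le_of_dvd two_pos ((ZMod.natCast_eq_zero_iff _ _).1 this)
    omega
  have key : ∀ w : DihedralGroup m, (∀ x, w * x = x * w) → w * w = 1 → w ≠ 1 →
      ∃ i : ZMod m, w = DihedralGroup.r i ∧ i + i = 0 ∧ i ≠ 0 := by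
    intro w hw hw2 hw1
    cases w with
    | r i =>
      refine ⟨i, rfl, ?_, fun e => hw1 (by rw [e, DihedralGroup.one_def])⟩
      have e := hw2
      rw [DihedralGroup.r_mul_r, DihedralGroup.one_def] at e
      exact DihedralGroup.r.inj e
    | sr i =>
      exfalso
      have e := hw (DihedralGroup.r 1)
      rw [DihedralGroup.sr_mul_r, DihedralGroup.r_mul_sr] at e
      have e' := DihedralGroup.sr.inj e
      refine h2 ?_
      calc (2 : ZMod m) = i + 1 - (i - 1) := by ring
        _ = 0 := by rw [← e', sub_self]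
  obtain ⟨i, rfl, hi, hi0⟩ := key u hu hu2 hu1
  obtain ⟨j, rfl, hj, hj0⟩ := key v hv hv2 hv1
  refine hne (congrArg DihedralGroup.r ?_)
  -- only one element of order two in a cyclic group
  have hval : ∀ k : ZMod m, k + k = 0 → k ≠ 0 → 2 * k.val = m := by
    intro k hk hk0
    have h1 : ((k.val + k.val : ℕ) : ZMod m) = 0 := by
      push_cast
      rw [ZMod.natCast_zmod_val]
      exact hk
    obtain ⟨c, hc⟩ := (ZMod.natCast_eq_zero_iff _ _).1 h1
    have hlt := k.val_lt
    have hpos : 0 < k.val := Nat.pos_of_ne_zero fun e => hk0 ((ZMod.val_eq_zero k).1 e)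
    rcases c with _ | _ | c
    · omega
    · omega
    · have : 2 * m ≤ m * (c + 1 + 1) := by nlinarith
      omega
  exact ZMod.val_injective m (by have := hval i hi hi0; have := hval j hj hj0; omega)

variable {G : Type u} [Group G] [Finite G] {K : Subgroup G}

theorem sl_two_five (h : Hyp G) (hK : Cfsg.IsComponent K) (S : Sylow 2 G) (h4 : ¬ FourIn ((S : Subgroup G) ⊓ K))
    (hint : ∀ S T : Sylow 2 G, (S : Subgroup G) ⊓ K ≠ (T : Subgroup G) ⊓ K →
      ∀ x ∈ K, x ∈ (S : Subgroup G) → x ∈ (T : Subgroup G) → ∀ k ∈ K, k * x = x * k) :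
    Nonempty (↥K ≃* Matrix.SpecialLinearGroup (Fin 2) (ZMod 5)) ∧
      ∀ P : Sylow 2 ↥K, ∀ x ∈ (P : Subgroup ↥K).map (QuotientGroup.mk' (center ↥K)), x * x = 1 := by
  haveI : Fact (Nat.Prime 2) := ⟨Nat.prime_two⟩
  haveI := bar_simple hK
  have hna := bar_nonab hK
  have hti := ti_bar h hK hint
  obtain ⟨P, hP⟩ := exists_sylow hK S
  rcases cyclic_or_quaternion (S.2.to_le inf_le_left) h4 with hc | ⟨n, ⟨e⟩⟩
  · exact absurd hc (inter_noncyclic hK S)
  let e' : ↥(P : Subgroup ↥K) ≃* QuaternionGroup (2 ^ (n + 1)) :=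
    (((P : Subgroup ↥K).equivMapOfInjective _ K.subtype_injective).trans
      (MulEquiv.subgroupCongr (map_sylow S hP))).trans e
  obtain ⟨hZ, -, ⟨d⟩⟩ := Cfsg.Lib.GWD.quaternion_quot P n e' (noOdd_component h hK)
  set U : Sylow 2 (↥K ⧸ center ↥K) := P.mapSurjective (QuotientGroup.mk'_surjective (center ↥K)) with hU
  obtain ⟨u, v, hu, hv, huo, hvo, huv, huc, hvc⟩ := exists_central_pair hna hti U
  have hm : (2 : ℕ) ^ (n + 1) = 2 := by
    have hsq : ∀ {a : ↥K ⧸ center ↥K}, orderOf a = 2 → a * a = 1 := fun {a} ha => by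
      rw [← pow_two, ← ha, pow_orderOf_eq_one]
    have hne1 : ∀ {a : ↥K ⧸ center ↥K}, orderOf a = 2 → a ≠ 1 := fun {a} ha e => by
      rw [e, orderOf_one] at ha; omega
    refine dihedral_two (u := d ⟨u, hu⟩) (v := d ⟨v, hv⟩) (Nat.le_self_pow n.succ_ne_zero 2) ?_ ?_ ?_ ?_ ?_ ?_ ?_
    · intro x
      obtain ⟨w, rfl⟩ := d.surjective x
      rw [← map_mul, ← map_mul]
      exact congrArg d (Subtype.ext (huc w w.2))
    · intro x
      obtain ⟨w, rfl⟩ := d.surjective x
      rw [← map_mul, ← map_mul]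
      exact congrArg d (Subtype.ext (hvc w w.2))
    · rw [← map_mul, show (⟨u, hu⟩ * ⟨u, hu⟩ : ↥(U : Subgroup (↥K ⧸ center ↥K))) = 1 from Subtype.ext (hsq huo), map_one]
    · rw [← map_mul, show (⟨v, hv⟩ * ⟨v, hv⟩ : ↥(U : Subgroup (↥K ⧸ center ↥K))) = 1 from Subtype.ext (hsq hvo), map_one]
    · exact fun e => hne1 huo (congrArg Subtype.val (d.injective (e.trans (map_one d).symm)))
    · exact fun e => hne1 hvo (congrArg Subtype.val (d.injective (e.trans (map_one d).symm)))
    · exact fun e => huv (congrArg Subtype.val (d.injective e))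
  have h4' : Nat.card ↥(U : Subgroup (↥K ⧸ center ↥K)) = 4 := by
    rw [Nat.card_congr d.toEquiv, DihedralGroup.nat_card, hm]
  have hsqU : ∀ x ∈ (U : Subgroup (↥K ⧸ center ↥K)), x * x = 1 := by
    intro x hx
    have key : ∀ w : DihedralGroup (2 ^ (n + 1)), w * w = 1 := by rw [hm]; decide
    exact congrArg Subtype.val (d.injective (by rw [map_mul, map_one]; exact key _) :
      (⟨x, hx⟩ * ⟨x, hx⟩ : ↥(U : Subgroup (↥K ⧸ center ↥K))) = 1)
  obtain ⟨f⟩ := a5_of_ti_four hna hti U h4' hsqU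
  have h120 : Nat.card ↥K = 120 := by
    have h60 : Nat.card (↥K ⧸ center ↥K) = 60 := by
      rw [Nat.card_congr f.toEquiv, nat_card_alternatingGroup]
      norm_num [Nat.factorial]
    rw [Subgroup.card_eq_card_quotient_mul_card_subgroup (center ↥K), hZ, h60]
  have hn : n = 0 := by
    rcases n with _ | n
    · rfl
    · exfalso
      rw [pow_succ, pow_succ] at hm
      have := Nat.two_pow_pos n
      omega
  subst hn
  refine ⟨Cfsg.Agent.S3378.result.1 ↥K h120 (Cfsg.Lib.Components.comp_not_isSolvable hK)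
    (fun R => ⟨((Sylow.equiv R P).trans e')⟩), fun R x hx => ?_⟩
  exact Cfsg.Lib.Walter.Consumers.sylow_sq_of_one U hsqU
    (R.mapSurjective (QuotientGroup.mk'_surjective (center ↥K))) x hx

end Cfsg.Lib.RankOneInter
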