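import Cfsg.Agent.RankOneInter.Basic
import Cfsg.Agent.Components.Structure
import Cfsg.Agent.GWDihedral.Consumers.QGroup.Quotient
import Cfsg.Agent.SolvStruct.Zassenhaus.RegularCore
import Cfsg.Agent.Fusion.CyclicIndexTwoAut
import Cfsg.Agent.PGroups.AutCyclicIndexTwo
import Cfsg.Agent.S0542
import Cfsg.Agent.S3304
import Cfsg.Agent.CpQuot.Base

/-!
Nonsolvable groups without odd core in which two Sylow 2-subgroups share no four-group (row 3310): the 2-core
and the components.
-/

set_option autoImplicit false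
set_option linter.unusedSectionVars false
set_option linter.style.haveILetI false

namespace Cfsg.Lib.RankOneInter

open Subgroup Cfsg.Lib.CyclicInter
open scoped Pointwise

universe u

variable {G : Type u} [Group G] [Finite G]

/-- The standing hypotheses. -/
structure Hyp (G : Type u) [Group G] : Prop where
  ri : RI G
  core : Cfsg.pPrimeCore 2 G = ⊥
  nonsol : ¬ Group.IsSolvable G

theorem Hyp.pCore_le (S : Sylow 2 G) : Cfsg.pCore 2 G ≤ (S : Subgroup G) := fun x hx =>
  mem_of_normal (V := Cfsg.pCore 2 G) (Cfsg.Lib.Components.isPGroup_pCore 2) S hx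

theorem Hyp.core_not_four (h : Hyp G) : ¬ FourIn (Cfsg.pCore 2 G) := by
  obtain ⟨S⟩ : Nonempty (Sylow 2 G) := inferInstance
  obtain ⟨T, hT⟩ := CyclicInter.exists_ne h.nonsol S
  exact fun h4 => hT (h.ri T S (h4.mono (le_inf (Hyp.pCore_le T) (Hyp.pCore_le S))))

theorem Hyp.fitting_eq (h : Hyp G) : Cfsg.fittingSubgroup G = Cfsg.pCore 2 G := by
  haveI : Fact (Nat.Prime 2) := ⟨Nat.prime_two⟩
  refine le_antisymm ?_ (Cfsg.Lib.Components.le_fitting (Cfsg.Lib.Components.isPGroup_pCore 2).isNilpotent)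
  rw [Cfsg.Lib.Components.fitting_eq_iSup_pCore]
  refine iSup_le fun ⟨p, hp⟩ => ?_
  rcases eq_or_ne p 2 with rfl | hp2
  · exact le_rfl
  · haveI := Fact.mk hp
    refine le_trans ?_ (bot_le (a := Cfsg.pCore 2 G))
    rw [← h.core]
    refine Cfsg.Lib.Components.le_pPrimeCore ?_
    obtain ⟨k, hk⟩ := IsPGroup.iff_card.1 (Cfsg.Lib.Components.isPGroup_pCore (G := G) p)
    show (Nat.card ↥(Cfsg.pCore p G)).Coprime 2
    rw [hk]
    exact ((Nat.coprime_primes hp Nat.prime_two).2 hp2).pow_left k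

/-- Some component exists. -/
theorem Hyp.exists_component (h : Hyp G) : ∃ K : Subgroup G, Cfsg.IsComponent K := by
  haveI : Fact (Nat.Prime 2) := ⟨Nat.prime_two⟩
  by_contra hno
  push Not at hno
  have hl : Cfsg.layer G = ⊥ := by
    refine le_bot_iff.1 (sSup_le fun K hK => absurd hK (hno K))
  set Q := Cfsg.pCore 2 G with hQ
  have hcQ : centralizer (Q : Set G) ≤ Q := by
    rw [hQ, ← h.fitting_eq]
    exact Cfsg.Lib.Components.centralizer_fitting_le_iff.2 hl
  have hQ2 : IsPGroup 2 ↥Q := Cfsg.Lib.Components.isPGroup_pCore 2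
  have hnorm : IsPGroup 2 (MulAut ↥Q) → False := fun hA => by
    obtain ⟨P, hP⟩ := Cfsg.Agent.S3304.normal_sylow_of_aut (R := Q) hcQ hQ2 hA
    obtain ⟨T, hT⟩ := CyclicInter.exists_ne h.nonsol P
    haveI := Sylow.unique_of_normal P hP
    exact hT (Subsingleton.elim _ _)
  rcases cyclic_or_quaternion hQ2 h.core_not_four with hc | ⟨n, ⟨e⟩⟩
  · haveI := hc
    exact hnorm (Cfsg.Lib.AutCyclicIndexTwo.aut_two_group_of_cyclic hQ2)
  rcases n with _ | n
  · refine h.nonsol ?_
    let φ : G →* MulAut ↥Q := MulAut.conjNormal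
    haveI : Finite (MulAut ↥Q) := Finite.of_injective (fun a : MulAut ↥Q => (a : ↥Q → ↥Q))
      fun a b h => MulEquiv.ext (congrFun h)
    haveI : Group.IsSolvable (MulAut ↥Q) := Cfsg.Lib.GenDihedral.solvable_small
      (lt_of_le_of_lt (Cfsg.Lib.SolvStruct.Zassenhaus.card_aut_q8 e) (by norm_num))
    haveI : Group.IsSolvable ↥Q := by
      haveI := hQ2.isNilpotent
      infer_instance
    refine Group.isSolvable_of_ker_le_range Q.subtype φ fun g hg => ?_
    rw [range_subtype]
    refine hcQ (mem_centralizer_iff.2 fun y hy => ?_)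
    have h1 := congrArg Subtype.val (DFunLike.congr_fun (MonoidHom.mem_ker.1 hg) (⟨y, hy⟩ : ↥Q))
    simp only [φ, MulAut.conjNormal_apply, MulAut.one_apply] at h1
    exact (mul_inv_eq_iff_eq_mul.1 h1).symm
  · exact hnorm ((Cfsg.Lib.Fusion.isPGroup_mulAut_quaternion (n := n + 2) (by omega)).of_equiv
      (MulAut.congr e.symm))

section Component

variable {K : Subgroup G}

theorem commute_core (hK : Cfsg.IsComponent K) {x k : G} (hx : x ∈ Cfsg.pCore 2 G) (hk : k ∈ K) :
    k * x = x * k :=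
  haveI : Fact (Nat.Prime 2) := ⟨Nat.prime_two⟩
  (Cfsg.Lib.Components.commute_of_commutator_eq_bot Cfsg.Lib.Components.layer_commute_fitting
    (Cfsg.Lib.Components.comp_le_layer hK hk)
    (Cfsg.Lib.Components.le_fitting (Cfsg.Lib.Components.isPGroup_pCore 2).isNilpotent hx))

theorem exists_sylow (hK : Cfsg.IsComponent K) (S : Sylow 2 G) :
    ∃ P : Sylow 2 ↥K, (P : Subgroup ↥K) = (S : Subgroup G).subgroupOf K :=
  haveI : Fact (Nat.Prime 2) := ⟨Nat.prime_two⟩
  Cfsg.Agent.S0542.result 2 K hK.1 S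

theorem map_sylow (S : Sylow 2 G) {P : Sylow 2 ↥K} (hP : (P : Subgroup ↥K) = (S : Subgroup G).subgroupOf K) :
    (P : Subgroup ↥K).map K.subtype = (S : Subgroup G) ⊓ K := by
  rw [hP, subgroupOf_map_subtype]

/-- The Sylow subgroups of a component are not cyclic. -/
theorem inter_noncyclic (hK : Cfsg.IsComponent K) (S : Sylow 2 G) : ¬ IsCyclic ↥((S : Subgroup G) ⊓ K) := by
  intro hc
  obtain ⟨P, hP⟩ := exists_sylow hK S
  haveI := hc
  refine Cfsg.Lib.Components.comp_not_isSolvable hK (solvable_of_cyclic P ?_)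
  let e : ↥(P : Subgroup ↥K) ≃* ↥((S : Subgroup G) ⊓ K) :=
    ((P : Subgroup ↥K).equivMapOfInjective _ K.subtype_injective).trans (MulEquiv.subgroupCongr (map_sylow S hP))
  exact isCyclic_of_surjective e.symm.toMonoidHom e.symm.surjective

/-- Another Sylow subgroup meets the component differently. -/
theorem exists_moved (hK : Cfsg.IsComponent K) (S : Sylow 2 G) :
    ∃ k ∈ K, (S : Subgroup G) ⊓ K ≠ ((k • S : Sylow 2 G) : Subgroup G) ⊓ K := by
  haveI : Fact (Nat.Prime 2) := ⟨Nat.prime_two⟩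
  obtain ⟨P, hP⟩ := exists_sylow hK S
  obtain ⟨T, hT⟩ := CyclicInter.exists_ne (Cfsg.Lib.Components.comp_not_isSolvable hK) P
  obtain ⟨k, rfl⟩ := MulAction.exists_smul_eq ↥K P T
  refine ⟨k, k.2, fun e => hT (Sylow.ext ?_)⟩
  apply map_injective K.subtype_injective
  rw [map_sylow S hP, Sylow.coe_subgroup_smul]
  ext x
  constructor
  · rintro ⟨_, ⟨y, hy, rfl⟩, rfl⟩
    rw [e]
    exact mem_inf.2 ⟨conj_mem_smul S _ _ (mem_subgroupOf.1 (hP ▸ hy)), (k * y * k⁻¹ : ↥K).2⟩
  · intro hx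
    rw [e] at hx
    obtain ⟨hx1, hx2⟩ := mem_inf.1 hx
    exact ⟨⟨x, hx2⟩, ⟨k⁻¹ * ⟨x, hx2⟩ * k, hP ▸ mem_subgroupOf.2 ((mem_smul_iff S _ x).1 hx1),
      show k * (k⁻¹ * ⟨x, hx2⟩ * k) * k⁻¹ = (⟨x, hx2⟩ : ↥K) by group⟩, rfl⟩

theorem noOdd_component (h : Hyp G) (hK : Cfsg.IsComponent K) : Cfsg.Lib.GenDihedral.NoOdd ↥K := by
  intro N hN ho
  haveI := hN
  by_contra hne
  have hsn : (N.map K.subtype).IsSubnormal :=
    Cfsg.Lib.Components.isSubnormal_map_subtype hK.1 hN.isSubnormal
  have hle : N ≤ center ↥K := by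
    refine Cfsg.Lib.CpQuot.le_center hK.2 fun e => ?_
    refine Cfsg.Lib.Components.comp_not_isSolvable hK ?_
    have : Odd (Nat.card ↥K) := by rwa [e, card_top] at ho
    exact Cfsg.Agent.PF.isSolvable_of_odd _ this
  haveI : IsMulCommutative ↥N := Cfsg.Lib.Components.isMulCommutative_of_le_center hle
  have hnil : Group.IsNilpotent ↥(N.map K.subtype) := by
    letI : CommGroup ↥N := { (inferInstance : Group ↥N) with mul_comm := fun a b => mul_comm' a b }
    exact Cfsg.Lib.Components.isNilpotent_map inferInstance K.subtype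
  have hF := Cfsg.Lib.Components.le_fitting_of_subnormal hsn hnil
  rw [h.fitting_eq] at hF
  have h2 : IsPGroup 2 ↥(N.map K.subtype) := (Cfsg.Lib.Components.isPGroup_pCore 2).to_le hF
  refine hne ((map_eq_bot_iff_of_injective _ K.subtype_injective).1 ((eq_bot_iff_forall _).2 fun x hx => ?_))
  exact eq_one_of_odd h2 (by rwa [card_map_of_injective K.subtype_injective]) hx hx

/-- The centre of a component lies in the 2-core. -/
theorem center_le_core (h : Hyp G) (hK : Cfsg.IsComponent K) : (center ↥K).map K.subtype ≤ Cfsg.pCore 2 G := by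
  rw [← h.fitting_eq]
  refine Cfsg.Lib.Components.le_fitting_of_subnormal
    (Cfsg.Lib.Components.isSubnormal_map_subtype hK.1 (inferInstance : (center ↥K).Normal).isSubnormal) ?_
  haveI : IsMulCommutative ↥(center ↥K) := Cfsg.Lib.Components.isMulCommutative_of_le_center le_rfl
  letI : CommGroup ↥(center ↥K) := { (inferInstance : Group ↥(center ↥K)) with mul_comm := fun a b => mul_comm' a b }
  exact Cfsg.Lib.Components.isNilpotent_map inferInstance K.subtype

/-- A component with quaternion Sylow 2-subgroups has a central involution, the only one of the component. -/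
theorem exists_central_invol (h : Hyp G) (hK : Cfsg.IsComponent K) (S : Sylow 2 G)
    (h4 : ¬ FourIn ((S : Subgroup G) ⊓ K)) :
    ∃ z : G, z * z = 1 ∧ z ≠ 1 ∧ z ∈ K ∧ z ∈ Cfsg.pCore 2 G ∧ (∀ k ∈ K, k * z = z * k) ∧
      (∀ x : G, x ∈ K → (∀ k ∈ K, k * x = x * k) → x = 1 ∨ x = z) := by
  classical
  haveI : Fact (Nat.Prime 2) := ⟨Nat.prime_two⟩
  obtain ⟨P, hP⟩ := exists_sylow hK S
  rcases cyclic_or_quaternion (S.2.to_le inf_le_left) h4 with hc | ⟨n, ⟨e⟩⟩
  · exact absurd hc (inter_noncyclic hK S)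
  let e' : ↥(P : Subgroup ↥K) ≃* QuaternionGroup (2 ^ (n + 1)) :=
    (((P : Subgroup ↥K).equivMapOfInjective _ K.subtype_injective).trans
      (MulEquiv.subgroupCongr (map_sylow S hP))).trans e
  have hZ := (Cfsg.Lib.GWD.quaternion_quot P n e' (noOdd_component h hK)).1
  obtain ⟨c, d, hcd, hall⟩ := Nat.card_eq_two_iff.1 hZ
  obtain ⟨z, hz1⟩ : ∃ z : center ↥K, z ≠ 1 := by
    by_cases e1 : c = 1
    · exact ⟨d, fun e2 => hcd (e1.trans e2.symm)⟩
    · exact ⟨c, e1⟩
  have hor : ∀ x : center ↥K, x = 1 ∨ x = z := by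
    intro x
    have h' : ∀ y : center ↥K, y = c ∨ y = d := fun y => by
      have := Set.mem_univ y; rw [← hall] at this; simpa using this
    rcases h' x with rfl | rfl <;> rcases h' 1 with e1 | e1 <;> rcases h' z with rfl | rfl <;>
      first | exact Or.inl e1.symm | exact Or.inr rfl | exact absurd e1.symm hz1
  refine ⟨((z : ↥K) : G), ?_, ?_, (z : ↥K).2, center_le_core h hK (mem_map_of_mem _ z.2), ?_, ?_⟩
  · rcases hor (z * z) with e1 | e1
    · exact congrArg (fun x : center ↥K => ((x : ↥K) : G)) e1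
    · exact absurd (mul_eq_left.1 e1) hz1
  · exact fun e1 => hz1 (Subtype.ext (Subtype.ext e1))
  · exact fun k hk => congrArg Subtype.val (mem_center_iff.1 z.2 ⟨k, hk⟩)
  · intro x hx hxc
    rcases hor ⟨⟨x, hx⟩, mem_center_iff.2 fun k => Subtype.ext (hxc k k.2)⟩ with e1 | e1
    · exact Or.inl (congrArg (fun y : center ↥K => ((y : ↥K) : G)) e1)
    · exact Or.inr (congrArg (fun y : center ↥K => ((y : ↥K) : G)) e1)

end Component

end Cfsg.Lib.RankOneInter
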