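import Cfsg.Agent.RankOneInter.SLTwo
import Cfsg.Agent.GWFour.Consumers.DoubleCover

/-!
Two components (row 3310): two copies of `SL(2, 5)` with amalgamated centres.
-/

set_option autoImplicit false
set_option linter.unusedSectionVars false
set_option linter.style.haveILetI false

namespace Cfsg.Lib.RankOneInter

open Subgroup Cfsg.Lib.CyclicInter
open scoped Pointwise

universe u

local notation "SL₅" => Matrix.SpecialLinearGroup (Fin 2) (ZMod 5)

/-- The second case of the conclusion. -/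
def ConclB (G : Type u) [Group G] : Prop :=
  ∃ (G₁ : Subgroup G) (_ : G₁.Normal), (Odd G₁.index ∨ ∃ k : ℕ, Odd k ∧ G₁.index = 2 * k) ∧
    ∃ (Z : Subgroup (SL₅ × SL₅)) (_ : Z.Normal),
      Z = Subgroup.zpowers ((-1 : SL₅), (-1 : SL₅)) ∧ Nonempty (↥G₁ ≃* (SL₅ × SL₅) ⧸ Z)

variable {G : Type u} [Group G] [Finite G]

/-- An element of a group without four-groups has a power squaring to the central involution. -/
theorem exists_root {H : Subgroup G} (hH : IsPGroup 2 ↥H) (h : ¬ FourIn H) {z x : G} (hz : z ∈ H) (hz2 : z * z = 1)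
    (hz1 : z ≠ 1) (hzc : ∀ w ∈ H, w * z = z * w) (hx : x ∈ H) (hx2 : x * x ≠ 1) :
    ∃ l : ℕ, x ^ 2 ^ l * x ^ 2 ^ l = z := by
  classical
  obtain ⟨k, hk⟩ := hH ⟨x, hx⟩
  replace hk : x ^ 2 ^ k = 1 := congrArg Subtype.val hk
  have hex : ∃ j, x ^ 2 ^ j = 1 := ⟨k, hk⟩
  have h2 : 2 ≤ Nat.find hex := by
    by_contra hlt
    have h0 := Nat.find_spec hex
    rcases (show Nat.find hex = 0 ∨ Nat.find hex = 1 by omega) with e | e <;> rw [e] at h0
    · rw [pow_zero, pow_one] at h0; exact hx2 (by rw [h0, one_mul])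
    · rw [pow_one, pow_two] at h0; exact hx2 h0
  obtain ⟨l, hl⟩ : ∃ l, Nat.find hex = l + 2 := ⟨_, (Nat.sub_add_cancel h2).symm⟩
  refine ⟨l, ?_⟩
  have h1 : x ^ 2 ^ l * x ^ 2 ^ l = x ^ 2 ^ (l + 1) := by rw [← pow_add, ← two_mul, ← pow_succ']
  rw [h1]
  have hm : x ^ 2 ^ (l + 1) ∈ H := pow_mem hx _
  refine (eq_of_not_fourIn h hz hz2 hz1 hm ?_ (hzc _ hm)).resolve_left (Nat.find_min hex (by omega))
  rw [← pow_add, ← two_mul, ← pow_succ', ← hl]
  exact Nat.find_spec hex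

section Components

variable {L M : Subgroup G}

theorem comm_of_ne (hL : Cfsg.IsComponent L) (hM : Cfsg.IsComponent M) (hne : L ≠ M) {a b : G} (ha : a ∈ L)
    (hb : b ∈ M) : a * b = b * a :=
  (Cfsg.Lib.Components.commute_of_commutator_eq_bot (Cfsg.Lib.Components.comp_commute hL hM hne) ha hb)

/-- Conjugates by one component keep the Sylow subgroup of another. -/
theorem shared (hL : Cfsg.IsComponent L) (hM : Cfsg.IsComponent M) (hne : L ≠ M) (S : Sylow 2 G) {k : G} (hk : k ∈ L) :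
    (S : Subgroup G) ⊓ M ≤ ((k • S : Sylow 2 G) : Subgroup G) := by
  intro x hx
  refine (mem_smul_iff S k x).2 ?_
  rw [mul_assoc, ← comm_of_ne hL hM hne hk hx.2, inv_mul_cancel_left]
  exact hx.1

variable (h : Hyp G)
include h

theorem not_four (hL : Cfsg.IsComponent L) (hM : Cfsg.IsComponent M) (hne : L ≠ M) (S : Sylow 2 G) :
    ¬ FourIn ((S : Subgroup G) ⊓ M) := by
  intro h4
  obtain ⟨k, hk, hmov⟩ := exists_moved hL S
  exact hmov (by rw [← h.ri S (k • S) (h4.mono (le_inf inf_le_left (shared hL hM hne S hk)))])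

/-- The data of a component in the presence of another one. -/
theorem exists_z (hL : Cfsg.IsComponent L) (hM : Cfsg.IsComponent M) (hne : L ≠ M) (S : Sylow 2 G) :
    ∃ z : G, z * z = 1 ∧ z ≠ 1 ∧ z ∈ L ∧ z ∈ M ∧ z ∈ Cfsg.pCore 2 G ∧ (∀ k ∈ L, k * z = z * k) ∧
      (∀ k ∈ M, k * z = z * k) ∧
      (∀ x : G, x ∈ L → (∀ k ∈ L, k * x = x * k) → x = 1 ∨ x = z) ∧
      (∀ x : G, x ∈ M → (∀ k ∈ M, k * x = x * k) → x = 1 ∨ x = z) := by
  obtain ⟨z, hz2, hz1, hzL, hzQ, hzc, hzu⟩ := exists_central_invol h hL S (not_four h hM hL hne.symm S)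
  obtain ⟨w, hw2, hw1, hwM, hwQ, hwc, hwu⟩ := exists_central_invol h hM S (not_four h hL hM hne S)
  have e : w = z := (eq_of_not_fourIn h.core_not_four hzQ hz2 hz1 hwQ hw2 (commute_core hM hzQ hwM)).resolve_left hw1
  subst e
  exact ⟨w, hw2, hw1, hzL, hwM, hwQ, hzc, hwc, hzu, hwu⟩

/-- The Sylow subgroups of a component meet in its centre. -/
theorem inter_central (hL : Cfsg.IsComponent L) (hM : Cfsg.IsComponent M) (hne : L ≠ M) :
    ∀ S T : Sylow 2 G, (S : Subgroup G) ⊓ M ≠ (T : Subgroup G) ⊓ M →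
      ∀ x ∈ M, x ∈ (S : Subgroup G) → x ∈ (T : Subgroup G) → ∀ k ∈ M, k * x = x * k := by
  haveI : Fact (Nat.Prime 2) := ⟨Nat.prime_two⟩
  intro S T hST x hxM hxS hxT
  obtain ⟨z, hz2, hz1, hzL, hzM, hzQ, hzcL, hzcM, -, -⟩ := exists_z h hL hM hne S
  have hMS := not_four h hL hM hne S
  have hzS : z ∈ (S : Subgroup G) ⊓ M := ⟨Hyp.pCore_le S hzQ, hzM⟩
  by_cases hx2 : x * x = 1
  · rcases eq_of_not_fourIn hMS hzS hz2 hz1 ⟨hxS, hxM⟩ hx2 (hzcM x hxM) with e | e <;> intro k hk <;> rw [e]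
    · rw [mul_one, one_mul]
    · exact hzcM k hk
  -- a common Sylow subgroup of the other component
  exfalso
  obtain ⟨P, hP⟩ := exists_sylow hL S
  obtain ⟨R, hR⟩ := exists_sylow hL T
  obtain ⟨l, hl⟩ := MulAction.exists_smul_eq ↥L R P
  have hxT' : x ∈ ((((l : G)) • T : Sylow 2 G) : Subgroup G) := shared hL hM hne T l.2 ⟨hxT, hxM⟩
  have hPT : (S : Subgroup G) ⊓ L ≤ ((((l : G)) • T : Sylow 2 G) : Subgroup G) := by
    intro y hy
    have hyP : (⟨y, hy.2⟩ : ↥L) ∈ (P : Subgroup ↥L) := hP ▸ mem_subgroupOf.2 hy.1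
    rw [← hl] at hyP
    have := (mem_smul_iff R l (⟨y, hy.2⟩ : ↥L)).1 hyP
    have h' : l⁻¹ * ⟨y, hy.2⟩ * l ∈ (R : Subgroup ↥L) := this
    rw [hR, mem_subgroupOf] at h'
    exact (mem_smul_iff T _ y).2 h'
  have hTM : ((((l : G)) • T : Sylow 2 G) : Subgroup G) ⊓ M = (T : Subgroup G) ⊓ M := by
    refine le_antisymm (fun y hy => ⟨?_, hy.2⟩) fun y hy => ⟨shared hL hM hne T l.2 hy, hy.2⟩
    have := (mem_smul_iff T _ y).1 hy.1
    rwa [mul_assoc, ← comm_of_ne hL hM hne l.2 hy.2, inv_mul_cancel_left] at this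
  obtain ⟨j, hj⟩ := exists_root (S.2.to_le inf_le_left) hMS hzS hz2 hz1 (fun w hw => hzcM w hw.2) ⟨hxS, hxM⟩ hx2
  have h4 : FourIn (zpowers x ⊔ ((S : Subgroup G) ⊓ L)) := fourIn_sup
    (fun a ha b hb => (comm_of_ne hL hM hne hb.2 (zpowers_le.2 hxM ha)).symm)
    (S.2.to_le inf_le_left) (not_four h hM hL hne.symm S) (inter_noncyclic hL S) (pow_mem (mem_zpowers x) _)
    (hj ▸ mul_mem (pow_mem (mem_zpowers x) _) (pow_mem (mem_zpowers x) _)) ⟨hzS.1, hzL⟩ hz2 hz1 hj
  refine hST ?_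
  rw [← hTM, ← h.ri S ((l : G) • T) (h4.mono (sup_le (le_inf (zpowers_le.2 hxS) (zpowers_le.2 hxT'))
    (le_inf inf_le_left hPT)))]

/-- There are no three components. -/
theorem at_most_two {N : Subgroup G} (hL : Cfsg.IsComponent L) (hM : Cfsg.IsComponent M) (hN : Cfsg.IsComponent N)
    (hLM : L ≠ M) : N = L ∨ N = M := by
  by_contra hno
  push Not at hno
  obtain ⟨S⟩ : Nonempty (Sylow 2 G) := inferInstance
  obtain ⟨z, hz2, hz1, -, hzM, hzQ, -, hzcM, -, -⟩ := exists_z h hL hM hLM S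
  obtain ⟨w, hw2, hw1, -, hwN, hwQ, -, hwcN, -, -⟩ := exists_z h hL hN hno.1.symm S
  have e : w = z := (eq_of_not_fourIn h.core_not_four hzQ hz2 hz1 hwQ hw2 (commute_core hN hzQ hwN)).resolve_left hw1
  subst e
  have hMS := not_four h hL hM hLM S
  obtain ⟨x, hx, y, -, -, hx1, hx2, -⟩ := exists_pair_four (S.2.to_le inf_le_left) hMS (inter_noncyclic hM S)
  have e : x * x = w := (eq_of_not_fourIn hMS ⟨Hyp.pCore_le S hwQ, hzM⟩ hw2 hw1 (mul_mem hx hx) hx2
    (hzcM _ (mul_mem hx.2 hx.2))).resolve_left hx1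
  have h4 : FourIn (((S : Subgroup G) ⊓ M) ⊔ ((S : Subgroup G) ⊓ N)) := fourIn_sup
    (fun a ha b hb => comm_of_ne hM hN hno.2.symm ha.2 hb.2) (S.2.to_le inf_le_left)
    (not_four h hL hN hno.1.symm S) (inter_noncyclic hN S) hx ⟨Hyp.pCore_le S hwQ, hzM⟩
    ⟨Hyp.pCore_le S hwQ, hwN⟩ hw2 hw1 e
  obtain ⟨k, hk, hmov⟩ := exists_moved hL S
  exact hmov (by rw [← h.ri S (k • S) (h4.mono (sup_le (le_inf inf_le_left (shared hL hM hLM S hk))
    (le_inf inf_le_left (shared hL hN hno.1.symm S hk))))])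

/-- The 2-core lies in each component. -/
theorem core_le (hL : Cfsg.IsComponent L) (hM : Cfsg.IsComponent M) (hne : L ≠ M) : Cfsg.pCore 2 G ≤ L := by
  obtain ⟨S⟩ : Nonempty (Sylow 2 G) := inferInstance
  obtain ⟨z, hz2, hz1, hzL, hzM, hzQ, -, -, -, -⟩ := exists_z h hL hM hne S
  intro x hx
  have hQ2 := Cfsg.Lib.Components.isPGroup_pCore (G := G) 2
  have hzc : ∀ w ∈ Cfsg.pCore 2 G, w * z = z * w := fun w hw => (commute_core hL hw hzL).symm
  by_cases hx2 : x * x = 1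
  · rcases eq_of_not_fourIn h.core_not_four hzQ hz2 hz1 hx hx2 (hzc x hx) with e | e <;> rw [e]
    · exact one_mem L
    · exact hzL
  exfalso
  obtain ⟨j, hj⟩ := exists_root hQ2 h.core_not_four hzQ hz2 hz1 hzc hx hx2
  have h4 : FourIn (Cfsg.pCore 2 G ⊔ ((S : Subgroup G) ⊓ M)) := fourIn_sup
    (fun a ha b hb => (commute_core hM ha hb.2).symm) (S.2.to_le inf_le_left) (not_four h hL hM hne S)
    (inter_noncyclic hM S) (pow_mem hx _) hzQ ⟨Hyp.pCore_le S hzQ, hzM⟩ hz2 hz1 hj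
  obtain ⟨k, hk, hmov⟩ := exists_moved hL S
  exact hmov (by rw [← h.ri S (k • S) (h4.mono (sup_le (le_inf (Hyp.pCore_le _) (Hyp.pCore_le _))
    (le_inf inf_le_left (shared hL hM hne S hk))))])

omit h in
/-- An isomorphism with `SL(2, 5)` maps the central involution to `-1`. -/
theorem map_z {z : G} (hzL : z ∈ L) (hz2 : z * z = 1) (hz1 : z ≠ 1) (hzc : ∀ k ∈ L, k * z = z * k)
    (e : ↥L ≃* SL₅) : e ⟨z, hzL⟩ = -1 := by
  haveI : Fact (Nat.Prime 5) := ⟨by norm_num⟩
  have hc : e ⟨z, hzL⟩ ∈ center SL₅ := mem_center_iff.2 fun g => by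
    obtain ⟨k, rfl⟩ := e.surjective g
    rw [← map_mul, ← map_mul]
    exact congrArg e (Subtype.ext (hzc k k.2))
  have hm : (-1 : SL₅) ∈ center SL₅ := mem_center_iff.2 fun g => by rw [mul_neg, neg_mul, mul_one, one_mul]
  have h1 : e ⟨z, hzL⟩ ≠ 1 := fun h => hz1 (congrArg Subtype.val (e.injective (h.trans (map_one e).symm)))
  have hm1 : (-1 : SL₅) ≠ 1 := by decide
  obtain ⟨c, d, -, hall⟩ := Nat.card_eq_two_iff.1
    (Cfsg.Lib.GWFour.sl_center_card (F := ZMod 5) (by rw [ZMod.card]; decide))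
  have h' : ∀ y : ↥(center SL₅), y = c ∨ y = d := fun y => by
    have := Set.mem_univ y; rw [← hall] at this; simpa using this
  rcases h' ⟨_, hc⟩ with a | a <;> rcases h' ⟨_, hm⟩ with b | b <;> rcases h' 1 with o | o <;>
    first | exact congrArg Subtype.val (a.trans b.symm) | exact absurd (congrArg Subtype.val (a.trans o.symm)) h1 | exact absurd (congrArg Subtype.val (b.trans o.symm)) hm1

end Components

theorem concl_two (h : Hyp G) {K₁ K₂ : Subgroup G} (h1 : Cfsg.IsComponent K₁) (h2 : Cfsg.IsComponent K₂)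
    (hne : K₁ ≠ K₂) : ConclB G := by
  classical
  haveI : Fact (Nat.Prime 2) := ⟨Nat.prime_two⟩
  haveI : Fact (Nat.Prime 5) := ⟨by norm_num⟩
  obtain ⟨S⟩ : Nonempty (Sylow 2 G) := inferInstance
  obtain ⟨z, hz2, hz1, hz₁, hz₂, hzQ, hzc₁, hzc₂, hzu₁, -⟩ := exists_z h h1 h2 hne S
  obtain ⟨⟨e₁⟩, hab₁⟩ := sl_two_five h h1 S (not_four h h2 h1 hne.symm S) (inter_central h h2 h1 hne.symm)
  obtain ⟨⟨e₂⟩, hab₂⟩ := sl_two_five h h2 S (not_four h h1 h2 hne S) (inter_central h h1 h2 hne)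
  have hcomm : ∀ a ∈ K₁, ∀ b ∈ K₂, a * b = b * a := fun a ha b hb => comm_of_ne h1 h2 hne ha hb
  have hall : ∀ N, Cfsg.IsComponent N → N = K₁ ∨ N = K₂ := fun N hN => at_most_two h h1 h2 hN hne
  -- the product of the components
  set F := Cfsg.layer G with hF
  haveI : F.Normal := inferInstance
  set m : ↥K₁ × ↥K₂ →* G := MonoidHom.noncommCoprod K₁.subtype K₂.subtype (fun a b => show Commute (K₁.subtype a) (K₂.subtype b) from hcomm a a.2 b b.2) with hm
  have hmr : m.range = F := by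
    rw [hm, MonoidHom.noncommCoprod_range, range_subtype, range_subtype]
    refine le_antisymm (sup_le (Cfsg.Lib.Components.comp_le_layer h1) (Cfsg.Lib.Components.comp_le_layer h2))
      (sSup_le fun N hN => ?_)
    rcases hall N hN with rfl | rfl
    · exact le_sup_left
    · exact le_sup_right
  set e : ↥K₁ × ↥K₂ ≃* SL₅ × SL₅ := e₁.prodCongr e₂
  set Z : Subgroup (SL₅ × SL₅) := zpowers ((-1 : SL₅), (-1 : SL₅)) with hZ
  have hneg : ∀ g : SL₅, g * -1 = -1 * g := fun g => by rw [mul_neg, neg_mul, mul_one, one_mul]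
  haveI hZn : Z.Normal := ⟨fun x hx g => by
    obtain ⟨i, rfl⟩ := mem_zpowers_iff.1 hx
    have hc : Commute g ((-1 : SL₅), (-1 : SL₅)) := Prod.ext (hneg g.1) (hneg g.2)
    rw [(hc.zpow_right i).eq, mul_inv_cancel_right]
    exact zpow_mem (mem_zpowers _) i⟩
  have hker : m.ker = zpowers ((⟨z, hz₁⟩ : ↥K₁), (⟨z, hz₂⟩ : ↥K₂)) := by
    refine le_antisymm ?_ (zpowers_le.2 ?_)
    · rintro ⟨a, b⟩ hab
      have hab' : (a : G) * b = 1 := hab
      have hb : (b : G) = (a : G)⁻¹ := eq_inv_of_mul_eq_one_right hab'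
      rcases hzu₁ a a.2 (fun k hk => by
        have := hcomm k hk b b.2
        rw [hb] at this
        calc k * a = a * ((a : G)⁻¹ * k) * a := by group
          _ = a * (k * (a : G)⁻¹) * a := by rw [this]
          _ = a * k := by group) with ha | ha
      · have : (a, b) = 1 := Prod.ext (Subtype.ext ha) (Subtype.ext (by rw [hb, ha, inv_one]; rfl))
        rw [this]; exact one_mem _
      · have : (a, b) = ((⟨z, hz₁⟩ : ↥K₁), (⟨z, hz₂⟩ : ↥K₂)) :=
          Prod.ext (Subtype.ext ha) (Subtype.ext (by rw [hb, ha]; exact inv_eq_of_mul_eq_one_right hz2))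
        rw [this]; exact mem_zpowers _
    · exact hz2
  have heZ : m.ker.map e.toMonoidHom = Z := by
    rw [hker, MonoidHom.map_zpowers, hZ]
    congr 1
    exact Prod.ext (map_z hz₁ hz2 hz1 hzc₁ e₁) (map_z hz₂ hz2 hz1 hzc₂ e₂)
  refine ⟨F, inferInstance, ?_, Z, hZn, rfl, ⟨(MulEquiv.subgroupCongr hmr.symm).trans
    ((QuotientGroup.quotientKerEquivRange m).symm.trans (QuotientGroup.congr m.ker Z e heZ))⟩⟩
  -- the index
  have hFc : centralizer (F : Set G) ≤ F := by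
    have hQ : Cfsg.fittingSubgroup G ≤ F := by
      rw [h.fitting_eq]
      exact (core_le h h1 h2 hne).trans (Cfsg.Lib.Components.comp_le_layer h1)
    have hgF : Cfsg.generalizedFittingSubgroup G = F := sup_eq_left.2 hQ
    have := Cfsg.Lib.Components.centralizer_genFitting_le (G := G)
    rwa [hgF] at this
  set N := normalizer (K₁ : Set G) with hN
  have hFN : F ≤ N := Cfsg.Lib.Components.comp_normal_in_layer h1
  have himg : ∀ g : G, K₁.map (MulAut.conj g).toMonoidHom = K₁ ∨ K₁.map (MulAut.conj g).toMonoidHom = K₂ :=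
    fun g => hall _ (Cfsg.Lib.Components.comp_conj h1 g)
  have hmemN : ∀ g : G, g ∈ N ↔ K₁.map (MulAut.conj g).toMonoidHom = K₁ := fun g =>
    mem_normalizer_iff_map_conj_eq
  have hmul : ∀ a b : G, K₁.map (MulAut.conj (a * b)).toMonoidHom =
      (K₁.map (MulAut.conj b).toMonoidHom).map (MulAut.conj a).toMonoidHom := by
    intro a b
    rw [map_map]
    congr 1
    ext x
    simp [mul_assoc]
  have hNidx : N.index = 1 ∨ N.index = 2 := by
    by_cases htop : ∀ g, g ∈ N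
    · exact Or.inl (index_eq_one.2 ((eq_top_iff' N).2 htop))
    push Not at htop
    obtain ⟨g₀, hg₀⟩ := htop
    have hg₀' : K₁.map (MulAut.conj g₀).toMonoidHom = K₂ := (himg g₀).resolve_left fun e => hg₀ ((hmemN g₀).2 e)
    have hswap : K₂.map (MulAut.conj g₀).toMonoidHom = K₁ := by
      rcases hall _ (Cfsg.Lib.Components.comp_conj h2 g₀) with e | e
      · exact e
      · exact absurd (map_injective (MulAut.conj g₀).injective (hg₀'.trans e.symm)) hne
    refine Or.inr (index_eq_two_iff'.2 ⟨g₀, fun b => ?_⟩)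
    rcases himg b with e | e
    · exact Or.inr ⟨(hmemN b).2 e, fun h' => hne (by
        have := (hmemN _).1 h'
        rw [hmul, e, hg₀'] at this
        exact this.symm)⟩
    · exact Or.inl ⟨(hmemN _).2 (by rw [hmul, e, hswap]), fun h' => hne (((hmemN b).1 h').symm.trans e)⟩
  haveI hNn : N.Normal := by
    rcases hNidx with e | e
    · rw [index_eq_one.1 e]; infer_instance
    · exact normal_of_index_eq_two e
  have hN2 : ∀ g ∈ N, g ∈ normalizer (K₂ : Set G) := fun g hg => by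
    rw [mem_normalizer_iff_map_conj_eq]
    rcases hall _ (Cfsg.Lib.Components.comp_conj h2 g) with e | e
    · exact absurd (map_injective (MulAut.conj g).injective (((hmemN g).1 hg).trans e.symm)) hne
    · exact e
  have hSN : (S : Subgroup G) ⊓ N ≤ F := by
    intro g hg
    have key : ∀ (A B : Subgroup G), Cfsg.IsComponent A → Cfsg.IsComponent B → A ≠ B →
        (∀ P : Sylow 2 ↥A, ∀ x ∈ (P : Subgroup ↥A).map (QuotientGroup.mk' (center ↥A)), x * x = 1) →
        g ∈ normalizer (A : Set G) → ∃ k ∈ A, k⁻¹ * g ∈ centralizer (A : Set G) := by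
      intro A B hA hB hAB habA hgA
      obtain ⟨w, hw2, hw1, hwA, hwB, hwQ, hwcA, hwcB, -, -⟩ := exists_z h hA hB hAB S
      obtain ⟨P, hP⟩ := exists_sylow hA S
      obtain ⟨x, hx, y, -, -, hx1, hx2, -⟩ :=
        exists_pair_four (S.2.to_le inf_le_left) (not_four h hB hA hAB.symm S) (inter_noncyclic hA S)
      obtain ⟨b, hb, c, hc, hbc2, hb1, hb2, hbc⟩ :=
        exists_pair_four (S.2.to_le inf_le_left) (not_four h hA hB hAB S) (inter_noncyclic hB S)
      have hwS := Hyp.pCore_le S hwQ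
      have ex : x * x = w := (eq_of_not_fourIn (not_four h hB hA hAB.symm S) ⟨hwS, hwA⟩ hw2 hw1 (mul_mem hx hx) hx2
        (hwcA _ (mul_mem hx.2 hx.2))).resolve_left hx1
      have eb : b * b = w := (eq_of_not_fourIn (not_four h hA hB hAB S) ⟨hwS, hwB⟩ hw2 hw1 (mul_mem hb hb) hb2
        (hwcB _ (mul_mem hb.2 hb.2))).resolve_left hb1
      refine inner_of_comm h hA S hP (habA P) hg.1 hgA fun n hn => ?_
      have hnS : (n : G) ∈ normalizer ((S : Subgroup G) : Set G) := by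
        have hxb : x * b = b * x := comm_of_ne hA hB hAB hx.2 hb.2
        have hxnA : (n : G) * x * (n : G)⁻¹ ∈ (S : Subgroup G) := hn ⟨x, hx.2⟩ hx.1
        refine h.ri.mem_normalizer (u := x * b) (v := w) (mul_mem hx.1 hb.1) hwS ?_ hw2 (fun e => hbc ?_) hw1
          (fun e => hbc ?_) ?_ ?_ (by rwa [hwcA n n.2, mul_inv_cancel_right])
        · rw [show x * b * (x * b) = x * (b * x) * b by group, ← hxb, show x * (x * b) * b = x * x * (b * b) by group,
            ex, eb, hw2]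
        · rw [eq_inv_of_mul_eq_one_right e]
          exact ((show Commute x c from comm_of_ne hA hB hAB hx.2 hc.2).inv_left).eq
        · have eb' : b = x⁻¹ * w := by rw [← e, inv_mul_cancel_left]
          rw [eb']
          exact (((show Commute x c from comm_of_ne hA hB hAB hx.2 hc.2).inv_left).mul_left
            (show Commute w c from (hwcB c hc.2).symm)).eq
        · rw [show x * b * w = x * (b * w) by group, hwcB b hb.2, ← mul_assoc, hwcA x hx.2, mul_assoc]
        · rw [show (n : G) * (x * b) * (n : G)⁻¹ = (n : G) * x * (b * (n : G)⁻¹) by group,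
            ← ((show Commute (n : G) b from comm_of_ne hA hB hAB n.2 hb.2).inv_left).eq, ← mul_assoc]
          exact mul_mem hxnA hb.1
      rw [show g * (n : G) * g⁻¹ * (n : G)⁻¹ = g * ((n : G) * g⁻¹ * (n : G)⁻¹) by group]
      exact (S : Subgroup G).mul_mem hg.1 ((mem_normalizer_iff.1 hnS g⁻¹).1 ((S : Subgroup G).inv_mem hg.1))
    obtain ⟨k₁, hk₁, hc₁⟩ := key K₁ K₂ h1 h2 hne hab₁ hg.2
    obtain ⟨k₂, hk₂, hc₂⟩ := key K₂ K₁ h2 h1 hne.symm hab₂ (hN2 g hg.2)
    have hcom : k₁⁻¹ * k₂⁻¹ = k₂⁻¹ * k₁⁻¹ := hcomm _ (inv_mem hk₁) _ (inv_mem hk₂)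
    have hm₁ : k₂⁻¹ ∈ centralizer (K₁ : Set G) :=
      mem_centralizer_iff.2 fun a ha => hcomm a ha _ (inv_mem hk₂)
    have hm₂ : k₁⁻¹ ∈ centralizer (K₂ : Set G) :=
      mem_centralizer_iff.2 fun b hb => (hcomm _ (inv_mem hk₁) b hb).symm
    have hc : k₂⁻¹ * (k₁⁻¹ * g) ∈ centralizer (F : Set G) := by
      have hle : F ≤ centralizer ({k₂⁻¹ * (k₁⁻¹ * g)} : Set G) := by
        rw [← hmr, hm, MonoidHom.noncommCoprod_range, range_subtype, range_subtype]
        refine sup_le (fun a ha => mem_centralizer_singleton_iff.2 ?_) (fun b hb => mem_centralizer_singleton_iff.2 ?_)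
        · exact mem_centralizer_iff.1 (mul_mem hm₁ hc₁) a ha
        · rw [show k₂⁻¹ * (k₁⁻¹ * g) = k₁⁻¹ * (k₂⁻¹ * g) by rw [← mul_assoc, ← hcom, mul_assoc]]
          exact mem_centralizer_iff.1 (mul_mem hm₂ hc₂) b hb
      exact mem_centralizer_iff.2 fun a ha => mem_centralizer_singleton_iff.1 (hle ha)
    rw [show g = k₁ * (k₂ * (k₂⁻¹ * (k₁⁻¹ * g))) by group]
    exact mul_mem (Cfsg.Lib.Components.comp_le_layer h1 hk₁)
      (mul_mem (Cfsg.Lib.Components.comp_le_layer h2 hk₂) (hFc hc))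
  have hodd : Odd (F.relIndex N) := by
    obtain ⟨P, hP⟩ := Cfsg.Agent.S0542.result 2 N (Subgroup.Normal.isSubnormal inferInstance) S
    rw [← Nat.not_even_iff_odd, even_iff_two_dvd]
    intro h2'
    refine P.not_dvd_index (h2'.trans ?_)
    rw [hP]
    exact index_dvd_of_le fun x hx => mem_subgroupOf.2 (hSN ⟨mem_subgroupOf.1 hx, x.2⟩)
  have hidx := relIndex_mul_index hFN
  rcases hNidx with e | e <;> rw [e] at hidx
  · exact Or.inl (by rw [← hidx, mul_one]; exact hodd)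
  · exact Or.inr ⟨_, hodd, by rw [← hidx, mul_comm]⟩

end Cfsg.Lib.RankOneInter
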